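import Groth.Agent.EtQC.PushAff
import Groth.Agent.EtQC.EtPullExact

/-!
Direct images of quasi-coherent modules along morphisms affine over the affine objects of the etale site.
-/

set_option autoImplicit false
set_option linter.style.haveILetI false
set_option backward.isDefEq.respectTransparency false

universe u

noncomputable section

open CategoryTheory CategoryTheory.Limits AlgebraicGeometry Opposite AlgSp TensorProduct
open Groth.Agent.EtQC

namespace Groth.Agent.EtVan

variable {S : Scheme.{u}} {X Y : Sp S} {f : X ⟶ Y} (hf : Representable f)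

theorem isQuasicoherent_push_of_isAffine_bc
    (hbc : ∀ E : EtOver Y, IsAffine E.obj.left.left → IsAffine ((EtOver.bc hf).obj E).obj.left.left)
    (M : ModEt X) [M.IsQuasicoherent] :
    ((pushModEt hf).obj M).IsQuasicoherent := by
  refine isQuasicoherent_of_isBaseChange fun {E V} _ _ g => ?_
  let N := (pushModEt hf).obj M
  let E' := (EtOver.bc hf).obj E
  let V' := (EtOver.bc hf).obj V
  let g' : V' ⟶ E' := (EtOver.bc hf).map g
  haveI : IsAffine E'.obj.left.left := hbc E inferInstance
  haveI : IsAffine V'.obj.left.left := hbc V inferInstance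
  letI : Algebra (R E) (R E') := (pushRes hf E).toAlgebra
  letI : Algebra (Rg g) (Rg g') := (pushRes hf V).toAlgebra
  letI : Algebra (R E) (Rg g') := ((algebraMap (R E') (Rg g')).comp (algebraMap (R E) (R E'))).toAlgebra
  haveI : IsScalarTower (R E) (R E') (Rg g') := IsScalarTower.of_algebraMap_eq' rfl
  have hcomm : ∀ a, res g' (pushRes hf E a) = pushRes hf V (res g a) := fun a => by
    have h := congrArg (fun k => k.appTop.hom a.down) (isPullback_bc hf g).w
    simp only [Scheme.Hom.comp_appTop, CommRingCat.hom_comp, RingHom.comp_apply] at h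
    exact congrArg ULift.up h
  haveI : IsScalarTower (R E) (Rg g) (Rg g') := IsScalarTower.of_algebraMap_eq fun a => hcomm a
  haveI : Algebra.IsPushout (R E) (Rg g) (R E') (Rg g') := by
    haveI : IsAffine (hf.pullback E.obj.hom).left := ‹IsAffine E'.obj.left.left›
    have hp := isPushout_appTop_of_isPullback (isPullback_bc hf g).flip
    exact isPushout_of_ringEquiv _ _ _ _ hp ULift.ringEquiv.symm ULift.ringEquiv.symm ULift.ringEquiv.symm
      ULift.ringEquiv.symm (fun a => rfl) (fun a => rfl) (fun a => rfl) (fun a => rfl)
  letI : Module (R E) (sectModEt M E') := Module.compHom _ (algebraMap (R E) (R E'))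
  haveI : IsScalarTower (R E) (R E') (sectModEt M E') := IsScalarTower.of_algebraMap_smul fun _ _ => rfl
  let Φ : Rg g ⊗[R E] sectModEt M E' →+ sectModEt M V' :=
    (LinearMap.liftBaseChange (Rg g) (resL N g)).toAddMonoidHom
  have hΦ : ∀ (b : Rg g) (m : sectModEt M E'),
      Φ (b ⊗ₜ m) = (show Mg M g' from algebraMap (Rg g) (Rg g') b • resL M g' m) := fun b m =>
    LinearMap.liftBaseChange_tmul (Rg g) (resL N g) b m
  have hb : Function.Bijective Φ := bijective_lift_of_pushout (resL M g') (isBaseChange_res (M := M) g') Φ hΦ
  exact IsBaseChange.of_equiv (LinearEquiv.ofBijective (LinearMap.liftBaseChange (Rg g) (resL N g)) hb) fun m => by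
    show LinearMap.liftBaseChange (Rg g) (resL N g) ((1 : Rg g) ⊗ₜ m) = _
    rw [LinearMap.liftBaseChange_tmul, one_smul]

theorem isQuasicoherent_restr (he : IsEtaleMor f) (G : ModEt Y) [G.IsQuasicoherent] :
    ((SheafOfModules.pushforward.{u + 1} (postRingHom he)).obj G).IsQuasicoherent := by
  refine isQuasicoherent_of_isBaseChange fun {E V} _ _ g => ?_
  haveI : IsAffine ((EtOver.postcomp f he).obj E).obj.left.left := ‹IsAffine E.obj.left.left›
  haveI : IsAffine ((EtOver.postcomp f he).obj V).obj.left.left := ‹IsAffine V.obj.left.left›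
  exact isBaseChange_res (M := G) ((EtOver.postcomp f he).map g)

end Groth.Agent.EtVan
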