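import Groth.Agent.EtVan.Step
import Groth.Agent.EtVan.PushQC
import Groth.Agent.EtQC.Coherent

/-!
Higher cohomology of quasi-coherent modules vanishes on affine objects of the small etale site.
-/

set_option autoImplicit false
set_option linter.style.haveILetI false
set_option backward.isDefEq.respectTransparency false

universe u

noncomputable section

open CategoryTheory CategoryTheory.Limits CategoryTheory.Abelian AlgebraicGeometry Opposite AlgSp
open Groth.Agent.EtQC

namespace Groth.Agent.EtVan

variable {S : Scheme.{u}} {X : Sp S}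

/-- finite biproducts of modules -/
theorem hasFiniteBiproducts_modEt (X : Sp S) : HasFiniteBiproducts (ModEt X) :=
  HasFiniteBiproducts.of_hasFiniteProducts

attribute [local instance] hasFiniteBiproducts_modEt

/-- the top object of the site of a representable sheaf -/
def topObj (T : Over S) : EtOver ((yon S).obj T) :=
  EtOver.mk (𝟙 _) Groth.Agent.AlgSpLib.repWith_id'

/-- it is terminal -/
def isTerminalTopObj (T : Over S) : IsTerminal (topObj T) :=
  IsTerminal.ofUniqueHom
    (fun W => EtOver.homMk ((yon S).preimage W.obj.hom) (by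
      show (yon S).map _ ≫ 𝟙 _ = _
      rw [Category.comp_id, (yon S).map_preimage]))
    (fun W m => EtOver.hom_ext _ _ ((yon S).map_injective (by
      show (yon S).map m.hom.left = (yon S).map ((yon S).preimage W.obj.hom)
      rw [(yon S).map_preimage, ← EtOver.w m]
      exact (Category.comp_id _).symm)))

/-- an object is the image of the top object of its own site -/
def objIso (E : EtOver X) :
    E ≅ (EtOver.postcomp E.obj.hom (isEtaleMor_hom E)).obj (topObj E.obj.left) where
  hom := EtOver.homMk (E := E) (E' := (EtOver.postcomp E.obj.hom (isEtaleMor_hom E)).obj (topObj E.obj.left))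
    (𝟙 _) (by
      rw [(yon S).map_id]
      show 𝟙 _ ≫ 𝟙 _ ≫ E.obj.hom = E.obj.hom
      rw [Category.id_comp, Category.id_comp])
  inv := EtOver.homMk (E := (EtOver.postcomp E.obj.hom (isEtaleMor_hom E)).obj (topObj E.obj.left)) (E' := E)
    (𝟙 _) (by rw [(yon S).map_id]; rfl)
  hom_inv_id := EtOver.hom_ext _ _ (Category.id_comp _)
  inv_hom_id := EtOver.hom_ext _ _ (Category.id_comp _)

/-- `M ↦ M (- × V)` on modules -/
abbrev hMod (V : EtOver X) (M : ModEt X) : ModEt X :=
  (pushModEt (representable_hom V)).obj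
    ((SheafOfModules.pushforward.{u + 1} (postRingHom (isEtaleMor_hom V))).obj M)

/-- the unit on modules -/
abbrev etaMod (V : EtOver X) (M : ModEt X) : M ⟶ hMod V M :=
  (restrPushAdj (representable_hom V) (isEtaleMor_hom V)).unit.app M

theorem toAb_etaMod (V : EtOver X) (M : ModEt X) :
    (toAbEt X).map (etaMod V M) = etaH V ((toAbEt X).obj M) := by
  refine Sheaf.hom_ext (NatTrans.ext (funext fun W => ?_))
  ext m
  rfl

/-- a map into the product with `V` -/
def timesLift (V : EtOver X) {Z W : EtOver X} (u : Z ⟶ W) (v : Z ⟶ V) : Z ⟶ (times V).obj W :=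
  EtOver.homMk (E' := (times V).obj W)
    ((representable_hom V).lift ((yon S).map v.hom.left) u.hom.left ((EtOver.w v).trans (EtOver.w u).symm)) (by
      show (yon S).map _ ≫ (representable_hom V).fst W.obj.hom ≫ V.obj.hom = Z.obj.hom
      rw [← Category.assoc, (representable_hom V).lift_fst]
      exact EtOver.w v)

theorem timesLift_fst (V : EtOver X) {Z W : EtOver X} (u : Z ⟶ W) (v : Z ⟶ V) :
    timesLift V u v ≫ fstProd V W = u := EtOver.hom_ext _ _ (by
  show (timesLift V u v).hom.left ≫ (fstProd V W).hom.left = u.hom.left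
  rw [show (fstProd V W).hom.left = (representable_hom V).snd W.obj.hom from postBcAdj_counit _ _ W]
  exact (representable_hom V).lift_snd _ _ _)

theorem mono_lift_etaMod {E0 : EtOver X} (hT : IsTerminal E0) {k : ℕ} (V : Fin k → EtOver X)
    (hc : ∀ x : E0.obj.left.left, ∃ a, x ∈ Set.range (hT.from (V a)).hom.left.left) (M : ModEt X) :
    Mono (biproduct.lift fun a => etaMod (V a) M) := by
  refine Preadditive.mono_of_cancel_zero _ fun {G} g hg => ?_
  have h0 : ∀ a, g ≫ etaMod (V a) M = 0 := fun a => by
    have h := congrArg (· ≫ biproduct.π (fun a => hMod (V a) M) a) hg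
    simpa using h
  refine SheafOfModules.hom_ext (PresheafOfModules.hom_ext fun W => ?_)
  ext m
  refine eq_of_cover (M := M) (fun a => pbFst (hT.from W.unop) (hT.from (V a))) (fun x => ?_) fun a => ?_
  · obtain ⟨a, y, hy⟩ := hc ((hT.from W.unop).hom.left.left x)
    obtain ⟨z, hz, -⟩ := exists_pb_point (hT.from W.unop) (hT.from (V a)) x y hy.symm
    exact ⟨a, z, hz⟩
  · let u := pbFst (hT.from W.unop) (hT.from (V a))
    let v := pbSnd (hT.from W.unop) (hT.from (V a))
    have h1 : resM M (fstProd (V a) W.unop) (g.val.app W m) = 0 :=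
      congrArg (fun q : G ⟶ hMod (V a) M => q.val.app W m) (h0 a)
    have h2 := congrArg (resM M (timesLift (V a) u v)) h1
    rw [map_zero, ← resM_comp, timesLift_fst] at h2
    exact h2.trans (map_zero (resM M u)).symm

/-- the image of a short exact sequence of modules with quasi-coherent first term -/
theorem toAb_shortExact {T : ShortComplex (ModEt X)} (hT : T.ShortExact) [T.X₁.IsQuasicoherent] :
    (T.map (toAbEt X)).ShortExact := by
  haveI := hT.mono_f
  haveI : PreservesFiniteLimits (toAbEt X) := by
    haveI : PreservesFiniteLimits (toAbEt X ⋙ sheafToPresheaf (etTop X) AddCommGrpCat.{u + 1}) :=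
      inferInstanceAs (PreservesFiniteLimits
        (SheafOfModules.toSheaf (OEtRing X) ⋙ sheafToPresheaf (etTop X) AddCommGrpCat.{u + 1}))
    exact preservesFiniteLimits_of_reflects_of_preserves _ (sheafToPresheaf (etTop X) AddCommGrpCat.{u + 1})
  refine { exact := ShortComplex.exact_of_f_is_kernel _ (KernelFork.mapIsLimit _ hT.fIsKernel (toAbEt X))
           mono_f := inferInstanceAs (Mono ((toAbEt X).map T.f))
           epi_g := ?_ }
  refine epi_of_surjective_affine _ fun W hW => ?_
  haveI := hW
  exact appM_g_surjective hT W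

theorem isQuasicoherent_biproduct {k : ℕ} (N : Fin k → ModEt X) (hN : ∀ a, (N a).IsQuasicoherent) :
    (⨁ N).IsQuasicoherent := by
  haveI := isQuasicoherent_colimit (Discrete.functor N) (fun j => hN j.as)
  exact (SheafOfModules.isQuasicoherent (OEtRing X)).prop_of_iso
    ((colimit.isColimit _).coconePointUniqueUpToIso (biproduct.isColimit N)) this

/-- the induction step over a terminal object -/
theorem subsingleton_ext_terminal (p : ℕ) (E0 : EtOver X) (hT : IsTerminal E0) [IsAffine E0.obj.left.left]
    (ih : ∀ (M : ModEt X), M.IsQuasicoherent → ∀ (W : EtOver X), IsAffine W.obj.left.left → ∀ i : ℕ, i < p →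
      Subsingleton (Ext.{u + 1} ((P X).obj W) ((toAbEt X).obj M) (i + 1)))
    (M : ModEt X) [hM : M.IsQuasicoherent] :
    Subsingleton (Ext.{u + 1} ((P X).obj E0) ((toAbEt X).obj M) (p + 1)) := by
  refine subsingleton_of_forall_eq 0 fun ξ => ?_
  obtain ⟨k, V, h, hV, hc, hk⟩ := exists_kill_cover ξ
  have hh : ∀ a, h a = hT.from (V a) := fun a => hT.hom_ext _ _
  let N : Fin k → ModEt X := fun a => hMod (V a) M
  haveI hN : ∀ a, (N a).IsQuasicoherent := fun a => by
    haveI := hV a
    haveI := isQuasicoherent_restr (isEtaleMor_hom (V a)) M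
    exact isQuasicoherent_push_of_isAffine_bc (representable_hom (V a))
      (fun W hW => by
        haveI := hW
        exact isAffine_times (V a) hT W) _
  let f : M ⟶ ⨁ N := biproduct.lift fun a => etaMod (V a) M
  haveI : Mono f := mono_lift_etaMod hT V (fun x => by
    obtain ⟨a, ha⟩ := hc x
    exact ⟨a, hh a ▸ ha⟩) M
  haveI := isQuasicoherent_biproduct N hN
  haveI : (cokernel f).IsQuasicoherent := isQuasicoherent_cokernel f
  let T : ShortComplex (ModEt X) := ShortComplex.mk f (cokernel.π f) (cokernel.condition f)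
  have hTT : T.ShortExact :=
    ShortComplex.ShortExact.mk' (ShortComplex.exact_of_g_is_cokernel _ (cokernelIsCokernel f))
      inferInstance inferInstance
  haveI : T.X₁.IsQuasicoherent := hM
  have hA := toAb_shortExact hTT
  haveI : (toAbEt X).Additive := inferInstance
  let φ : (M ⟶ ⨁ N) →+ Ext.{u + 1} ((P X).obj E0) ((toAbEt X).obj (⨁ N)) (p + 1) :=
    AddMonoidHom.mk' (fun q => ξ.comp (Ext.mk₀ ((toAbEt X).map q)) (add_zero (p + 1))) fun a b => by
      rw [Functor.map_add, Ext.mk₀_add, Ext.comp_add]
  have hη : ∀ a, ξ.comp (Ext.mk₀ ((toAbEt X).map (etaMod (V a) M))) (add_zero (p + 1)) = 0 := fun a => by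
    haveI := hV a
    rw [toAb_etaMod]
    exact comp_etaH_eq_zero hT p _ (fun W hW i hi => ih M hM W hW i hi) ξ (hh a ▸ hk a)
  have h0 : φ f = 0 := by
    rw [show f = ∑ a, etaMod (V a) M ≫ biproduct.ι N a from biproduct.lift_eq, map_sum]
    refine Finset.sum_eq_zero fun a _ => ?_
    show ξ.comp (Ext.mk₀ ((toAbEt X).map (etaMod (V a) M ≫ biproduct.ι N a))) (add_zero (p + 1)) = 0
    rw [Functor.map_comp, ← Ext.mk₀_comp_mk₀, ← Ext.comp_assoc _ _ _ (add_zero (p + 1)) (add_zero 0) (by omega),
      hη a, Ext.zero_comp]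
  obtain ⟨x₃, hx₃⟩ := Ext.covariant_sequence_exact₁ ((P X).obj E0) hA ξ h0 rfl
  rw [← hx₃]
  obtain _ | p := p
  · obtain ⟨ψ, rfl⟩ := (Ext.mk₀_bijective _ _).2 x₃
    obtain ⟨t, ht⟩ := appM_g_surjective hTT E0 (σ ψ)
    have : ψ = σ.symm (t : sect ((toAbEt X).obj T.X₂) E0) ≫ (T.map (toAbEt X)).g := by
      apply σ.injective
      rw [σ_comp, Equiv.apply_symm_apply]
      exact ht.symm
    rw [this, ← Ext.mk₀_comp_mk₀, Ext.comp_assoc _ _ _ (zero_add 0) (zero_add 1) (by omega), hA.comp_extClass,
      Ext.comp_zero]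
  · haveI : Subsingleton (Ext.{u + 1} ((P X).obj E0) (T.map (toAbEt X)).X₃ (p + 1)) :=
      ih (cokernel f) inferInstance E0 inferInstance p (Nat.lt_succ_self p)
    rw [Subsingleton.elim x₃ 0, Ext.zero_comp]

/-- higher cohomology of quasi-coherent modules vanishes on affine objects -/
theorem subsingleton_ext_qcoh (p : ℕ) :
    ∀ (X : Sp S) (M : ModEt X), M.IsQuasicoherent → ∀ (E : EtOver X), IsAffine E.obj.left.left →
      Subsingleton (Ext.{u + 1} ((P X).obj E) ((toAbEt X).obj M) (p + 1)) := by
  induction p using Nat.strong_induction_on with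
  | _ p ih =>
    intro X M hM E hE
    haveI := isQuasicoherent_restr (isEtaleMor_hom E) M
    haveI : IsAffine (topObj E.obj.left).obj.left.left := hE
    exact subsingleton_ext_of_restr E.obj.hom (isEtaleMor_hom E) (topObj E.obj.left) (objIso E) _ (p + 1)
      (subsingleton_ext_terminal p _ (isTerminalTopObj E.obj.left) (fun M' hM' W hW i hi => ih i hi _ M' hM' W hW)
        ((SheafOfModules.pushforward.{u + 1} (postRingHom (isEtaleMor_hom E))).obj M))

end Groth.Agent.EtVan
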