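import Groth.Agent.EtVan.MVVanish
import Groth.Agent.EtVan.Main
import Groth.Agent.EtQC.MVPush
import Groth.Agent.EtQC.ExtSub
import Groth.Agent.AlgSpLib.ProperRange

/-!
Vanishing bounds for quasi-coherent cohomology pass along elementary distinguished squares.
-/

set_option autoImplicit false
set_option linter.style.haveILetI false
set_option backward.isDefEq.respectTransparency false

universe u

noncomputable section

open CategoryTheory CategoryTheory.Limits CategoryTheory.Abelian AlgebraicGeometry Opposite AlgSp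
open Groth.Agent.AlgSpLib Groth.Agent.EtQC

namespace Groth.Agent.EtVan

variable {S : Scheme.{u}}

/-- quasi-coherent cohomology vanishes from degree `n` on -/
def Bnd (X : Sp S) (n : ℕ) : Prop :=
  ∀ M : ModEt X, M.IsQuasicoherent → ∀ q : ℕ, n ≤ q → Subsingleton (HModEt X M q)

/-- the converse of `subsingleton_HEt` -/
theorem subsingleton_ext_of_HEt {X : Sp S} {E0 : EtOver X} (hT : IsTerminal E0) (G : AbEt X) (n : ℕ)
    (h : Subsingleton (HEt X G n)) : Subsingleton (Ext.{u + 1} ((P X).obj E0) G n) := by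
  obtain ⟨e⟩ := nonempty_const_iso hT
  refine subsingleton_of_forall_eq 0 fun x => ?_
  have : x = (Ext.mk₀ e.inv).comp ((Ext.mk₀ e.hom).comp x (zero_add n)) (zero_add n) := by
    rw [Ext.mk₀_comp_mk₀_assoc, e.inv_hom_id, Ext.mk₀_id_comp]
  rw [this, h.elim ((Ext.mk₀ e.hom).comp x (zero_add n)) 0, Ext.comp_zero]

/-- an object given by an isomorphism is terminal -/
def isTerminalOfIso {X : Sp S} {T : Over S} (e : (yon S).obj T ≅ X) :
    IsTerminal (EtOver.mk e.hom (repWith_of_isIso e.hom)) :=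
  IsTerminal.ofUniqueHom
    (fun W => EtOver.homMk ((yon S).preimage (W.obj.hom ≫ e.inv)) (by
      show (yon S).map _ ≫ e.hom = _
      rw [(yon S).map_preimage, Category.assoc, e.inv_hom_id, Category.comp_id]))
    (fun W m => EtOver.hom_ext _ _ ((yon S).map_injective (by
      show (yon S).map m.hom.left = (yon S).map ((yon S).preimage _)
      rw [(yon S).map_preimage, Iso.eq_comp_inv]
      exact EtOver.w m)))

/-- an open immersion is etale -/
theorem isEtaleMor_of_open {F G : Sp S} {j : F ⟶ G} (hj : RepWith @IsOpenImmersion j) : IsEtaleMor j :=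
  isEtaleMor_of_repWith' (repWith_mono (P := @IsOpenImmersion) (Q := @Etale)
    (fun _ _ f hf => by haveI : IsOpenImmersion f := hf; infer_instance) hj)

/-- an elementary distinguished square gives the data of the vanishing criterion -/
theorem mvData_of_elemDistSq {U W : Space S} (j : U ⟶ W) {V : EtOver W.obj}
    (hsq : IsElemDistSq j.hom V.obj.hom) :
    MVData (isEtaleMor_of_open hsq.1) ((postBcAdj hsq.1.1 (isEtaleMor_of_open hsq.1)).counit.app V)
      (Set.range (Points.map j.hom)) := by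
  refine ⟨Groth.Agent.ElemSq.mono_of_open hsq.1, ?_, fun T x hx => ?_, fun T x hx => ?_, ?_, fun T₁ b => ?_,
    ⟨_, ⟨𝟙 _⟩⟩⟩
  · haveI : IsOpenImmersion (hsq.1.1.snd V.obj.hom).left :=
      hsq.1.2 V.obj.hom _ _ (hsq.1.1.isPullback V.obj.hom)
    refine ⟨fun {Z} a b h => EtOver.hom_ext _ _ (Over.OverMorphism.ext ((cancel_mono (hsq.1.1.snd V.obj.hom).left).1 ?_))⟩
    have h' := congrArg (fun k => k.hom.left.left) h
    simpa [EtQC.postBcAdj_counit] using h'
  · refine ⟨_, (postBcAdj hsq.1.1 (isEtaleMor_of_open hsq.1)).counit.app T, ?_⟩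
    have h₀ : Points.ofPt (𝟙 ((yon S).obj T.obj.left)) x ∈ Points.map T.obj.hom ⁻¹' Set.range (Points.map j.hom) := by
      show Points.map T.obj.hom (Points.ofPt (𝟙 _) x) ∈ Set.range (Points.map j.hom)
      rwa [Points.map_ofPt, Category.id_comp]
    rw [← range_map_of_isPullback (hsq.1.1.isPullback T.obj.hom)] at h₀
    obtain ⟨p, hp⟩ := h₀
    obtain ⟨u, rfl⟩ := (Points.schemeHomeo _).surjective p
    refine ⟨u, (Points.schemeHomeo T.obj.left).injective ?_⟩
    rw [EtQC.postBcAdj_counit]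
    refine Eq.trans ?_ hp
    show Points.ofPt (𝟙 _) ((hsq.1.1.snd T.obj.hom).left u) =
      Points.map ((yon S).map (hsq.1.1.snd T.obj.hom)) (Points.ofPt (𝟙 _) u)
    rw [Points.map_ofPt, Category.id_comp]
    exact ((ofPt_comp (hsq.1.1.snd T.obj.hom) (𝟙 _) u).symm.trans (by rw [Category.comp_id]))
  · obtain hU | ⟨z, hz⟩ := EtQC.mem_range_of_elemDistSq hsq (Points.ofPt T.obj.hom x)
    · exact absurd hU hx
    obtain ⟨v, rfl⟩ := (Points.schemeHomeo V.obj.left).surjective z
    have hv : Points.ofPt V.obj.hom v = Points.ofPt T.obj.hom x := by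
      rw [← hz]
      show _ = Points.map V.obj.hom (Points.ofPt (𝟙 _) v)
      rw [Points.map_ofPt, Category.id_comp]
    obtain ⟨T', -, g₁, g₂, w, hw, -⟩ := EtQC.exists_common T V x v hv.symm
    exact ⟨T', g₁, ⟨w, hw⟩, ⟨g₂⟩⟩
  · have h := EtQC.nearEq_of_elemDistSq (W₁ := U) (W₂ := W) j (𝟙 W)
      ((repWith_isMultiplicative (S := S) @IsOpenImmersion).id_mem _) (V := V.obj.left) V.obj.hom hsq V rfl
      (by
        simp only [eqToHom_refl, CategoryTheory.Functor.map_id, Category.id_comp]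
        exact (Category.comp_id _).symm)
    rwa [Category.comp_id] at h
  · refine ⟨(EtOver.postcomp j.hom (isEtaleMor_of_open hsq.1)).map
      ((postBcAdj hsq.1.1 (isEtaleMor_of_open hsq.1)).homEquiv T₁ V b), ?_⟩
    exact ((postBcAdj hsq.1.1 (isEtaleMor_of_open hsq.1)).homEquiv_counit ..).symm.trans
      (((postBcAdj hsq.1.1 (isEtaleMor_of_open hsq.1)).homEquiv T₁ V).symm_apply_apply b)

/-- restricted quasi-coherent classes vanish -/
theorem subsingleton_restr_of_bnd {X Y : Sp S} (g : X ⟶ Y) (hg : IsEtaleMor g) {n : ℕ} (h : Bnd X n) (M : ModEt Y)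
    [M.IsQuasicoherent] (q : ℕ) (hq : n ≤ q) :
    Subsingleton (Ext.{u + 1} (constZ X) ((restr g hg).obj ((toAbEt Y).obj M)) q) :=
  h ((SheafOfModules.pushforward.{u + 1} (postRingHom hg)).obj M) (isQuasicoherent_restr hg M) q hq

/-- classes on an object whose space has a bound vanish -/
theorem subsingleton_ext_of_bnd {X Y : Sp S} (g : X ⟶ Y) (hg : IsEtaleMor g) {T : Over S} (ι : (yon S).obj T ≅ X)
    (Z : EtOver Y) (e : Z ≅ (EtOver.postcomp g hg).obj (EtOver.mk ι.hom (repWith_of_isIso ι.hom)))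
    {n : ℕ} (h : Bnd X n) (M : ModEt Y) [M.IsQuasicoherent] (q : ℕ) (hq : n ≤ q) :
    Subsingleton (Ext.{u + 1} ((P Y).obj Z) ((toAbEt Y).obj M) q) :=
  subsingleton_ext_of_restr g hg (EtOver.mk ι.hom (repWith_of_isIso ι.hom)) e _ q
    (subsingleton_ext_of_HEt (isTerminalOfIso ι) _ q (subsingleton_restr_of_bnd g hg h M q hq))

/-- the criterion, stated for cohomology -/
theorem subsingleton_H_of_mv {U W : Sp S} {j : U ⟶ W} {he : IsEtaleMor j} {V Z : EtOver W} {q : Z ⟶ V}
    {A : Set (Points W)} (D : MVData he q A) (G : AbEt W) (m : ℕ)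
    (hU : Subsingleton (Ext.{u + 1} (constZ U) ((restr j he).obj G) (m + 2)))
    (hV : Subsingleton (Ext.{u + 1} ((P W).obj V) G (m + 2)))
    (hZ : Subsingleton (Ext.{u + 1} ((P W).obj Z) G (m + 1))) : Subsingleton (HEt W G (m + 2)) :=
  subsingleton_of_forall_eq 0 fun ξ => eq_zero_of_mv D m G ξ (hU.elim _ _) (hV.elim _ _) hZ

/-- an isomorphism of objects with the same underlying scheme -/
def objIsoOfEq {Y : Sp S} {T : Over S} {a b : (yon S).obj T ⟶ Y} (ha : RepWith @Etale a) (hb : RepWith @Etale b)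
    (h : a = b) : EtOver.mk a ha ≅ EtOver.mk b hb := eqToIso (by subst h; rfl)

/-- bounds pass along a square with affine etale part -/
theorem bnd_of_square {U W UV : Space S} (j : U ⟶ W) {V : EtOver W.obj} [hV : IsAffine V.obj.left.left]
    (hsq : IsElemDistSq j.hom V.obj.hom) (p : UV.obj ⟶ U.obj) (p' : UV.obj ⟶ (yon S).obj V.obj.left)
    (sq : IsPullback p p' j.hom V.obj.hom) {nU nUV : ℕ} (hU : Bnd U.obj nU) (hUV : Bnd UV.obj nUV) :
    Bnd W.obj (max nU (nUV + 2)) := by
  intro M hM q hq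
  obtain ⟨m, rfl⟩ : ∃ m, q = m + 2 := ⟨q - 2, by omega⟩
  have he := isEtaleMor_of_open hsq.1
  let ι : (yon S).obj (hsq.1.1.pullback V.obj.hom) ≅ UV.obj :=
    (hsq.1.1.isPullback V.obj.hom).isoIsPullback _ _ sq
  let Z : EtOver W.obj := (EtOver.postcomp j.hom he).obj ((EtOver.bc hsq.1.1).obj V)
  have hι : ι.hom ≫ p ≫ j.hom = Z.obj.hom := by
    rw [← Category.assoc, IsPullback.isoIsPullback_hom_fst]
    rfl
  have hg : IsEtaleMor (p ≫ j.hom) := by
    have h := isEtaleMor_of_repWith' (repWith_comp (repWith_of_isIso ι.inv) Z.property)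
    rwa [← hι, Iso.inv_hom_id_assoc] at h
  haveI := hM
  have hι' : RepWith @Etale (ι.hom ≫ p ≫ j.hom) := hι ▸ Z.property
  have e : Z ≅ (EtOver.postcomp (p ≫ j.hom) hg).obj (EtOver.mk ι.hom (repWith_of_isIso ι.hom)) :=
    objIsoOfEq Z.property hι' hι.symm
  exact subsingleton_H_of_mv (mvData_of_elemDistSq j hsq) ((toAbEt W.obj).obj M) m
    (subsingleton_restr_of_bnd j.hom he hU M (m + 2) (by omega))
    (subsingleton_ext_qcoh (m + 1) W.obj M hM V hV)
    (subsingleton_ext_of_bnd (p ≫ j.hom) hg ι Z e hUV M (m + 1) (by omega))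

end Groth.Agent.EtVan
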