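import Groth.Agent.EtVan.CechTop
import Groth.Agent.EtVan.MVBound
import Groth.Agent.EtQC.UnitIdeal

/-!
Quasi-coherent cohomology vanishes above the dimension: the local statement and the induction step.
-/

set_option autoImplicit false
set_option linter.style.haveILetI false
set_option backward.isDefEq.respectTransparency false

universe u

noncomputable section

open CategoryTheory CategoryTheory.Limits CategoryTheory.Abelian AlgebraicGeometry Opposite AlgSp
open Groth.Agent.AlgSpLib Groth.Agent.EtQC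

namespace Groth.Agent.EtVan

variable {S : Scheme.{u}}

theorem mem_basicOpen_of_radical {T : Scheme.{u}} {s : Set Γ(T, ⊤)} {x : Γ(T, ⊤)}
    (hx : x ∈ (Ideal.span s).radical) {z : T} (hz : z ∈ T.basicOpen x) : ∃ y ∈ s, z ∈ T.basicOpen y := by
  by_contra h
  push Not at h
  let φ := (T.presheaf.germ ⊤ z trivial).hom
  have hle : Ideal.span s ≤ (IsLocalRing.maximalIdeal _).comap φ :=
    Ideal.span_le.2 fun y hy hu => h y hy ((T.mem_basicOpen'' y z).2 ⟨trivial, hu⟩)
  obtain ⟨_, hu⟩ := (T.mem_basicOpen'' x z).1 hz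
  exact (IsLocalRing.notMem_maximalIdeal.2 hu) (((Ideal.IsPrime.comap φ).radical).le (Ideal.radical_mono hle hx))

variable {X : Sp S} {E : EtOver X}

theorem exists_list_uniD [IsAffine E.obj.left.left] {d : ℕ}
    (hA : KrullCL.ChainLT Γ(E.obj.left.left, ⊤) (d + 1)) (O : E.obj.left.left.Opens)
    (hO : IsCompact (O : Set E.obj.left.left)) :
    ∃ (x : Γ(E.obj.left.left, ⊤)) (l : List Γ(E.obj.left.left, ⊤)), l.length = d ∧ O = uniD ⊤ (x :: l) ∧
      ∀ s : ℕ, ∃ N : ℕ, (x :: l).prod ^ N ∈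
        Ideal.span (Set.range fun j : Fin (x :: l).length => (x :: l).get j ^ (N + s)) := by
  classical
  obtain ⟨s, e⟩ : ∃ s : Finset Γ(E.obj.left.left, ⊤), O = ⨆ y ∈ (s : Set Γ(E.obj.left.left, ⊤)),
      E.obj.left.left.basicOpen y := by
    obtain ⟨t, ht⟩ := hO.elim_finite_subcover
      (fun g : {g : Γ(E.obj.left.left, ⊤) // E.obj.left.left.basicOpen g ≤ O} =>
        (E.obj.left.left.basicOpen g.1 : Set E.obj.left.left))
      (fun g => (E.obj.left.left.basicOpen g.1).isOpen) (fun z hz => by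
        obtain ⟨_, ⟨g, rfl⟩, hzg, hgO⟩ :=
          TopologicalSpace.Opens.isBasis_iff_nbhd.1 (isBasis_basicOpen E.obj.left.left) (U := O) hz
        exact Set.mem_iUnion.2 ⟨⟨g, hgO⟩, hzg⟩)
    refine ⟨t.image Subtype.val, le_antisymm (fun z hz => ?_) (iSup₂_le fun y hy => ?_)⟩
    · obtain ⟨g, hg, hzg⟩ := Set.mem_iUnion₂.1 (ht hz)
      exact TopologicalSpace.Opens.mem_iSup.2 ⟨g.1, TopologicalSpace.Opens.mem_iSup.2
        ⟨Finset.mem_coe.2 (Finset.mem_image_of_mem _ hg), hzg⟩⟩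
    · obtain ⟨g, -, rfl⟩ := Finset.mem_image.1 (Finset.mem_coe.1 hy)
      exact g.2
  obtain ⟨c, hc⟩ := KrullCL.exists_radical_eq hA s
  refine ⟨c 0, List.ofFn fun i => c i.succ, List.length_ofFn, ?_, fun n => ?_⟩
  · have hm : ∀ y, y ∈ c 0 :: List.ofFn (fun i => c i.succ) ↔ y ∈ Set.range c := fun y => by
      rw [← List.ofFn_succ, List.mem_ofFn]; rfl
    ext z
    rw [SetLike.mem_coe, SetLike.mem_coe, e, mem_uniD]
    simp only [TopologicalSpace.Opens.mem_iSup, TopologicalSpace.Opens.mem_top, true_and, exists_prop]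
    constructor
    · rintro ⟨y, hy, hzy⟩
      obtain ⟨w, hw, hzw⟩ := mem_basicOpen_of_radical (hc.symm ▸ Ideal.le_radical (Ideal.subset_span hy)) hzy
      exact ⟨w, (hm w).2 hw, hzw⟩
    · rintro ⟨y, hy, hzy⟩
      exact mem_basicOpen_of_radical (hc ▸ Ideal.le_radical (Ideal.subset_span ((hm y).1 hy))) hzy
  · have hlen : (c 0 :: List.ofFn (fun i => c i.succ)).length = d + 1 := by simp
    obtain ⟨N, hN⟩ := KrullCL.exists_prod_pow_mem' (n := (c 0 :: List.ofFn (fun i => c i.succ)).length) (by rw [hlen]; exact hA)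
      (c 0 :: List.ofFn (fun i => c i.succ)).get n
    refine ⟨N, ?_⟩
    rw [← Fin.prod_univ_getElem]
    exact hN

theorem subsingleton_ext_open_of_dim [IsAffine E.obj.left.left] {d : ℕ}
    (hA : KrullCL.ChainLT Γ(E.obj.left.left, ⊤) (d + 1)) (O : E.obj.left.left.Opens)
    (hO : IsCompact (O : Set E.obj.left.left)) (M : ModEt X) [M.IsQuasicoherent] (i : ℕ) (hi : d ≤ i) (hi0 : 1 ≤ i) :
    Subsingleton (Ext.{u + 1} ((P X).obj (openObj E O)) ((toAbEt X).obj M) i) := by
  obtain ⟨x, l, hl, rfl, hrel⟩ := exists_list_uniD hA O hO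
  by_cases h : d + 1 ≤ i
  · exact subsingleton_ext_uniD M (x :: l) ⊤ (isAffineOpen_top _) i (by rw [List.length_cons, hl]; exact h)
  obtain rfl : i = d := by omega
  rw [← hl]
  exact subsingleton_ext_top M x l (fun e => by simp [e] at hl; omega) hrel

theorem surjective_res_open_of_dim_zero [IsAffine E.obj.left.left]
    (hA : KrullCL.ChainLT Γ(E.obj.left.left, ⊤) 1) (O : E.obj.left.left.Opens)
    (hO : IsCompact (O : Set E.obj.left.left)) (M : ModEt X) [M.IsQuasicoherent] :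
    Function.Surjective (resM M (openHom E O)) := by
  obtain ⟨x, l, hl, rfl, hrel⟩ := exists_list_uniD (d := 0) hA O hO
  obtain rfl := List.eq_nil_of_length_eq_zero hl
  intro φ
  let r : openObj E (allD ⊤ [x]) ⟶ openObj E (uniD ⊤ [x]) := openLE le_sup_left
  let r' : openObj E (uniD ⊤ [x]) ⟶ openObj E (allD ⊤ [x]) := openLE (sup_le le_rfl bot_le)
  have h := mem_iSup_range M [x] hrel (resM M r φ)
  obtain ⟨t, ht⟩ := exists_lift_open (O := (⊤ : E.obj.left.left.Opens)) (𝟙 E) fun _ => trivial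
  suffices ∀ ψ ∈ ⨆ j : Fin [x].length, (resM M (openLE (allD_le_erase ⊤ [x] j))).range,
      ∃ m, resM M (openHom E (allD ⊤ [x])) m = ψ by
    obtain ⟨m, hm⟩ := this _ h
    refine ⟨m, ?_⟩
    have e1 : r' ≫ openHom E (allD ⊤ [x]) = openHom E (uniD ⊤ [x]) := openLE_hom _
    have e2 : r' ≫ r = 𝟙 _ := (openLE_comp _ _).trans (openLE_refl _)
    rw [← e1, resM_comp, hm, ← resM_comp, e2, resM_id]
  intro ψ hψ
  refine AddSubgroup.iSup_induction _ (C := fun ψ => ∃ m, resM M (openHom E (allD ⊤ [x])) m = ψ) hψ ?_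
    ⟨0, map_zero _⟩ ?_
  · rintro ⟨j, hj⟩ _ ⟨b, rfl⟩
    obtain rfl : j = 0 := by simpa using hj
    have ht' : openHom E (allD ⊤ [x]) ≫ t = openLE (allD_le_erase ⊤ [x] 0) := by
      refine (cancel_mono (openHom E (allD ⊤ ([x].eraseIdx 0)))).1 ?_
      rw [openLE_hom, Category.assoc]
      erw [ht]
      rw [Category.comp_id]
    refine ⟨resM M t b, ?_⟩
    rw [← resM_comp, ht']
    rfl
  · rintro _ _ ⟨m, rfl⟩ ⟨m', rfl⟩
    exact ⟨m + m', map_add _ _ _⟩

theorem subsingleton_ext_of_retract {Z₁ Z₂ : EtOver X} (b : Z₁ ⟶ Z₂) (a : Z₂ ⟶ Z₁) (h : b ≫ a = 𝟙 Z₁) (G : AbEt X)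
    (n : ℕ) (hG : Subsingleton (Ext.{u + 1} ((P X).obj Z₂) G n)) : Subsingleton (Ext.{u + 1} ((P X).obj Z₁) G n) := by
  refine subsingleton_of_forall_eq 0 fun x => ?_
  rw [← Ext.mk₀_id_comp x, ← CategoryTheory.Functor.map_id, ← h, Functor.map_comp, ← Ext.mk₀_comp_mk₀_assoc,
    hG.elim ((Ext.mk₀ ((P X).map a)).comp x (zero_add n)) 0, Ext.comp_zero]

/-- the bound passes along a square with affine etale part of bounded dimension -/
theorem bnd_step_dim {U W : Space S} [QuasiSeparatedSpace ↥S] (hW : IsQuasiSeparatedSp W.obj)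
    (hUc : IsQuasiCompactSp U.obj) (j : U ⟶ W) {V : EtOver W.obj} [hV : IsAffine V.obj.left.left]
    (hsq : IsElemDistSq j.hom V.obj.hom) {d : ℕ} (hA : KrullCL.ChainLT Γ(V.obj.left.left, ⊤) (d + 1))
    (hU : Bnd U.obj (d + 1)) : Bnd W.obj (d + 1) := by
  intro M hM q hq
  haveI := hM
  have he := isEtaleMor_of_open hsq.1
  have D := mvData_of_elemDistSq j hsq
  let Z := (EtOver.postcomp j.hom he).obj ((EtOver.bc hsq.1.1).obj V)
  let g : Z ⟶ V := (postBcAdj hsq.1.1 he).counit.app V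
  haveI : IsOpenImmersion g.hom.left.left := by
    rw [show g.hom.left = hsq.1.1.snd V.obj.hom from postBcAdj_counit _ _ V]
    exact hsq.1.2 V.obj.hom _ _ (hsq.1.1.isPullback V.obj.hom)
  let O : V.obj.left.left.Opens := g.hom.left.left.opensRange
  have hr : (O : Set V.obj.left.left) = Points.ofPt V.obj.hom ⁻¹' Set.range (Points.map j.hom) := by
    ext x
    constructor
    · rintro ⟨z, rfl⟩
      refine ⟨Points.ofPt ((EtOver.bc hsq.1.1).obj V).obj.hom z, ?_⟩
      rw [Points.map_ofPt, ← ofPt_comp]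
      exact congrArg (fun k => Points.ofPt k z) (EtOver.w g).symm
    · intro hx
      obtain ⟨T₁, k, z, hz⟩ := D.liftU V x hx
      obtain ⟨k', rfl⟩ := D.factorZ T₁ k
      exact ⟨k'.hom.left.left z, hz⟩
  have hO : IsCompact (O : Set V.obj.left.left) := hr ▸ EtQC.isCompact_preimage_ofPt hW hUc j.hom V
  let a : openObj V O ⟶ Z := homOfFac (openHom V O) g (IsOpenImmersion.lift g.hom.left.left O.ι (le_of_eq O.range_ι)) (IsOpenImmersion.lift_fac _ _ _)
  have ha : a ≫ g = openHom V O := homOfFac_comp _ _ _ _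
  obtain ⟨b, hb⟩ := exists_lift_open (O := O) g fun t => ⟨t, rfl⟩
  haveI := D.monoQ
  have hba : b ≫ a = 𝟙 Z := (cancel_mono g).1 (by rw [Category.assoc, ha, hb, Category.id_comp])
  obtain ⟨i, rfl⟩ | rfl : (∃ i, q = i + 2) ∨ q = 1 := by
    by_cases h : q = 1
    · exact Or.inr h
    · exact Or.inl ⟨q - 2, by omega⟩
  · refine subsingleton_H_of_mv D _ i (subsingleton_restr_of_bnd j.hom he hU M (i + 2) hq)
      (subsingleton_ext_qcoh (i + 1) W.obj M hM V hV) ?_
    have := subsingleton_ext_open_of_dim hA O hO M (i + 1) (by omega) (by omega)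
    exact subsingleton_ext_of_retract b a hba _ _ this
  · obtain rfl : d = 0 := by omega
    refine subsingleton_of_forall_eq 0 fun ξ => eq_zero_deg_one D _ ξ ?_ ?_ ?_
    · exact (subsingleton_restr_of_bnd j.hom he hU M 1 le_rfl).elim _ _
    · exact (subsingleton_ext_qcoh 0 W.obj M hM V hV).elim _ _
    · intro y
      obtain ⟨m, hm⟩ := surjective_res_open_of_dim_zero hA O hO M (resM M a y)
      refine ⟨m, ?_⟩
      show resM M g m = y
      rw [← hb, resM_comp, hm, ← resM_comp, hba, resM_id]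

end Groth.Agent.EtVan
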