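import Groth.Agent.EtVan.Main
import Groth.Agent.RDerLib.LES
import Groth.Agent.EtQC.WeakAssPush

/-!
Higher direct images vanish for sheaves acyclic on affine objects, along morphisms preserving those objects.
-/

set_option autoImplicit false
set_option linter.style.haveILetI false
set_option backward.isDefEq.respectTransparency false

universe u

noncomputable section

open CategoryTheory CategoryTheory.Limits CategoryTheory.Abelian AlgebraicGeometry Opposite AlgSp

namespace Groth.Agent.EtVan

variable {S : Scheme.{u}} {X Y : Sp S} {f : X ⟶ Y} (hf : Representable f)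

/-- acyclic on all affine objects -/
def AffAcyc (G : AbEt X) : Prop :=
  ∀ (W : EtOver X), IsAffine W.obj.left.left → ∀ i : ℕ, Subsingleton (Ext.{u + 1} ((P X).obj W) G (i + 1))

theorem affAcyc_toAb (M : ModEt X) [hM : M.IsQuasicoherent] : AffAcyc ((toAbEt X).obj M) := fun W hW i =>
  subsingleton_ext_qcoh i X M hM W hW

theorem affAcyc_quotient [EnoughInjectives (AbEt X)] {G : AbEt X} (hG : AffAcyc G) :
    AffAcyc (SiteCoh.embedSeq G).X₃ := fun W hW i => by
  haveI : Subsingleton (Ext.{u + 1} ((P X).obj W) (SiteCoh.embedSeq G).X₁ (i + 1 + 1)) := hG W hW (i + 1)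
  exact SiteCoh.subsingleton_ext_quotient (SiteCoh.embedSeq_shortExact G) ((P X).obj W) (i + 1)

theorem preservesFiniteLimits_pushEt : PreservesFiniteLimits (pushEt hf AddCommGrpCat.{u + 1}) := by
  haveI : PreservesFiniteLimits (pushEt hf AddCommGrpCat.{u + 1} ⋙ sheafToPresheaf (etTop Y) AddCommGrpCat.{u + 1}) :=
    comp_preservesFiniteLimits (sheafToPresheaf (etTop X) AddCommGrpCat.{u + 1})
      ((Functor.whiskeringLeft _ _ AddCommGrpCat.{u + 1}).obj (EtOver.bc hf).op)
  exact preservesFiniteLimits_of_reflects_of_preserves _ (sheafToPresheaf (etTop Y) AddCommGrpCat.{u + 1})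

theorem epi_push_g (hbc : ∀ E : EtOver Y, IsAffine E.obj.left.left → IsAffine ((EtOver.bc hf).obj E).obj.left.left)
    [EnoughInjectives (AbEt X)] {G : AbEt X} (hG : AffAcyc G) :
    Epi ((pushEt hf AddCommGrpCat.{u + 1}).map (SiteCoh.embedSeq G).g) :=
  epi_of_surjective_affine _ fun E hE =>
    surjective_sections (SiteCoh.embedSeq_shortExact G) ((EtOver.bc hf).obj E) (hG _ (hbc E hE) 0)

theorem isZero_RpushEt
    (hbc : ∀ E : EtOver Y, IsAffine E.obj.left.left → IsAffine ((EtOver.bc hf).obj E).obj.left.left) (q : ℕ) :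
    ∀ (G : AbEt X), AffAcyc G → IsZero ((RpushEt hf (q + 1)).obj G) := by
  haveI := enoughInjectives_abEt X
  haveI : HasInjectiveResolutions (AbEt X) := inferInstance
  haveI := preservesFiniteLimits_pushEt hf
  let R := pushEt hf AddCommGrpCat.{u + 1}
  haveI : R.Additive := Functor.additive_of_preserves_binary_products R
  induction q with
  | zero =>
    intro G hG
    have hS := SiteCoh.embedSeq_shortExact G
    have he := (Groth.Agent.RDerLib.derivedLES R).exact₁ (SiteCoh.embedSeq G) hS 0 1 rfl
    have h2 := (Groth.Agent.RDerLib.derivedLES R).comp_δ (SiteCoh.embedSeq G) hS 0 1 rfl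
    haveI := epi_push_g hf hbc hG
    haveI : Epi ((R.rightDerived 0).map (SiteCoh.embedSeq G).g) := by
      rw [show (R.rightDerived 0).map (SiteCoh.embedSeq G).g = R.rightDerivedZeroIsoSelf.hom.app _ ≫
        R.map (SiteCoh.embedSeq G).g ≫ R.rightDerivedZeroIsoSelf.inv.app _ by
          rw [← NatTrans.naturality_assoc, Iso.hom_inv_id_app, Category.comp_id]]
      infer_instance
    exact he.isZero_X₂ (zero_of_epi_comp ((R.rightDerived 0).map (SiteCoh.embedSeq G).g) h2)
      ((R.isZero_rightDerived_obj_injective_succ 0 (SiteCoh.embedSeq G).X₂).eq_of_tgt _ _)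
  | succ q ih =>
    intro G hG
    have hS := SiteCoh.embedSeq_shortExact G
    have he := (Groth.Agent.RDerLib.derivedLES R).exact₁ (SiteCoh.embedSeq G) hS (q + 1) (q + 1 + 1) rfl
    exact he.isZero_X₂ ((ih _ (affAcyc_quotient hG)).eq_of_src _ _)
      ((R.isZero_rightDerived_obj_injective_succ (q + 1) (SiteCoh.embedSeq G).X₂).eq_of_tgt _ _)

end Groth.Agent.EtVan
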