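import Groth.Agent.EtVan.PushInj
import Groth.Agent.EtVan.Rpush
import Groth.Agent.EtMV.AdjExt

/-!
Cohomology of a sheaf without higher direct images is the cohomology of its direct image.
-/

set_option autoImplicit false
set_option linter.style.haveILetI false
set_option backward.isDefEq.respectTransparency false

universe u

noncomputable section

open CategoryTheory CategoryTheory.Limits CategoryTheory.Abelian AlgebraicGeometry Opposite AlgSp

namespace Groth.Agent.EtVan

variable {S : Scheme.{u}} {X Y : Sp S} {f : X ⟶ Y} (hf : Representable f)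

/-- the group of integers one universe up -/
abbrev ZZ : AddCommGrpCat.{u + 1} := AddCommGrpCat.of (ULift.{u + 1} ℤ)

/-- restriction of compatible families along base change -/
def bcFam {G : AbEt X} (p : (Functor.const (EtOver X)ᵒᵖ).obj ZZ.{u} ⟶ G.obj) :
    (Functor.const (EtOver Y)ᵒᵖ).obj ZZ.{u} ⟶ ((pushEt hf AddCommGrpCat.{u + 1}).obj G).obj where
  app E := p.app (op ((EtOver.bc hf).obj E.unop))
  naturality E E' g := p.naturality ((EtOver.bc hf).map g.unop).op

theorem zz_hom_ext {A : AddCommGrpCat.{u + 1}} (a b : ZZ.{u} ⟶ A) (h : a ⟨1⟩ = b ⟨1⟩) : a = b := by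
  ext ⟨n⟩
  have hn : (⟨n⟩ : ULift.{u + 1} ℤ) = n • ⟨1⟩ := ULift.ext _ _ (by simp)
  rw [hn, map_zsmul, map_zsmul, h]

/-- objects locally map to base changes -/
theorem exists_toBc_cover (hY : IsAlgSpace Y) (W : EtOver X) :
    Sieve.generate (fun W' (_ : W' ⟶ W) => Nonempty (StructuredArrow W' (EtOver.bc hf))) ∈ etTop X W := by
  obtain ⟨U, p, hp, hs⟩ := hY.atlas
  let q := hp.1.snd (W.obj.hom ≫ f)
  have hsq := hp.1.isPullback (W.obj.hom ≫ f)
  let W' : EtOver X := EtOver.mk ((yon S).map q ≫ W.obj.hom)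
    (Groth.Agent.AlgSpLib.repWith_comp ((Groth.Agent.AlgSpLib.repWith_yon_iff q).2 (hp.2 _ _ _ hsq)) W.property)
  let h : W' ⟶ W := EtOver.homMk (E := W') (E' := W) q rfl
  let E : EtOver Y := EtOver.mk p hp
  let t : W'.obj.left ⟶ E.obj.left := hp.1.fst' (W.obj.hom ≫ f)
  have ht : (yon S).map t ≫ E.obj.hom = W'.obj.hom ≫ f := by
    show (yon S).map _ ≫ p = ((yon S).map q ≫ W.obj.hom) ≫ f
    rw [Functor.relativelyRepresentable.map_fst', Category.assoc]
    exact hsq.w
  refine Groth.Agent.AlgSpLib.StalkPoint.mem_etTop_of_jointly_surjective _ fun x => ?_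
  have hsurj : Surjective q.left := hs.2 _ _ _ hsq
  obtain ⟨z, hz⟩ := hsurj.surj x
  exact ⟨W', h, ⟨W', 𝟙 W', h, ⟨StructuredArrow.mk (toBc hf t ht)⟩, Category.id_comp h⟩, z, hz⟩

theorem bcFam_bijective (hY : IsAlgSpace Y) (G : AbEt X) :
    Function.Bijective (bcFam hf (G := G)) := by
  have hG := (isSheaf_iff_isSheaf_of_type _ _).1
    ((Presheaf.isSheaf_iff_isSheaf_forget (etTop X) G.obj (CategoryTheory.forget AddCommGrpCat.{u + 1})).1 G.property)
  refine ⟨fun a b hab => ?_, fun p => ?_⟩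
  · refine NatTrans.ext (funext fun W => zz_hom_ext _ _ ?_)
    refine (hG _ (exists_toBc_cover hf hY W.unop)).isSeparatedFor.ext ?_
    rintro Z _ ⟨W', k, h, ⟨A⟩, rfl⟩
    have e : ∀ c : (Functor.const (EtOver X)ᵒᵖ).obj ZZ.{u} ⟶ G.obj,
        G.obj.map (k ≫ h).op (c.app W ⟨1⟩) =
          G.obj.map (k ≫ A.hom).op ((bcFam hf c).app (op A.right) ⟨1⟩) := fun c =>
      (NatTrans.naturality_apply c (k ≫ h).op (⟨1⟩ : ULift.{u + 1} ℤ)).symm.trans
        (NatTrans.naturality_apply c (k ≫ A.hom).op (⟨1⟩ : ULift.{u + 1} ℤ))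
    exact (e a).trans ((congrArg (fun c => G.obj.map (k ≫ A.hom).op (c.app (op A.right) ⟨1⟩)) hab).trans (e b).symm)
  · haveI := fun W : EtOver X => isCofilteredOrEmpty_structuredArrow hf W
    let val : ∀ {Z : EtOver X}, StructuredArrow Z (EtOver.bc hf) → sect G Z := fun A =>
      G.obj.map A.hom.op (p.app (op A.right) ⟨1⟩)
    have hmor : ∀ {Z : EtOver X} {A B : StructuredArrow Z (EtOver.bc hf)} (g : A ⟶ B), val A = val B := by
      intro Z A B g
      have e : p.app (op A.right) ⟨1⟩ = G.obj.map ((EtOver.bc hf).map g.right).op (p.app (op B.right) ⟨1⟩) :=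
        NatTrans.naturality_apply p g.right.op (⟨1⟩ : ULift.{u + 1} ℤ)
      show G.obj.map A.hom.op (p.app (op A.right) ⟨1⟩) = G.obj.map B.hom.op (p.app (op B.right) ⟨1⟩)
      rw [e, ← ConcreteCategory.comp_apply, ← G.obj.map_comp, ← op_comp, StructuredArrow.w g]
    have hval : ∀ {Z : EtOver X} (A B : StructuredArrow Z (EtOver.bc hf)), val A = val B := fun A B =>
      (hmor (IsCofiltered.minToLeft A B)).symm.trans (hmor (IsCofiltered.minToRight A B))
    let R : ∀ W : EtOver X, Sieve W := fun W =>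
      Sieve.generate (fun W' (_ : W' ⟶ W) => Nonempty (StructuredArrow W' (EtOver.bc hf)))
    have hne : ∀ {W Z : EtOver X} (h : Z ⟶ W), R W h → Nonempty (StructuredArrow Z (EtOver.bc hf)) := by
      rintro W Z _ ⟨W', k, h, ⟨A⟩, rfl⟩
      exact ⟨StructuredArrow.mk (k ≫ A.hom)⟩
    let fam : ∀ W : EtOver X, Presieve.FamilyOfElements (G.obj ⋙ CategoryTheory.forget AddCommGrpCat.{u + 1})
        (R W).arrows := fun W Z h hh => val (hne h hh).some
    have hfam : ∀ W, (fam W).Compatible := by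
      intro W Z₁ Z₂ V g₁ g₂ f₁ f₂ h₁ h₂ _
      show G.obj.map g₁.op (val (hne f₁ h₁).some) = G.obj.map g₂.op (val (hne f₂ h₂).some)
      refine Eq.trans ?_ ((hval (StructuredArrow.mk (g₁ ≫ (hne f₁ h₁).some.hom))
        (StructuredArrow.mk (g₂ ≫ (hne f₂ h₂).some.hom))).trans ?_)
      · show _ = G.obj.map (g₁ ≫ (hne f₁ h₁).some.hom).op _
        rw [op_comp, G.obj.map_comp, ConcreteCategory.comp_apply]
        rfl
      · show G.obj.map (g₂ ≫ (hne f₂ h₂).some.hom).op _ = _
        rw [op_comp, G.obj.map_comp, ConcreteCategory.comp_apply]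
        rfl
    choose x hx hxu using fun W => hG (R W) (exists_toBc_cover hf hY W) (fam W) (hfam W)
    have hxA : ∀ {Z : EtOver X} (A : StructuredArrow Z (EtOver.bc hf)), x Z = val A := fun {Z} A => by
      have hid : R Z (𝟙 Z) := ⟨Z, 𝟙 Z, 𝟙 Z, ⟨A⟩, Category.id_comp _⟩
      refine Eq.trans ?_ ((hx Z (𝟙 Z) hid).trans (hval _ A))
      exact (FunctorToTypes.map_id_apply (G.obj ⋙ CategoryTheory.forget AddCommGrpCat.{u + 1}) (x Z)).symm
    have hnat : ∀ {W V : EtOver X} (g : V ⟶ W), G.obj.map g.op (x W) = x V := fun {W V} g => by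
      refine (hG (R V) (exists_toBc_cover hf hY V)).isSeparatedFor.ext fun Z h hh => ?_
      show G.obj.map h.op (G.obj.map g.op (x W)) = G.obj.map h.op (x V)
      have hhg : R W (h ≫ g) := by
        obtain ⟨W', k, h', hA, rfl⟩ := hh
        exact ⟨W', k, h' ≫ g, hA, (Category.assoc _ _ _).symm⟩
      rw [← ConcreteCategory.comp_apply, ← G.obj.map_comp, ← op_comp]
      exact (hx W (h ≫ g) hhg).trans ((hval _ _).trans (hx V h hh).symm)
    let q : (Functor.const (EtOver X)ᵒᵖ).obj ZZ.{u} ⟶ G.obj :=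
      { app := fun W => AddCommGrpCat.ofHom ((zmultiplesHom (sect G W.unop) (x W.unop)).comp
          AddEquiv.ulift.toAddMonoidHom)
        naturality := fun W V g => zz_hom_ext _ _ (by
          show (1 : ℤ) • x V.unop = G.obj.map g ((1 : ℤ) • x W.unop)
          rw [one_zsmul, one_zsmul]
          exact (hnat g.unop).symm) }
    refine ⟨q, NatTrans.ext (funext fun E => zz_hom_ext _ _ ?_)⟩
    show (1 : ℤ) • x ((EtOver.bc hf).obj E.unop) = p.app E ⟨1⟩
    rw [one_zsmul, hxA (StructuredArrow.mk (𝟙 _))]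
    show G.obj.map (𝟙 _).op (p.app (op E.unop) ⟨1⟩) = p.app E ⟨1⟩
    rw [op_id, G.obj.map_id]
    rfl

theorem bcFam_comp {G G' : AbEt X} (p : (Functor.const (EtOver X)ᵒᵖ).obj ZZ.{u} ⟶ G.obj) (k : G ⟶ G') :
    bcFam hf (G := G') (p ≫ k.hom) = bcFam hf p ≫ ((pushEt hf AddCommGrpCat.{u + 1}).map k).hom :=
  NatTrans.ext (funext fun _ => rfl)

/-- the constant sheaf of integers -/
abbrev constZ (X : Sp S) : AbEt X := (constantSheaf (etTop X) AddCommGrpCat.{u + 1}).obj ZZ.{u}

/-- comparison of maps out of the constant sheaves -/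
def κ (hY : IsAlgSpace Y) (G : AbEt X) :
    (constZ X ⟶ G) ≃ (constZ Y ⟶ (pushEt hf AddCommGrpCat.{u + 1}).obj G) :=
  ((sheafificationAdjunction (etTop X) AddCommGrpCat.{u + 1}).homEquiv _ G).trans
    ((Equiv.ofBijective _ (bcFam_bijective hf hY G)).trans
      ((sheafificationAdjunction (etTop Y) AddCommGrpCat.{u + 1}).homEquiv ((Functor.const (EtOver Y)ᵒᵖ).obj ZZ.{u})
        ((pushEt hf AddCommGrpCat.{u + 1}).obj G)).symm)

theorem κ_comp (hY : IsAlgSpace Y) {G G' : AbEt X} (φ : constZ X ⟶ G) (k : G ⟶ G') :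
    κ hf hY G' (φ ≫ k) = κ hf hY G φ ≫ (pushEt hf AddCommGrpCat.{u + 1}).map k := by
  let aX := sheafificationAdjunction (etTop X) AddCommGrpCat.{u + 1}
  let aY := sheafificationAdjunction (etTop Y) AddCommGrpCat.{u + 1}
  let R := pushEt hf AddCommGrpCat.{u + 1}
  let eG := aY.homEquiv ((Functor.const (EtOver Y)ᵒᵖ).obj ZZ.{u}) (R.obj G)
  let eG' := aY.homEquiv ((Functor.const (EtOver Y)ᵒᵖ).obj ZZ.{u}) (R.obj G')
  have h1 : eG' (κ hf hY G' (φ ≫ k)) =
      bcFam hf (aX.homEquiv ((Functor.const (EtOver X)ᵒᵖ).obj ZZ.{u}) G' (φ ≫ k)) := eG'.apply_symm_apply _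
  have h2 : aX.homEquiv ((Functor.const (EtOver X)ᵒᵖ).obj ZZ.{u}) G' (φ ≫ k) =
      aX.homEquiv ((Functor.const (EtOver X)ᵒᵖ).obj ZZ.{u}) G φ ≫ k.hom := aX.homEquiv_naturality_right φ k
  have h3 : eG' (κ hf hY G φ ≫ R.map k) = eG (κ hf hY G φ) ≫ (R.map k).hom :=
    aY.homEquiv_naturality_right (κ hf hY G φ) (R.map k)
  have h4 : eG (κ hf hY G φ) = bcFam hf (aX.homEquiv ((Functor.const (EtOver X)ᵒᵖ).obj ZZ.{u}) G φ) :=
    eG.apply_symm_apply _
  exact eG'.injective ((h1.trans (congrArg (bcFam hf) h2)).trans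
    ((bcFam_comp hf _ k).trans ((congrArg (· ≫ (R.map k).hom) h4.symm).trans h3.symm)))

theorem nonempty_H_addEquiv (hY : IsAlgSpace Y) (G : AbEt X)
    (hG : ∀ q : ℕ, IsZero ((RpushEt hf (q + 1)).obj G)) (n : ℕ) :
    Nonempty (HEt X G n ≃+ HEt Y ((pushEt hf AddCommGrpCat.{u + 1}).obj G) n) := by
  haveI := enoughInjectives_abEt X
  haveI := lan_bc_preservesFiniteLimits hf
  let L := (EtOver.bc hf).sheafPullback AddCommGrpCat.{u + 1} (etTop Y) (etTop X)
  let adj : L ⊣ pushEt hf AddCommGrpCat.{u + 1} :=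
    (EtOver.bc hf).sheafAdjunctionContinuous AddCommGrpCat.{u + 1} (etTop Y) (etTop X)
  haveI : PreservesFiniteLimits L :=
    Functor.sheafPullbackConstruction.preservesFiniteLimits (EtOver.bc hf) AddCommGrpCat.{u + 1} (etTop Y) (etTop X)
  haveI : PreservesColimitsOfSize.{0, 0} L := adj.leftAdjoint_preservesColimits
  haveI : PreservesFiniteColimits L := PreservesColimitsOfSize.preservesFiniteColimits L
  haveI : L.Additive := Functor.additive_of_preserves_binary_products L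
  haveI := preservesFiniteLimits_pushEt hf
  haveI : (pushEt hf AddCommGrpCat.{u + 1}).Additive := Functor.additive_of_preserves_binary_products _
  haveI := preservesInjective_pushEt hf
  let e : ∀ H, (constZ X ⟶ H) ≃ (L.obj (constZ Y) ⟶ H) := fun H => (κ hf hY H).trans (adj.homEquiv _ H).symm
  have enat : ∀ {H H' : AbEt X} (φ : constZ X ⟶ H) (k : H ⟶ H'), e H' (φ ≫ k) = e H φ ≫ k := fun {H H'} φ k => by
    show (adj.homEquiv _ H').symm (κ hf hY H' (φ ≫ k)) = _
    rw [κ_comp]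
    exact adj.homEquiv_naturality_right_symm _ _
  have enat' : ∀ {H H' : AbEt X} (φ : L.obj (constZ Y) ⟶ H) (k : H ⟶ H'),
      (e H').symm (φ ≫ k) = (e H).symm φ ≫ k := fun {H H'} φ k => by
    apply (e H').injective
    rw [Equiv.apply_symm_apply, enat, Equiv.apply_symm_apply]
  let c : constZ X ⟶ L.obj (constZ Y) := (e _).symm (𝟙 _)
  haveI : IsIso c := ⟨e _ (𝟙 _), by
    rw [← enat', Category.id_comp, Equiv.symm_apply_apply], by
    rw [← enat, Category.id_comp, Equiv.apply_symm_apply]⟩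
  exact ⟨(AddEquiv.ofBijective _ (EtMV.U_bijective adj c n G hG)).symm⟩

end Groth.Agent.EtVan
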