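import Groth.Agent.EtIntegral.Scheme
import Groth.Agent.EtVan.Rpush
import Groth.Agent.AlgSpLib.FpqcProps

/-!
Direct images along integral morphisms of algebraic spaces are exact.
-/

set_option autoImplicit false
set_option linter.style.haveILetI false
set_option backward.isDefEq.respectTransparency false

universe u

noncomputable section

open CategoryTheory CategoryTheory.Limits AlgebraicGeometry Opposite AlgSp

namespace Groth.Agent.EtVan

variable {S : Scheme.{u}} {X Y : Sp S}

/-- a morphism over an object from a map of schemes over it -/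
def homOfFac {A B E : EtOver X} (u : A ⟶ E) (g : B ⟶ E) (l : A.obj.left.left ⟶ B.obj.left.left)
    (h : l ≫ g.hom.left.left = u.hom.left.left) : A ⟶ B :=
  EtOver.homMk (Over.homMk l (by rw [← Over.w g.hom.left, ← Over.w u.hom.left, ← Category.assoc, h])) (by
    rw [← EtOver.w g, ← EtOver.w u, ← (yon S).map_comp_assoc]
    congr 2
    exact Over.OverMorphism.ext h)

theorem homOfFac_comp {A B E : EtOver X} (u : A ⟶ E) (g : B ⟶ E) (l : A.obj.left.left ⟶ B.obj.left.left)
    (h : l ≫ g.hom.left.left = u.hom.left.left) : homOfFac u g l h ≫ g = u :=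
  EtOver.hom_ext _ _ (Over.OverMorphism.ext h)

theorem isSheafFor_ab (G : AbEt X) {W : EtOver X} {R : Sieve W} (hR : R ∈ etTop X W) :
    Presieve.IsSheafFor (G.obj ⋙ CategoryTheory.forget AddCommGrpCat.{u + 1}) R.arrows :=
  (isSheaf_iff_isSheaf_of_type _ _).1
    ((Presheaf.isSheaf_iff_isSheaf_forget (etTop X) G.obj (CategoryTheory.forget AddCommGrpCat.{u + 1})).1 G.property)
    R hR

theorem subsingleton_sect_of_isEmpty (G : AbEt X) (T : EtOver X) (hT : IsEmpty T.obj.left.left) :
    Subsingleton (sect G T) :=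
  ⟨fun a b => (isSheafFor_ab G (R := (⊥ : Sieve T))
    (Groth.Agent.AlgSpLib.StalkPoint.mem_etTop_of_jointly_surjective _ fun x => isEmptyElim x)).isSeparatedFor.ext
      fun _ _ h => h.elim⟩

theorem ofArrows_mem {P : EtOver X} {ι : Type u} (Z : ι → EtOver X) (π : ∀ i, Z i ⟶ P)
    (hc : ∀ p : P.obj.left.left, ∃ i, p ∈ Set.range (π i).hom.left.left) : Sieve.ofArrows Z π ∈ etTop X P :=
  Groth.Agent.AlgSpLib.StalkPoint.mem_etTop_of_jointly_surjective _ fun p => by
    obtain ⟨i, z, hz⟩ := hc p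
    exact ⟨Z i, π i, Sieve.ofArrows_mk _ _ i, z, hz⟩

/-- sections on pairwise disjoint open pieces glue -/
theorem exists_amalg_disjoint (G : AbEt X) {P : EtOver X} {ι : Type u} (Z : ι → EtOver X) (π : ∀ i, Z i ⟶ P)
    (hmono : ∀ i, Mono (π i).hom.left.left) (hd : ∀ i j, i ≠ j → ∀ x y, (π i).hom.left.left x ≠ (π j).hom.left.left y)
    (hc : ∀ p : P.obj.left.left, ∃ i, p ∈ Set.range (π i).hom.left.left) (t : ∀ i, sect G (Z i)) :
    ∃ s : sect G P, ∀ i, G.obj.map (π i).op s = t i := by
  have hs : Presieve.IsSheafFor (G.obj ⋙ CategoryTheory.forget AddCommGrpCat.{u + 1}) (Presieve.ofArrows Z π) :=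
    (Presieve.isSheafFor_iff_generate _).mpr (isSheafFor_ab G (ofArrows_mem Z π hc))
  rw [Presieve.isSheafFor_arrows_iff] at hs
  obtain ⟨s, hs, -⟩ := hs t (fun i k T p q hpq => by
    have hl : p.hom.left.left ≫ (π i).hom.left.left = q.hom.left.left ≫ (π k).hom.left.left :=
      congrArg (fun m => m.hom.left.left) hpq
    by_cases hik : i = k
    · subst hik
      haveI := hmono i
      rw [EtOver.hom_ext p q (Over.OverMorphism.ext ((cancel_mono (π i).hom.left.left).mp hl))]
    · haveI : IsEmpty T.obj.left.left := ⟨fun x => hd i k hik _ _ (congr($hl x))⟩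
      haveI := subsingleton_sect_of_isEmpty G T inferInstance
      exact Subsingleton.elim (α := sect G T) _ _)
  exact ⟨s, hs⟩

theorem pushEt_map_locallySurjective {f : X ⟶ Y} (hf : Representable f) (hint : IsIntegralMor f)
    {F G : AbEt X} (a : F ⟶ G) [Epi a] : Epi ((pushEt hf AddCommGrpCat.{u + 1}).map a) := by
  classical
  haveI : Sheaf.IsLocallySurjective a := (Sheaf.isLocallySurjective_iff_epi' _ _).mpr inferInstance
  refine (Sheaf.isLocallySurjective_iff_epi' _ _).mp ⟨fun {V} t => ?_⟩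
  refine Groth.Agent.AlgSpLib.StalkPoint.mem_etTop_of_jointly_surjective _ fun x => ?_
  let P : EtOver X := (EtOver.bc hf).obj V
  have hloc : ∀ c : P.obj.left.left, ∃ (W : EtOver X) (g : W ⟶ P), c ∈ Set.range g.hom.left.left ∧
      ∃ y : sect F W, a.hom.app (op W) y = G.obj.map g.op t := fun c => by
    obtain ⟨W, g, hg, hc⟩ :=
      Groth.Agent.AlgSpLib.StalkPoint.surjective_of_mem_etTop (Presheaf.imageSieve_mem (etTop X) a.hom (U := op P) t) c
    exact ⟨W, g, hc, hg⟩
  choose W g hsurj y hy using hloc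
  haveI hfV : IsIntegralHom (hf.snd V.obj.hom).left :=
    ((Groth.Agent.AlgSpLib.isIntegralMor_iff_repWith f).1 hint).2 _ _ _ (hf.isPullback V.obj.hom)
  let fV : P.obj.left.left ⟶ V.obj.left.left := (hf.snd V.obj.hom).left
  haveI : IsIntegralHom fV := hfV
  let WW : Scheme.{u} := ∐ fun c : P.obj.left.left => (W c).obj.left.left
  let q : WW ⟶ P.obj.left.left := Sigma.desc fun c => (g c).hom.left.left
  have hq : ∀ c, Sigma.ι (fun c : P.obj.left.left => (W c).obj.left.left) c ≫ q = (g c).hom.left.left :=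
    fun c => Sigma.ι_desc _ _
  haveI : Etale q := IsZariskiLocalAtSource.sigmaDesc fun c => EtOver.etale_left (g c)
  let Ω := AlgebraicClosure (V.obj.left.left.residueField x)
  let ξ : Spec (CommRingCat.of Ω) ⟶ V.obj.left.left :=
    Spec.map (CommRingCat.ofHom (algebraMap (V.obj.left.left.residueField x) Ω)) ≫
      V.obj.left.left.fromSpecResidueField x
  have hξ : ξ (default : Spec (CommRingCat.of Ω)) = x := by
    show V.obj.left.left.fromSpecResidueField x _ = x
    exact Scheme.fromSpecResidueField_apply x _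
  obtain ⟨V', p, hp, v', hv', s, hs⟩ := Groth.Agent.EtIntegral.exists_section_nhd fV q ξ (fun c _ => by
    obtain ⟨w, hw⟩ := hsurj c
    exact ⟨Sigma.ι (fun c : P.obj.left.left => (W c).obj.left.left) c w, by
      rw [← Scheme.Hom.comp_apply, hq]; exact hw⟩)
  let pH : Over.mk (p ≫ V.obj.left.hom) ⟶ V.obj.left := Over.homMk p rfl
  let V'' : EtOver Y := EtOver.mk ((yon S).map pH ≫ V.obj.hom)
    (Groth.Agent.AlgSpLib.repWith_comp ((Groth.Agent.AlgSpLib.repWith_yon_iff pH).2 hp) V.property)
  let b : V'' ⟶ V := EtOver.homMk (E := V'') (E' := V) pH rfl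
  refine ⟨V'', b, ?_, ⟨v' default, by
    show (v' ≫ p) default = x
    rw [hv', hξ]⟩⟩
  let P' : EtOver X := (EtOver.bc hf).obj V''
  let sq := (EtOver.isPullback_bcMap_left hf b).flip
  let k : P'.obj.left.left ⟶ WW := sq.isoPullback.hom ≫ s
  have hk : k ≫ q = ((EtOver.bc hf).map b).hom.left.left := by
    rw [Category.assoc, hs]
    exact sq.isoPullback_hom_snd
  let O : P.obj.left.left → P'.obj.left.left.Opens := fun c =>
    k ⁻¹ᵁ (Sigma.ι (fun c : P.obj.left.left => (W c).obj.left.left) c).opensRange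
  let Z : P.obj.left.left → EtOver X := fun c => Groth.Agent.EtQC.openObj P' (O c)
  let π : ∀ c, Z c ⟶ P' := fun c => Groth.Agent.EtQC.openHom P' (O c)
  let l : ∀ c, (Z c).obj.left.left ⟶ (W c).obj.left.left := fun c =>
    IsOpenImmersion.lift (Sigma.ι (fun c : P.obj.left.left => (W c).obj.left.left) c) ((O c).ι ≫ k) (by
      rintro _ ⟨z, rfl⟩; exact z.2)
  have hl : ∀ c, l c ≫ (g c).hom.left.left = (π c ≫ (EtOver.bc hf).map b).hom.left.left := fun c => by
    show l c ≫ (g c).hom.left.left = (O c).ι ≫ ((EtOver.bc hf).map b).hom.left.left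
    rw [← hq, ← Category.assoc, IsOpenImmersion.lift_fac, Category.assoc, hk]
  let L : ∀ c, Z c ⟶ W c := fun c => homOfFac (π c ≫ (EtOver.bc hf).map b) (g c) (l c) (hl c)
  have hc : ∀ z : P'.obj.left.left, ∃ c, z ∈ Set.range (π c).hom.left.left := fun z => by
    obtain ⟨c, w, hw⟩ := (sigmaOpenCover fun c : P.obj.left.left => (W c).obj.left.left).exists_eq (k z)
    exact ⟨c, (⟨z, ⟨w, hw⟩⟩ : O c), rfl⟩
  obtain ⟨r, hr⟩ := exists_amalg_disjoint F Z π (fun c => inferInstanceAs (Mono (O c).ι))
    (fun i j hij c d hcd => by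
      let c' : (O i).toScheme := c
      let d' : (O j).toScheme := d
      have h1 : c'.1 = d'.1 := hcd
      obtain ⟨a₁, h₁⟩ := c'.2
      obtain ⟨a₂, h₂⟩ := d'.2
      exact hij (congrArg Sigma.fst ((sigmaι_eq_iff (fun c : P.obj.left.left => (W c).obj.left.left) i j a₁ a₂).mp
        ((h₁.trans (congrArg k h1)).trans h₂.symm))))
    hc (fun c => F.obj.map (L c).op (y c))
  refine ⟨r, ?_⟩
  show a.hom.app (op P') r = G.obj.map ((EtOver.bc hf).map b).op t
  refine (isSheafFor_ab G (ofArrows_mem Z π hc)).isSeparatedFor.ext ?_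
  rintro T h ⟨T', u, v, ⟨c⟩, rfl⟩
  show G.obj.map (u ≫ π c).op (a.hom.app (op P') r) = G.obj.map (u ≫ π c).op (G.obj.map ((EtOver.bc hf).map b).op t)
  rw [op_comp, G.obj.map_comp, ConcreteCategory.comp_apply, ConcreteCategory.comp_apply]
  refine congrArg (G.obj.map u.op) ?_
  rw [← NatTrans.naturality_apply, hr, NatTrans.naturality_apply, hy, ← ConcreteCategory.comp_apply,
    ← G.obj.map_comp, ← op_comp, homOfFac_comp, op_comp, G.obj.map_comp, ConcreteCategory.comp_apply]

theorem pushEt_integral_exact {f : X ⟶ Y} (hf : Representable f) (hint : IsIntegralMor f) :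
    PreservesFiniteColimits (pushEt hf AddCommGrpCat.{u + 1}) ∧
      ∀ (p : ℕ), 0 < p → ∀ F : AbEt X, IsZero ((RpushEt hf p).obj F) := by
  haveI := preservesFiniteLimits_pushEt hf
  haveI : (pushEt hf AddCommGrpCat.{u + 1}).Additive := Functor.additive_of_preserves_binary_products _
  haveI : (pushEt hf AddCommGrpCat.{u + 1}).PreservesEpimorphisms :=
    ⟨fun a _ => pushEt_map_locallySurjective hf hint a⟩
  haveI hk : ∀ {A B : AbEt X} (a : A ⟶ B), PreservesLimit (parallelPair a 0) (pushEt hf AddCommGrpCat.{u + 1}) :=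
    fun a => inferInstance
  have := Functor.preservesHomology_of_preservesEpis_and_kernels (pushEt hf AddCommGrpCat.{u + 1})
  refine ⟨Functor.preservesFiniteColimits_of_preservesHomology _, fun p hp F => ?_⟩
  obtain ⟨n, rfl⟩ := Nat.exists_eq_succ_of_ne_zero hp.ne'
  haveI := enoughInjectives_abEt X
  let P : InjectiveResolution F := InjectiveResolution.of F
  refine IsZero.of_iso ?_ (P.isoRightDerivedObj (pushEt hf AddCommGrpCat.{u + 1}) (n + 1))
  change IsZero ((((pushEt hf AddCommGrpCat.{u + 1}).mapHomologicalComplex _).obj P.cocomplex).homology (n + 1))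
  rw [← HomologicalComplex.exactAt_iff_isZero_homology]
  exact (P.cocomplex_exactAt_succ n).map (pushEt hf AddCommGrpCat.{u + 1})

end Groth.Agent.EtVan
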