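import Groth.Agent.EtVan.OpensSeq
import Groth.Agent.EtVan.Main
import Groth.Agent.EtVan.Integral
import Groth.Agent.KrullCL.Basic

/-!
The top Cech class of a union of basic opens of an affine object, and its vanishing under a monomial relation.
-/

set_option autoImplicit false
set_option linter.style.haveILetI false
set_option backward.isDefEq.respectTransparency false

universe u

noncomputable section

open CategoryTheory CategoryTheory.Limits CategoryTheory.Abelian AlgebraicGeometry Opposite AlgSp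
open Groth.Agent.AlgSpLib Groth.Agent.EtQC

namespace Groth.Agent.EtVan

variable {S : Scheme.{u}} {X : Sp S} {E : EtOver X}

/-- the intersection of the basic opens of a list inside an open -/
def allD (B : E.obj.left.left.Opens) : List Γ(E.obj.left.left, ⊤) → E.obj.left.left.Opens
  | [] => B
  | x :: l => allD (B ⊓ E.obj.left.left.basicOpen x) l

/-- the union of the basic opens of a list inside an open -/
def uniD (B : E.obj.left.left.Opens) : List Γ(E.obj.left.left, ⊤) → E.obj.left.left.Opens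
  | [] => ⊥
  | x :: l => (B ⊓ E.obj.left.left.basicOpen x) ⊔ uniD B l

theorem mem_allD {l : List Γ(E.obj.left.left, ⊤)} : ∀ {B : E.obj.left.left.Opens} {z}, z ∈ allD B l ↔ z ∈ B ∧ ∀ x ∈ l, z ∈ E.obj.left.left.basicOpen x := by
  induction l with
  | nil => intro B z; simp [allD]
  | cons x l ih =>
    intro B z
    rw [allD, ih, TopologicalSpace.Opens.mem_inf, List.forall_mem_cons, and_assoc]

theorem mem_uniD {l : List Γ(E.obj.left.left, ⊤)} : ∀ {B : E.obj.left.left.Opens} {z}, z ∈ uniD B l ↔ z ∈ B ∧ ∃ x ∈ l, z ∈ E.obj.left.left.basicOpen x := by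
  induction l with
  | nil =>
    intro B z
    simp only [uniD, List.not_mem_nil, false_and, exists_false, and_false, iff_false]
    exact id
  | cons x l ih =>
    intro B z
    rw [uniD, TopologicalSpace.Opens.mem_sup, TopologicalSpace.Opens.mem_inf, ih]
    simp only [List.mem_cons, exists_eq_or_imp]
    tauto

theorem uniD_mono {B B' : E.obj.left.left.Opens} (h : B' ≤ B) (l : List Γ(E.obj.left.left, ⊤)) : uniD B' l ≤ uniD B l := fun _ hz => by
  rw [mem_uniD] at hz ⊢
  exact ⟨h hz.1, hz.2⟩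

theorem allD_mono {B B' : E.obj.left.left.Opens} (h : B' ≤ B) (l : List Γ(E.obj.left.left, ⊤)) : allD B' l ≤ allD B l := fun _ hz => by
  rw [mem_allD] at hz ⊢
  exact ⟨h hz.1, hz.2⟩

theorem allD_le_erase (B : E.obj.left.left.Opens) (l : List Γ(E.obj.left.left, ⊤)) (j : ℕ) : allD B l ≤ allD B (l.eraseIdx j) :=
  fun _ hz => by
    rw [mem_allD] at hz ⊢
    exact ⟨hz.1, fun x hx => hz.2 x (List.mem_of_mem_eraseIdx hx)⟩

theorem isAffineOpen_inf_basicOpen {B : E.obj.left.left.Opens} (hB : IsAffineOpen B) (x : Γ(E.obj.left.left, ⊤)) :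
    IsAffineOpen (B ⊓ E.obj.left.left.basicOpen x) := by
  have := hB.basicOpen (E.obj.left.left.presheaf.map (homOfLE (le_top : B ≤ ⊤)).op x)
  rwa [Scheme.basicOpen_res] at this

theorem sq_le_left (x : Γ(E.obj.left.left, ⊤)) (l : List Γ(E.obj.left.left, ⊤)) (B : E.obj.left.left.Opens) : uniD (B ⊓ E.obj.left.left.basicOpen x) l ≤ B ⊓ E.obj.left.left.basicOpen x :=
  fun _ hz => (mem_uniD.1 hz).1

theorem sq_le_inter (x : Γ(E.obj.left.left, ⊤)) (l : List Γ(E.obj.left.left, ⊤)) (B : E.obj.left.left.Opens) :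
    (B ⊓ E.obj.left.left.basicOpen x) ⊓ uniD B l ≤ uniD (B ⊓ E.obj.left.left.basicOpen x) l := fun _ hz => mem_uniD.2 ⟨hz.1, (mem_uniD.1 hz.2).2⟩

/-- the square adding one basic open -/
abbrev sq (x : Γ(E.obj.left.left, ⊤)) (l : List Γ(E.obj.left.left, ⊤)) (B : E.obj.left.left.Opens) : ShortComplex (AbEt X) :=
  mvSeq (sq_le_left x l B) (uniD_mono inf_le_left l) (le_sup_left : B ⊓ E.obj.left.left.basicOpen x ≤ uniD B (x :: l))
    (le_sup_right : uniD B l ≤ uniD B (x :: l))

theorem sq_shortExact (x : Γ(E.obj.left.left, ⊤)) (l : List Γ(E.obj.left.left, ⊤)) (B : E.obj.left.left.Opens) : (sq x l B).ShortExact :=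
  mvSeq_shortExact _ _ _ _ le_rfl (sq_le_inter x l B)

theorem subsingleton_ext_bot {G : AbEt X} (i : ℕ) :
    Subsingleton (Ext.{u + 1} ((P X).obj (openObj E ⊥)) G i) := by
  have hz : 𝟙 ((P X).obj (openObj E ⊥)) = 0 := σ.injective (by
    haveI := subsingleton_sect_of_isEmpty ((P X).obj (openObj E ⊥)) (openObj E ⊥)
      ⟨fun x => (x.2 : x.1 ∈ (⊥ : E.obj.left.left.Opens))⟩
    exact Subsingleton.elim (α := sect ((P X).obj (openObj E ⊥)) (openObj E ⊥)) _ _)
  refine subsingleton_of_forall_eq 0 fun x => ?_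
  rw [← Ext.mk₀_id_comp x, hz, Ext.mk₀_zero, Ext.zero_comp]

theorem comp_g_eq_zero {A B Z U : E.obj.left.left.Opens} (hZA : Z ≤ A) (hZB : Z ≤ B) (hAU : A ≤ U) (hBU : B ≤ U)
    {G : AbEt X} {i : ℕ} (hA : Subsingleton (Ext.{u + 1} ((P X).obj (openObj E A)) G i))
    (hB : Subsingleton (Ext.{u + 1} ((P X).obj (openObj E B)) G i))
    (x : Ext.{u + 1} ((P X).obj (openObj E U)) G i) :
    (Ext.mk₀ (mvSeq hZA hZB hAU hBU).g).comp x (zero_add i) = 0 := by
  show (Ext.mk₀ (biprod.desc ((P X).map (openLE hAU)) ((P X).map (openLE hBU)))).comp x (zero_add i) = 0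
  rw [biprod.desc_eq, Ext.mk₀_add, Ext.add_comp, ← Ext.mk₀_comp_mk₀_assoc, ← Ext.mk₀_comp_mk₀_assoc,
    hA.elim ((Ext.mk₀ ((P X).map (openLE hAU))).comp x (zero_add i)) 0,
    hB.elim ((Ext.mk₀ ((P X).map (openLE hBU))).comp x (zero_add i)) 0, Ext.comp_zero, Ext.comp_zero, add_zero]

variable (M : ModEt X) [M.IsQuasicoherent]

theorem subsingleton_ext_uniD : ∀ (l : List Γ(E.obj.left.left, ⊤)) (B : E.obj.left.left.Opens), IsAffineOpen B → ∀ i : ℕ, l.length ≤ i →
    Subsingleton (Ext.{u + 1} ((P X).obj (openObj E (uniD B l))) ((toAbEt X).obj M) i) := by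
  intro l
  induction l with
  | nil => intro B _ i _; exact subsingleton_ext_bot i
  | cons x l ih =>
    intro B hB i hi
    obtain ⟨i, rfl⟩ : ∃ j, i = j + 1 := ⟨i - 1, by simp at hi; omega⟩
    have hA := isAffineOpen_inf_basicOpen hB x
    have h1 := ih (B ⊓ E.obj.left.left.basicOpen x) hA i (by simp at hi; omega)
    refine subsingleton_of_forall_eq 0 fun ξ => ?_
    obtain ⟨η, rfl⟩ := Ext.contravariant_sequence_exact₃ (sq_shortExact x l B) _ ξ
      (comp_g_eq_zero _ _ _ _ (subsingleton_ext_qcoh i X M inferInstance (openObj E (B ⊓ E.obj.left.left.basicOpen x)) hA)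
        (ih B hB (i + 1) (by simp at hi; omega)) ξ) (add_comm 1 i)
    rw [h1.elim η 0, Ext.comp_zero]

/-- the top class -/
def eCls : ∀ (x : Γ(E.obj.left.left, ⊤)) (l : List Γ(E.obj.left.left, ⊤)) (B : E.obj.left.left.Opens),
    Ext.{u + 1} ((P X).obj (openObj E (uniD B (x :: l)))) ((P X).obj (openObj E (allD B (x :: l)))) l.length
  | x, [], B => Ext.mk₀ ((P X).map (openLE (sup_le le_rfl bot_le : uniD B [x] ≤ allD B [x])))
  | x, y :: l, B => (sq_shortExact x (y :: l) B).extClass.comp (eCls y l (B ⊓ E.obj.left.left.basicOpen x))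
      (add_comm 1 l.length : 1 + l.length = (y :: l).length)

theorem eCls_natural : ∀ (x : Γ(E.obj.left.left, ⊤)) (l : List Γ(E.obj.left.left, ⊤)) (B B' : E.obj.left.left.Opens) (h : B' ≤ B),
    (eCls x l B').comp (Ext.mk₀ ((P X).map (openLE (allD_mono h (x :: l))))) (add_zero l.length) =
      (Ext.mk₀ ((P X).map (openLE (uniD_mono h (x :: l))))).comp (eCls x l B) (zero_add l.length) := by
  intro x l
  induction l generalizing x with
  | nil =>
    intro B B' h
    simp only [eCls, List.length_nil, Ext.mk₀_comp_mk₀, ← Functor.map_comp, openLE_comp]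
  | cons y l ih =>
    intro B B' h
    have hA : B' ⊓ E.obj.left.left.basicOpen x ≤ B ⊓ E.obj.left.left.basicOpen x := inf_le_inf_right _ h
    let φ : sq x (y :: l) B' ⟶ sq x (y :: l) B :=
      mvSeqMap _ _ _ _ _ _ _ _ hA (uniD_mono h (y :: l)) (uniD_mono hA (y :: l)) (uniD_mono h (x :: y :: l))
    simp only [eCls]
    have h1 := (sq_shortExact x (y :: l) B').extClass_naturality (sq_shortExact x (y :: l) B) φ
    rw [Ext.comp_assoc _ _ _ _ (add_zero l.length) (by show _ = l.length + 1; omega)]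
    erw [ih y (B ⊓ E.obj.left.left.basicOpen x) (B' ⊓ E.obj.left.left.basicOpen x) hA]
    rw [← Ext.comp_assoc _ _ _ (add_zero 1) (zero_add l.length) (by show _ = l.length + 1; omega)]
    erw [h1]
    rw [Ext.comp_assoc _ _ _ (zero_add 1) (add_comm 1 l.length : 1 + l.length = (y :: l).length) (by show _ = l.length + 1; omega)]
    rfl

theorem exists_eCls_comp : ∀ (x : Γ(E.obj.left.left, ⊤)) (l : List Γ(E.obj.left.left, ⊤)) (B : E.obj.left.left.Opens), IsAffineOpen B →
    ∀ ξ : Ext.{u + 1} ((P X).obj (openObj E (uniD B (x :: l)))) ((toAbEt X).obj M) l.length,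
      ∃ φ : (P X).obj (openObj E (allD B (x :: l))) ⟶ (toAbEt X).obj M,
        (eCls x l B).comp (Ext.mk₀ φ) (add_zero l.length) = ξ := by
  intro x l
  induction l generalizing x with
  | nil =>
    intro B _ ξ
    obtain ⟨ψ, rfl⟩ := (Ext.mk₀_bijective _ _).2 ξ
    refine ⟨(P X).map (openLE (le_sup_left : allD B [x] ≤ uniD B [x])) ≫ ψ, ?_⟩
    simp only [eCls, List.length_nil, Ext.mk₀_comp_mk₀]
    rw [← Category.assoc, ← Functor.map_comp, openLE_comp, openLE_refl, CategoryTheory.Functor.map_id, Category.id_comp]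
  | cons y l ih =>
    intro B hB ξ
    have hA := isAffineOpen_inf_basicOpen hB x
    obtain ⟨η, rfl⟩ := Ext.contravariant_sequence_exact₃ (sq_shortExact x (y :: l) B) _ ξ
      (comp_g_eq_zero _ _ _ _ (subsingleton_ext_qcoh l.length X M inferInstance (openObj E (B ⊓ E.obj.left.left.basicOpen x)) hA)
        (subsingleton_ext_uniD M (y :: l) B hB _ le_rfl) ξ)
      (add_comm 1 l.length : 1 + l.length = (y :: l).length)
    obtain ⟨φ, rfl⟩ := ih y (B ⊓ E.obj.left.left.basicOpen x) hA η
    exact ⟨φ, Ext.comp_assoc _ _ _ _ (add_zero l.length) (by show _ = l.length + 1; omega)⟩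

/-- the top class kills what extends to a larger intersection -/
theorem eCls_comp_erase : ∀ (x : Γ(E.obj.left.left, ⊤)) (l : List Γ(E.obj.left.left, ⊤)) (B : E.obj.left.left.Opens) (j : ℕ), j ≤ l.length → l ≠ [] →
    (eCls x l B).comp (Ext.mk₀ ((P X).map (openLE (allD_le_erase B (x :: l) j)))) (add_zero l.length) = 0 := by
  intro x l
  induction l generalizing x with
  | nil => intro B j _ h; exact absurd rfl h
  | cons y l ih =>
    intro B j hj _
    have hs := sq_shortExact x (y :: l) B
    have hz : hs.extClass.comp (Ext.mk₀ ((P X).map (openLE (sq_le_left x (y :: l) B)))) (add_zero 1) = 0 := by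
      rw [show (P X).map (openLE (sq_le_left x (y :: l) B)) = (sq x (y :: l) B).f ≫ biprod.fst from
        (biprod.lift_fst _ _).symm, ← Ext.mk₀_comp_mk₀, ← Ext.comp_assoc _ _ _ (add_zero 1) (add_zero 0) (by omega),
        hs.extClass_comp, Ext.zero_comp]
    have hz' : hs.extClass.comp (Ext.mk₀ ((P X).map (openLE (uniD_mono inf_le_left (y :: l) :
        uniD (B ⊓ E.obj.left.left.basicOpen x) (y :: l) ≤ uniD B (y :: l))))) (add_zero 1) = 0 := by
      rw [show (P X).map (openLE (uniD_mono inf_le_left (y :: l) : uniD (B ⊓ E.obj.left.left.basicOpen x) (y :: l) ≤ uniD B (y :: l))) =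
        (sq x (y :: l) B).f ≫ (-biprod.snd) from by
          show _ = biprod.lift _ (-_) ≫ (-biprod.snd)
          rw [Preadditive.comp_neg, biprod.lift_snd, neg_neg],
        ← Ext.mk₀_comp_mk₀, ← Ext.comp_assoc _ _ _ (add_zero 1) (add_zero 0) (by omega), hs.extClass_comp, Ext.zero_comp]
    simp only [eCls]
    rw [Ext.comp_assoc _ _ _ _ (add_zero l.length) (by show _ = l.length + 1; omega)]
    rcases j with _ | j
    · erw [eCls_natural y l B (B ⊓ E.obj.left.left.basicOpen x) inf_le_left]
      rw [← Ext.comp_assoc _ _ _ (add_zero 1) (zero_add l.length) (by show _ = l.length + 1; omega)]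
      erw [hz']
      rw [Ext.zero_comp]
    · rcases l with _ | ⟨w, l⟩
      · obtain rfl : j = 0 := by simp at hj; omega
        simp only [eCls, List.length_nil, Ext.mk₀_comp_mk₀, ← Functor.map_comp, openLE_comp]
        exact hz
      · erw [ih y (B ⊓ E.obj.left.left.basicOpen x) j (by simp at hj ⊢; omega) (by simp)]
        rw [Ext.comp_zero]

/-- sections over a basic open -/
theorem exists_pow_smul_eq [IsAffine E.obj.left.left] {U : E.obj.left.left.Opens} (p : Γ(E.obj.left.left, ⊤)) (hU : U = E.obj.left.left.basicOpen p)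
    (φ : sectModEt M (openObj E U)) :
    ∃ (s : ℕ) (m : sectModEt M E), res (openHom E U) (ULift.up p) ^ s • φ = resM M (openHom E U) m := by
  let g := openHom E U
  haveI : IsAffine (openObj E U).obj.left.left := by
    subst hU
    exact (isAffineOpen_top _).basicOpen p
  have hloc : ∀ b : R (openObj E U), ∃ (s : ℕ) (a : R E), res g (ULift.up p) ^ s * b = res g a := fun b => by
    letI := (E.obj.left.left.presheaf.map (homOfLE (le_top : U.ι ''ᵁ ⊤ ≤ ⊤)).op).hom.toAlgebra
    haveI : IsLocalization.Away p Γ(E.obj.left.left, U.ι ''ᵁ ⊤) :=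
      (isAffineOpen_top _).isLocalization_of_eq_basicOpen p (homOfLE le_top) (U.ι_image_top.trans hU)
    obtain ⟨s, a, h⟩ := IsLocalization.Away.surj p (show Γ(E.obj.left.left, U.ι ''ᵁ ⊤) from b.down)
    exact ⟨s, ULift.up a, ULift.ext _ _ ((mul_comm _ _).trans h)⟩
  have hb := isBaseChange_res (M := M) g
  let Q : sectModEt M (openObj E U) → Prop := fun z => ∃ (s : ℕ) (m : sectModEt M E),
    res g (ULift.up p) ^ s • z = resM M g m
  refine IsTensorProduct.inductionOn (motive := fun z : Mg M g => Q z) hb (φ : Mg M g) ?_ ?_ ?_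
  · exact ⟨0, 0, (smul_zero _).trans (map_zero _).symm⟩
  · intro b m
    obtain ⟨s, a, h⟩ := hloc b
    refine ⟨s, a • m, ?_⟩
    rw [resM_smul]
    show res g (ULift.up p) ^ s • ((b : R (openObj E U)) • resM M g m) = _
    rw [smul_smul, h]
  · rintro z w ⟨s, m, hm⟩ ⟨t, m', hm'⟩
    refine ⟨s + t, ULift.up p ^ t • m + ULift.up p ^ s • m', ?_⟩
    rw [map_add, resM_smul, resM_smul, map_pow, map_pow, ← hm, ← hm', smul_smul, smul_smul, ← pow_add, ← pow_add,
      add_comm t s]
    exact smul_add _ _ _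

theorem isUnit_res_openHom {U : E.obj.left.left.Opens} {f : Γ(E.obj.left.left, ⊤)} (h : U ≤ E.obj.left.left.basicOpen f) :
    IsUnit (res (openHom E U) (ULift.up f)) := by
  have h1 := (E.obj.left.left.toRingedSpace.isUnit_res_basicOpen f).map
    (E.obj.left.left.presheaf.map (homOfLE (U.ι_image_top.le.trans h)).op).hom
  erw [← ConcreteCategory.comp_apply, ← Functor.map_comp] at h1
  exact (h1.map (ULift.ringEquiv.{u, u + 1}.symm.toRingHom) :)

theorem allD_eq_basicOpen [IsAffine E.obj.left.left] (l : List Γ(E.obj.left.left, ⊤)) : allD (⊤ : E.obj.left.left.Opens) l = E.obj.left.left.basicOpen l.prod := by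
  induction l with
  | nil => simp [allD, Scheme.basicOpen_of_isUnit]
  | cons x l ih =>
    rw [List.prod_cons, Scheme.basicOpen_mul, ← ih]
    ext z
    simp only [SetLike.mem_coe, TopologicalSpace.Opens.mem_inf, mem_allD, List.forall_mem_cons,
      TopologicalSpace.Opens.mem_top, true_and]

/-- sections over the total intersection decompose under a monomial relation -/
theorem mem_iSup_range [IsAffine E.obj.left.left] (l : List Γ(E.obj.left.left, ⊤))
    (hrel : ∀ s : ℕ, ∃ N : ℕ, l.prod ^ N ∈ Ideal.span (Set.range fun j : Fin l.length => l.get j ^ (N + s)))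
    (φ : sectModEt M (openObj E (allD ⊤ l))) :
    φ ∈ ⨆ j : Fin l.length, (resM M (openLE (allD_le_erase ⊤ l j))).range := by
  let g := openHom E (allD ⊤ l)
  obtain ⟨s, m, hm⟩ := exists_pow_smul_eq M l.prod (allD_eq_basicOpen l) φ
  obtain ⟨N, hN⟩ := hrel s
  obtain ⟨c, hc⟩ := Ideal.mem_span_range_iff_exists_fun.1 hN
  obtain ⟨u, hu⟩ := (isUnit_res_openHom (allD_eq_basicOpen l).le : IsUnit (res g (ULift.up l.prod))).exists_left_inv
  have hterm : ∀ j : Fin l.length, (u ^ (N + s) * res g (ULift.up (c j * l.get j ^ (N + s)))) • resM M g m ∈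
      ⨆ j : Fin l.length, (resM M (openLE (allD_le_erase ⊤ l j))).range := fun j => by
    refine AddSubgroup.mem_iSup_of_mem j ?_
    let h := openHom E (allD ⊤ (l.eraseIdx j))
    let i := openLE (allD_le_erase ⊤ l j)
    have hp : IsUnit (res h (ULift.up (l.eraseIdx j).prod)) := isUnit_res_openHom (allD_eq_basicOpen _).le
    obtain ⟨v, hv⟩ := hp.exists_left_inv
    have hi : ∀ a, res i (res h a) = res g a := fun a => by rw [← res_comp, openLE_hom]
    have hi' : resM M i (resM M h m) = resM M g m := by rw [← resM_comp, openLE_hom]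
    have hprod : l.prod = l.get j * (l.eraseIdx j).prod := by
      conv_lhs => rw [← List.prod_take_mul_prod_drop l j.1, List.drop_eq_getElem_cons j.2, List.prod_cons]
      rw [List.eraseIdx_eq_take_drop_succ, List.prod_append, List.get_eq_getElem]
      ring
    have hv' : res i v = u * res g (ULift.up (l.get j)) := by
      have h1 : res i v * res g (ULift.up (l.eraseIdx j).prod) = 1 := by rw [← hi, ← map_mul, hv, map_one]
      have h2 : u * res g (ULift.up (l.get j)) * res g (ULift.up (l.eraseIdx j).prod) = 1 := by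
        rw [mul_assoc, ← map_mul]
        rw [hprod] at hu
        exact hu
      calc res i v = res i v * (u * res g (ULift.up (l.get j)) * res g (ULift.up (l.eraseIdx j).prod)) := by
            rw [h2, mul_one]
        _ = u * res g (ULift.up (l.get j)) := by rw [mul_left_comm, h1, mul_one]
    refine ⟨(v ^ (N + s) * res h (ULift.up (c j))) • resM M h m, ?_⟩
    rw [resM_smul, hi', map_mul, map_pow, hv', hi]
    congr 1
    rw [show (ULift.up (c j * l.get j ^ (N + s)) : R E) = ULift.up (c j) * ULift.up (l.get j) ^ (N + s) from rfl,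
      map_mul, map_pow, mul_pow]
    ring
  have hsum : u ^ (N + s) * ∑ j, res g (ULift.up (c j * l.get j ^ (N + s))) = u ^ s := by
    rw [← map_sum (res g), show ∑ j, (ULift.up (c j * l.get j ^ (N + s)) : R E) = ULift.up l.prod ^ N from
      (map_sum (ULift.ringEquiv.{u, u + 1}.symm) _ _).symm.trans (congrArg (ULift.ringEquiv.{u, u + 1}.symm) hc),
      map_pow, pow_add, mul_assoc, mul_comm (u ^ s), ← mul_assoc, ← mul_pow, hu, one_pow, one_mul]
  have hφ : φ = ∑ j, (u ^ (N + s) * res g (ULift.up (c j * l.get j ^ (N + s)))) • resM M g m := by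
    rw [← Finset.sum_smul, ← Finset.mul_sum, hsum, ← hm, smul_smul, ← mul_pow, hu, one_pow, one_smul]
  rw [hφ]
  exact sum_mem fun j _ => hterm j

/-- the top degree vanishes -/
theorem subsingleton_ext_top [IsAffine E.obj.left.left] (x : Γ(E.obj.left.left, ⊤)) (l : List Γ(E.obj.left.left, ⊤)) (hl : l ≠ [])
    (hrel : ∀ s : ℕ, ∃ N : ℕ, (x :: l).prod ^ N ∈
      Ideal.span (Set.range fun j : Fin (x :: l).length => (x :: l).get j ^ (N + s))) :
    Subsingleton (Ext.{u + 1} ((P X).obj (openObj E (uniD ⊤ (x :: l)))) ((toAbEt X).obj M) l.length) := by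
  refine subsingleton_of_forall_eq 0 fun ξ => ?_
  obtain ⟨φ, rfl⟩ := exists_eCls_comp M x l ⊤ (isAffineOpen_top _) ξ
  obtain ⟨a, rfl⟩ := σ.symm.surjective φ
  refine AddSubgroup.iSup_induction _ (C := fun a : sect ((toAbEt X).obj M) (openObj E (allD ⊤ (x :: l))) =>
    (eCls x l ⊤).comp (Ext.mk₀ (σ.symm a)) (add_zero l.length) = 0) (mem_iSup_range M (x :: l) hrel a) ?_ ?_ ?_
  · rintro j _ ⟨b, rfl⟩
    have : σ.symm (resM M (openLE (allD_le_erase ⊤ (x :: l) j)) b : sect ((toAbEt X).obj M) _) =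
        (P X).map (openLE (allD_le_erase ⊤ (x :: l) j)) ≫ (σ (G := (toAbEt X).obj M)).symm b := by
      apply σ.injective
      rw [Equiv.apply_symm_apply, σ_map, Equiv.apply_symm_apply]
      rfl
    rw [this, ← Ext.mk₀_comp_mk₀, ← Ext.comp_assoc _ _ _ (add_zero l.length) (add_zero 0) (by omega),
      eCls_comp_erase x l ⊤ j (by have := j.2; simp at this; omega) hl, Ext.zero_comp]
  · rw [show σ.symm (0 : sect ((toAbEt X).obj M) (openObj E (allD ⊤ (x :: l)))) = 0 from σ.injective (by
      rw [Equiv.apply_symm_apply, σ_zero]), Ext.mk₀_zero, Ext.comp_zero]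
  · intro a b ha hb
    rw [show σ.symm (a + b) = σ.symm a + σ.symm b from σ.injective (by
      rw [Equiv.apply_symm_apply, σ_add, Equiv.apply_symm_apply, Equiv.apply_symm_apply]), Ext.mk₀_add, Ext.comp_add,
      ha, hb, add_zero]

end Groth.Agent.EtVan
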