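import Mathlib.Algebra.Category.Grp.EnoughInjectives
import Mathlib.Algebra.Category.Grp.Abelian
import Mathlib.CategoryTheory.Abelian.FunctorCategory
import Mathlib.CategoryTheory.Limits.FunctorCategory.EpiMono
import Mathlib.CategoryTheory.Preadditive.Injective.Preserves

/-!
Coinduced presheaves on a category with small hom-sets and a large set of objects.
-/

set_option autoImplicit false

universe u

open CategoryTheory CategoryTheory.Limits Opposite

namespace Groth.Agent.EtVan

variable {E : Type (u + 1)} [Category.{u} E]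

/-- the presheaf coinduced from a family of groups -/
def coind (A : E → AddCommGrpCat.{u + 1}) : Eᵒᵖ ⥤ AddCommGrpCat.{u + 1} where
  obj W := AddCommGrpCat.of (∀ V : E, (V ⟶ W.unop) → A V)
  map g := AddCommGrpCat.ofHom (AddMonoidHom.mk' (fun φ V f => φ V (f ≫ g.unop)) (fun _ _ => rfl))
  map_id W := by ext φ V f; change φ V (f ≫ 𝟙 _) = φ V f; rw [Category.comp_id]
  map_comp g h := by
    ext φ V f
    change φ V (f ≫ h.unop ≫ g.unop) = φ V ((f ≫ h.unop) ≫ g.unop)
    rw [Category.assoc]

/-- evaluation at the identity -/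
def evId (A : E → AddCommGrpCat.{u + 1}) (V : E) : (coind A).obj (op V) ⟶ A V :=
  AddCommGrpCat.ofHom (AddMonoidHom.mk' (fun φ => φ V (𝟙 V)) fun _ _ => rfl)

theorem injective_coind (A : E → AddCommGrpCat.{u + 1}) [∀ V, Injective (A V)] : Injective (coind A) where
  factors {P Q} φ m hm := by
    have hmono : ∀ V : E, Mono (m.app (op V)) := fun V => (NatTrans.mono_iff_mono_app m).mp hm (op V)
    let ψ : ∀ V, Q.obj (op V) ⟶ A V := fun V => Injective.factorThru (φ.app (op V) ≫ evId A V) (m.app (op V))
    refine ⟨{ app := fun W => AddCommGrpCat.ofHom (AddMonoidHom.mk' (fun q V f => ψ V (Q.map f.op q)) fun a b => ?_)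
              naturality := fun W W' g => ?_ }, ?_⟩
    · funext V f
      exact (congr_arg (ψ V) (map_add (Q.map f.op).hom a b)).trans (map_add (ψ V).hom _ _)
    · ext q; funext V f
      change ψ V (Q.map f.op (Q.map g q)) = ψ V (Q.map (f ≫ g.unop).op q)
      refine congr_arg (ψ V) ?_
      rw [← ConcreteCategory.comp_apply, ← Functor.map_comp]
      rfl
    · ext W p; funext V f
      change ψ V (Q.map f.op (m.app W p)) = φ.app W p V f
      rw [← NatTrans.naturality_apply m f.op p]
      refine (ConcreteCategory.congr_hom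
        (Injective.comp_factorThru (φ.app (op V) ≫ evId A V) (m.app (op V))) _).trans ?_
      refine (congr_arg (evId A V) (NatTrans.naturality_apply φ f.op p)).trans ?_
      change φ.app W p V (𝟙 V ≫ f) = φ.app W p V f
      rw [Category.id_comp]

/-- the injective group a presheaf embeds into at an object -/
noncomputable abbrev injAt (Q : Eᵒᵖ ⥤ AddCommGrpCat.{u + 1}) (V : E) : AddCommGrpCat.{u + 1} :=
  Injective.under (Q.obj (op V))

/-- the canonical map into a coinduced presheaf of injective groups -/
noncomputable def toCoindInj (Q : Eᵒᵖ ⥤ AddCommGrpCat.{u + 1}) : Q ⟶ coind (injAt Q) where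
  app W := AddCommGrpCat.ofHom (AddMonoidHom.mk' (fun s V f => Injective.ι (Q.obj (op V)) (Q.map f.op s))
    (fun a b => funext fun V => funext fun f =>
      (congr_arg (Injective.ι (Q.obj (op V))) (map_add (Q.map f.op).hom a b)).trans
        (map_add (Injective.ι (Q.obj (op V))).hom _ _)))
  naturality W W' g := by
    ext s; funext V f
    change Injective.ι (Q.obj (op V)) (Q.map f.op (Q.map g s)) = Injective.ι (Q.obj (op V)) (Q.map (f ≫ g.unop).op s)
    rw [← ConcreteCategory.comp_apply (f := Q.map g), ← Functor.map_comp]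
    rfl

instance mono_toCoindInj (Q : Eᵒᵖ ⥤ AddCommGrpCat.{u + 1}) : Mono (toCoindInj Q) := by
  have : ∀ W, Mono ((toCoindInj Q).app W) := fun W => (AddCommGrpCat.mono_iff_injective _).mpr fun a b h => by
    have h' := (AddCommGrpCat.mono_iff_injective (Injective.ι (Q.obj (op W.unop)))).mp inferInstance
      (congr_fun (congr_fun h W.unop) (𝟙 _))
    change Q.map (𝟙 W.unop).op a = Q.map (𝟙 W.unop).op b at h'
    simpa using h'
  exact NatTrans.mono_of_mono_app _

end Groth.Agent.EtVan
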