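import Groth.Agent.EtVan.ColimInj
import Groth.Agent.EtVan.Leray
import Groth.Agent.AlgSpLib.SepAffine
import Groth.Agent.AlgSpLib.QCompact
import Groth.Agent.ToposColim.Shift

/-!
Etale cohomology of quasi-compact quasi-separated algebraic spaces commutes with filtered colimits.
-/

set_option autoImplicit false
set_option linter.style.haveILetI false
set_option backward.isDefEq.respectTransparency false

universe u

noncomputable section

open CategoryTheory CategoryTheory.Limits CategoryTheory.Abelian AlgebraicGeometry Opposite AlgSp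

namespace Groth.Agent.EtVan

variable {S : Scheme.{u}} {X Y : Sp S}

/-- acyclic on quasi-compact separated objects -/
def SepAcyc (G : AbEt X) : Prop :=
  ∀ (W : EtOver X), CompactSpace ↥W.obj.left.left → W.obj.left.left.IsSeparated →
    ∀ i : ℕ, Subsingleton (Ext.{u + 1} ((P X).obj W) G (i + 1))

theorem sepAcyc_quotient [EnoughInjectives (AbEt X)] {G : AbEt X} (hG : SepAcyc G) :
    SepAcyc (SiteCoh.embedSeq G).X₃ := fun W hW hS i => by
  haveI : Subsingleton (Ext.{u + 1} ((P X).obj W) (SiteCoh.embedSeq G).X₁ (i + 1 + 1)) := hG W hW hS (i + 1)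
  exact SiteCoh.subsingleton_ext_quotient (SiteCoh.embedSeq_shortExact G) ((P X).obj W) (i + 1)

theorem isZero_RpushEt_of_sepAcyc {f : X ⟶ Y} (hf : Representable f)
    (hbc : ∀ E : EtOver Y, IsAffine E.obj.left.left → CompactSpace ↥((EtOver.bc hf).obj E).obj.left.left ∧
      ((EtOver.bc hf).obj E).obj.left.left.IsSeparated) (q : ℕ) :
    ∀ (G : AbEt X), SepAcyc G → IsZero ((RpushEt hf (q + 1)).obj G) := by
  haveI := enoughInjectives_abEt X
  haveI : HasInjectiveResolutions (AbEt X) := inferInstance
  haveI := preservesFiniteLimits_pushEt hf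
  let R := pushEt hf AddCommGrpCat.{u + 1}
  haveI : R.Additive := Functor.additive_of_preserves_binary_products R
  induction q with
  | zero =>
    intro G hG
    have hS := SiteCoh.embedSeq_shortExact G
    have he := (Groth.Agent.RDerLib.derivedLES R).exact₁ (SiteCoh.embedSeq G) hS 0 1 rfl
    have h2 := (Groth.Agent.RDerLib.derivedLES R).comp_δ (SiteCoh.embedSeq G) hS 0 1 rfl
    haveI : Epi (R.map (SiteCoh.embedSeq G).g) :=
      epi_of_surjective_affine _ fun E hE =>
        surjective_sections (SiteCoh.embedSeq_shortExact G) ((EtOver.bc hf).obj E)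
          (hG _ (hbc E hE).1 (hbc E hE).2 0)
    haveI : Epi ((R.rightDerived 0).map (SiteCoh.embedSeq G).g) := by
      rw [show (R.rightDerived 0).map (SiteCoh.embedSeq G).g = R.rightDerivedZeroIsoSelf.hom.app _ ≫
        R.map (SiteCoh.embedSeq G).g ≫ R.rightDerivedZeroIsoSelf.inv.app _ by
          rw [← NatTrans.naturality_assoc, Iso.hom_inv_id_app, Category.comp_id]]
      infer_instance
    exact he.isZero_X₂ (zero_of_epi_comp ((R.rightDerived 0).map (SiteCoh.embedSeq G).g) h2)
      ((R.isZero_rightDerived_obj_injective_succ 0 (SiteCoh.embedSeq G).X₂).eq_of_tgt _ _)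
  | succ q ih =>
    intro G hG
    have hS := SiteCoh.embedSeq_shortExact G
    have he := (Groth.Agent.RDerLib.derivedLES R).exact₁ (SiteCoh.embedSeq G) hS (q + 1) (q + 1 + 1) rfl
    exact he.isZero_X₂ ((ih _ (sepAcyc_quotient hG)).eq_of_src _ _)
      ((R.isZero_rightDerived_obj_injective_succ (q + 1) (SiteCoh.embedSeq G).X₂).eq_of_tgt _ _)

/-- the units along a diagram -/
def etaF (V : EtOver X) {J : Type (u + 1)} [SmallCategory J] (F : J ⥤ AbEt X) : F ⟶ F ⋙ hFun V where
  app j := etaH V (F.obj j)
  naturality _ _ k := (etaH_naturality V (F.map k)).symm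

section Global

variable [QuasiSeparatedSpace ↥S] (hqs : IsQuasiSeparatedSp X) {T0 : Over S} [IsAffine T0.left]
  {f : (yon S).obj T0 ⟶ X} (hfe : RepWith @Etale f) (hfs : RepWith @Surjective f)

include hqs hfe in
theorem compact_separated_bc (W : EtOver X) [IsAffine W.obj.left.left] :
    CompactSpace ↥((EtOver.bc (representable_hom (EtOver.mk f hfe))).obj W).obj.left.left ∧
      ((EtOver.bc (representable_hom (EtOver.mk f hfe))).obj W).obj.left.left.IsSeparated := by
  let hf := representable_hom (EtOver.mk f hfe)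
  let pl := hf.pullback W.obj.hom
  let fst : pl ⟶ T0 := (yon S).preimage (hf.fst W.obj.hom)
  let snd : pl ⟶ W.obj.left := hf.snd W.obj.hom
  have sq : IsPullback ((yon S).map fst) ((yon S).map snd) f W.obj.hom := by
    rw [(yon S).map_preimage]
    exact hf.isPullback W.obj.hom
  refine ⟨Groth.Agent.AlgSpLib.compact_pullback_of_isQuasiSeparatedSp hqs sq, ?_⟩
  haveI hm : Mono (prod.lift fst snd) := ⟨fun {Z} a b h => (yon S).map_injective (sq.hom_ext
    (by
      have := congrArg (· ≫ prod.fst) h
      simp only [Category.assoc, prod.lift_fst] at this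
      rw [← Functor.map_comp, ← Functor.map_comp, this])
    (by
      have := congrArg (· ≫ prod.snd) h
      simp only [Category.assoc, prod.lift_snd] at this
      rw [← Functor.map_comp, ← Functor.map_comp, this]))⟩
  haveI : Mono (prod.lift fst snd).left := inferInstanceAs (Mono ((Over.forget S).map (prod.lift fst snd)))
  haveI : IsSeparated (prod.lift fst snd).left := inferInstance
  let μ := Groth.Agent.AlgSpLib.magic T0 W.obj.left
  haveI : IsSeparated (terminal.from T0.left) := Scheme.IsSeparated.isSeparated_terminal_from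
  haveI : IsSeparated (terminal.from W.obj.left.left) := Scheme.IsSeparated.isSeparated_terminal_from
  haveI : IsSeparated μ := inferInstance
  haveI : IsSeparated (((prod.lift fst snd).left ≫ μ) ≫
    pullback.fst (terminal.from T0.left) (terminal.from W.obj.left.left) ≫ terminal.from T0.left) := inferInstance
  refine ⟨?_⟩
  show IsSeparated (terminal.from pl.left)
  rw [terminal.hom_ext (terminal.from pl.left) (((prod.lift fst snd).left ≫ μ) ≫
    pullback.fst (terminal.from T0.left) (terminal.from W.obj.left.left) ≫ terminal.from T0.left)]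
  infer_instance

variable {J : Type (u + 1)} [SmallCategory J] [IsFiltered J]

include hqs in
theorem preservesColimits_hChart : PreservesColimitsOfShape J (hFun (EtOver.mk f hfe)) := by
  haveI := preservesColimits_restr (J := J) (EtOver.mk f hfe).obj.hom (isEtaleMor_hom (EtOver.mk f hfe))
  haveI := preservesColimits_pushEt (J := J) (representable_hom (EtOver.mk f hfe)) fun W hW => by
    haveI := hW
    obtain ⟨h1, h2⟩ := compact_separated_bc hqs hfe W
    haveI := h2
    exact ⟨h1, inferInstance⟩
  infer_instance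

include hfs in
theorem mono_etaH_chart (G : AbEt X) : Mono (etaH (EtOver.mk f hfe) G) := by
  refine Preadditive.mono_of_cancel_zero _ fun {G'} g hg => ?_
  refine Sheaf.hom_ext (NatTrans.ext (funext fun W => ?_))
  ext m
  refine eq_of_cover_ab G (ι := PUnit.{u + 1}) (fun _ => fstProd (EtOver.mk f hfe) W.unop) (fun x => ?_) fun _ => ?_
  · obtain ⟨z, hz⟩ := (hfs.2 W.unop.obj.hom _ _
      ((representable_hom (EtOver.mk f hfe)).isPullback W.unop.obj.hom)).surj x
    refine ⟨⟨⟩, z, ?_⟩
    rw [show (fstProd (EtOver.mk f hfe) W.unop).hom.left = (representable_hom (EtOver.mk f hfe)).snd W.unop.obj.hom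
      from Groth.Agent.EtQC.postBcAdj_counit _ _ _]
    exact hz
  · refine Eq.trans ?_ (map_zero (G.obj.map (fstProd (EtOver.mk f hfe) W.unop).op).hom).symm
    exact ConcreteCategory.congr_hom (congrArg (fun q : G' ⟶ (hFun (EtOver.mk f hfe)).obj G => q.hom.app W) hg) m

theorem exists_const_iso (T : Over S) :
    Nonempty (constZ ((yon S).obj T) ≅ (P ((yon S).obj T)).obj (topObj T)) :=
  nonempty_const_iso (isTerminalTopObj T)

/-- maps from the constant sheaf into a direct image from the chart are sections on the chart -/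
def chartEquiv (hX : IsAlgSpace X) (G : AbEt X) :
    (constZ X ⟶ (hFun (EtOver.mk f hfe)).obj G) ≃
      sect ((restr (EtOver.mk f hfe).obj.hom (isEtaleMor_hom (EtOver.mk f hfe))).obj G) (topObj T0) :=
  (κ (representable_hom (EtOver.mk f hfe)) hX
      ((restr (EtOver.mk f hfe).obj.hom (isEtaleMor_hom (EtOver.mk f hfe))).obj G)).symm.trans
    ((exists_const_iso T0).some.homFromEquiv.trans σ)

theorem chartEquiv_comp (hX : IsAlgSpace X) {G G' : AbEt X} (φ : constZ X ⟶ (hFun (EtOver.mk f hfe)).obj G)
    (k : G ⟶ G') :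
    chartEquiv hfe hX G' (φ ≫ (hFun (EtOver.mk f hfe)).map k) =
      k.hom.app _ (chartEquiv hfe hX G φ) := by
  let hf := representable_hom (EtOver.mk f hfe)
  let r := restr (EtOver.mk f hfe).obj.hom (isEtaleMor_hom (EtOver.mk f hfe))
  obtain ⟨ψ, rfl⟩ := (κ hf hX (r.obj G)).surjective φ
  have h1 : κ hf hX (r.obj G) ψ ≫ (hFun (EtOver.mk f hfe)).map k = κ hf hX (r.obj G') (ψ ≫ r.map k) :=
    (κ_comp hf hX ψ (r.map k)).symm
  let e := (exists_const_iso T0).some
  show σ (G := r.obj G') (e.inv ≫ (κ hf hX (r.obj G')).symm (κ hf hX (r.obj G) ψ ≫ (hFun (EtOver.mk f hfe)).map k)) =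
    k.hom.app _ (σ (G := r.obj G) (e.inv ≫ (κ hf hX (r.obj G)).symm (κ hf hX (r.obj G) ψ)))
  rw [h1, Equiv.symm_apply_apply, Equiv.symm_apply_apply, ← Category.assoc, σ_comp]
  rfl

theorem chartEquiv_zero (hX : IsAlgSpace X) (G : AbEt X) :
    chartEquiv hfe hX G (0 : constZ X ⟶ (hFun (EtOver.mk f hfe)).obj G) = 0 := by
  haveI := additive_hFun (EtOver.mk f hfe)
  have h := chartEquiv_comp hfe hX (0 : constZ X ⟶ (hFun (EtOver.mk f hfe)).obj G) (0 : G ⟶ G)
  rw [zero_comp] at h
  exact h

include hqs hfe hfs in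
/-- a map from the constant sheaf killed in the colimit dies at a stage -/
theorem exists_zero_const (hX : IsAlgSpace X) (F : J ⥤ AbEt X) (i : J) (ψ : constZ X ⟶ F.obj i)
    (h : ψ ≫ colimit.ι F i = 0) : ∃ (j : J) (a : i ⟶ j), ψ ≫ F.map a = 0 := by
  haveI := preservesColimits_hChart hqs hfe (J := J)
  let E := EtOver.mk f hfe
  haveI : CompactSpace ↥((EtOver.postcomp E.obj.hom (isEtaleMor_hom E)).obj (topObj T0)).obj.left.left :=
    inferInstanceAs (CompactSpace ↥T0.left)
  have h0 : (colimit.ι F i).hom.app (op _) (chartEquiv hfe hX (F.obj i) (ψ ≫ etaH E (F.obj i))) = 0 := by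
    refine (chartEquiv_comp hfe hX (ψ ≫ etaH E (F.obj i)) (colimit.ι F i)).symm.trans ?_
    rw [Category.assoc, etaH_naturality, ← Category.assoc, h, zero_comp]
    exact chartEquiv_zero hfe hX _
  obtain ⟨j, a, ha⟩ := exists_zero (colimit.isColimit F) _ h0
  refine ⟨j, a, ?_⟩
  haveI := mono_etaH_chart hfe hfs (F.obj j)
  rw [← cancel_mono (etaH E (F.obj j)), zero_comp, Category.assoc, ← etaH_naturality, ← Category.assoc]
  apply (chartEquiv hfe hX (F.obj j)).injective
  exact ((chartEquiv_comp hfe hX _ (F.map a)).trans ha).trans (chartEquiv_zero hfe hX _).symm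

include hfs in
/-- the short exact sequence of functors given by the chart -/
theorem chartSeq_shortExact (F : J ⥤ AbEt X) :
    (ShortComplex.mk (etaF (EtOver.mk f hfe) F)
      (cokernel.π (etaF (EtOver.mk f hfe) F)) (cokernel.condition _)).ShortExact := by
  haveI : ∀ j, Mono ((etaF (EtOver.mk f hfe) F).app j) := fun j =>
    mono_etaH_chart hfe hfs (F.obj j)
  haveI := NatTrans.mono_of_mono_app (etaF (EtOver.mk f hfe) F)
  exact { exact := ShortComplex.exact_cokernel _ }

include hqs hfe in
theorem colimMap_etaNat (F : J ⥤ AbEt X) :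
    haveI := preservesColimits_hChart hqs hfe (J := J)
    (colim : (J ⥤ AbEt X) ⥤ AbEt X).map (etaF (EtOver.mk f hfe) F) =
      etaH (EtOver.mk f hfe) (colimit F) ≫ (preservesColimitIso (hFun (EtOver.mk f hfe)) F).hom := by
  haveI := preservesColimits_hChart hqs hfe (J := J)
  refine colimit.hom_ext fun j => ?_
  rw [colim_map, ι_colimMap, ← Category.assoc, ← etaH_naturality, Category.assoc, ι_preservesColimitIso_hom]
  rfl

include hqs hfe hfs in
/-- a map from the constant sheaf into a colimit factors through a stage -/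
theorem exists_rep_const (hX : IsAlgSpace X) (F : J ⥤ AbEt X) (φ : constZ X ⟶ colimit F) :
    ∃ (i : J) (ψ : constZ X ⟶ F.obj i), ψ ≫ colimit.ι F i = φ := by
  haveI := preservesColimits_hChart hqs hfe (J := J)
  let E := EtOver.mk f hfe
  haveI : IsAffine ((EtOver.postcomp E.obj.hom (isEtaleMor_hom E)).obj (topObj T0)).obj.left.left :=
    ‹IsAffine T0.left›
  obtain ⟨j, s, hs⟩ := exists_rep (colimit.isColimit F) (E := (EtOver.postcomp E.obj.hom (isEtaleMor_hom E)).obj (topObj T0))
    (chartEquiv hfe hX (colimit F) (φ ≫ etaH E (colimit F)))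
  let t : constZ X ⟶ (hFun E).obj (F.obj j) := (chartEquiv hfe hX (F.obj j)).symm s
  have ht : t ≫ (hFun E).map (colimit.ι F j) = φ ≫ etaH E (colimit F) := by
    apply (chartEquiv hfe hX (colimit F)).injective
    refine (chartEquiv_comp hfe hX t (colimit.ι F j)).trans ?_
    rw [Equiv.apply_symm_apply]
    exact hs
  let T : ShortComplex (J ⥤ AbEt X) := ShortComplex.mk (etaF E F)
    (cokernel.π (etaF E F)) (cokernel.condition _)
  have hT : T.ShortExact := chartSeq_shortExact hfe hfs F
  have ht' : t ≫ colimit.ι (F ⋙ hFun E) j = φ ≫ (colim : (J ⥤ AbEt X) ⥤ AbEt X).map T.f := by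
    rw [colimMap_etaNat hqs hfe F, ← ι_preservesColimitIso_hom (hFun E) F j, ← Category.assoc, ht, Category.assoc]
  have h0 : (t ≫ T.g.app j) ≫ colimit.ι T.X₃ j = 0 := by
    rw [Category.assoc, ← ι_colimMap T.g j, ← Category.assoc]
    erw [ht']
    rw [Category.assoc]
    erw [← (colim : (J ⥤ AbEt X) ⥤ AbEt X).map_comp, T.zero]
    rw [Functor.map_zero, comp_zero]
  obtain ⟨k, a, ha⟩ := exists_zero_const hqs hfe hfs hX T.X₃ j (t ≫ T.g.app j) h0
  have hTk : (T.map ((evaluation J (AbEt X)).obj k)).ShortExact := hT.map_of_exact _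
  haveI := hTk.mono_f
  let t' : constZ X ⟶ (T.map ((evaluation J (AbEt X)).obj k)).X₂ := t ≫ T.X₂.map a
  have hk : t' ≫ (T.map ((evaluation J (AbEt X)).obj k)).g = 0 := by
    show (t ≫ T.X₂.map a) ≫ T.g.app k = 0
    rw [Category.assoc, T.g.naturality, ← Category.assoc, ha]
  refine ⟨k, hTk.exact.lift t' hk, ?_⟩
  haveI : PreservesFiniteLimits (colim : (J ⥤ AbEt X) ⥤ AbEt X) := HasExactColimitsOfShape.preservesFiniteLimits
  haveI := hT.mono_f
  rw [← cancel_mono ((colim : (J ⥤ AbEt X) ⥤ AbEt X).map T.f), Category.assoc]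
  erw [ι_colimMap T.f k]
  rw [← Category.assoc, show hTk.exact.lift t' hk ≫ T.f.app k = t' from hTk.exact.lift_f _ _]
  refine Eq.trans ?_ ht'
  show (t ≫ T.X₂.map a) ≫ colimit.ι T.X₂ k = t ≫ colimit.ι T.X₂ j
  rw [Category.assoc, colimit.w]

include hqs hfe hfs in
/-- filtered colimits of injectives have no higher cohomology -/
theorem subsingleton_H_colim_injective (hX : IsAlgSpace X) (p : ℕ) :
    ∀ (K : J ⥤ AbEt X), (∀ j, Injective (K.obj j)) →
      Subsingleton (Ext.{u + 1} (constZ X) (colimit K) (p + 1)) := by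
  let E := EtOver.mk f hfe
  let hf := representable_hom E
  let r := restr E.obj.hom (isEtaleMor_hom E)
  haveI := preservesColimits_hChart hqs hfe (J := J)
  haveI := preservesInjective_hFun E
  haveI := preservesInjective_restr E.obj.hom (isEtaleMor_hom E)
  haveI := preservesColimits_restr (J := J) E.obj.hom (isEtaleMor_hom E)
  induction p using Nat.strong_induction_on with
  | _ p ih =>
    intro K hK
    refine subsingleton_of_forall_eq 0 fun ξ => ?_
    let T : ShortComplex (J ⥤ AbEt X) := ShortComplex.mk (etaF E K)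
      (cokernel.π (etaF E K)) (cokernel.condition _)
    have hT : T.ShortExact := chartSeq_shortExact hfe hfs K
    have hTi : ∀ j, (T.map ((evaluation J (AbEt X)).obj j)).ShortExact := fun j => hT.map_of_exact _
    haveI hX₂ : ∀ j, Injective ((T.map ((evaluation J (AbEt X)).obj j)).X₂) := fun j =>
      (hFun E).injective_obj_of_injective (hK j)
    have hsplit : ∀ j, (T.map ((evaluation J (AbEt X)).obj j)).Splitting := fun j => by
      haveI : Injective ((T.map ((evaluation J (AbEt X)).obj j)).X₁) := hK j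
      exact (hTi j).splittingOfInjective
    have hC : ∀ j, Injective (T.X₃.obj j) := fun j =>
      (Retract.injective (Y := (T.map ((evaluation J (AbEt X)).obj j)).X₂)
        { i := (hsplit j).s, r := (T.map ((evaluation J (AbEt X)).obj j)).g, retract := (hsplit j).s_g } :)
    haveI : PreservesFiniteLimits (colim : (J ⥤ AbEt X) ⥤ AbEt X) := HasExactColimitsOfShape.preservesFiniteLimits
    haveI : (colim : (J ⥤ AbEt X) ⥤ AbEt X).Additive := ⟨fun {X Y f g} => colimit.hom_ext fun k => by simp⟩
    have hA : (T.map colim).ShortExact := hT.map_of_exact _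
    have hG : SepAcyc (colimit (K ⋙ r)) := fun W hW hS i =>
      subsingleton_ext_colim i _ (K ⋙ r) (fun j => r.injective_obj_of_injective (hK j)) W hW hS
    obtain ⟨eH⟩ := nonempty_H_addEquiv hf hX (colimit (K ⋙ r))
      (fun q => isZero_RpushEt_of_sepAcyc hf (fun W hW => by
        haveI := hW
        exact compact_separated_bc hqs hfe W) q _ hG) (p + 1)
    haveI : IsAffine (topObj T0).obj.left.left := ‹IsAffine T0.left›
    have hsub : Subsingleton (HEt ((yon S).obj T0) (colimit (K ⋙ r)) (p + 1)) :=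
      subsingleton_HEt (isTerminalTopObj T0) _ _ (hG _ inferInstance inferInstance p)
    have hsub' : Subsingleton (HEt X ((pushEt hf AddCommGrpCat.{u + 1}).obj (colimit (K ⋙ r))) (p + 1)) :=
      eH.toEquiv.subsingleton_congr.mp hsub
    have h0 : ξ.comp (Ext.mk₀ ((colim : (J ⥤ AbEt X) ⥤ AbEt X).map T.f)) (add_zero (p + 1)) = 0 := by
      rw [colimMap_etaNat hqs hfe K]
      let e1 : (pushEt hf AddCommGrpCat.{u + 1}).obj (colimit (K ⋙ r)) ≅ (hFun E).obj (colimit K) :=
        (pushEt hf AddCommGrpCat.{u + 1}).mapIso (preservesColimitIso r K).symm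
      rw [show etaH E (colimit K) = (etaH E (colimit K) ≫ e1.inv) ≫ e1.hom by
          rw [Category.assoc, e1.inv_hom_id, Category.comp_id],
        Category.assoc, ← Ext.mk₀_comp_mk₀, ← Ext.comp_assoc _ _ _ (add_zero (p + 1)) (add_zero 0) (by omega),
        hsub'.elim (ξ.comp (Ext.mk₀ (etaH E (colimit K) ≫ e1.inv)) (add_zero (p + 1))) 0, Ext.zero_comp]
    obtain ⟨x₃, hx₃⟩ := Ext.covariant_sequence_exact₁ (constZ X) hA ξ h0 rfl
    rw [← hx₃]
    obtain _ | p := p
    · obtain ⟨ψ, rfl⟩ := (Ext.mk₀_bijective _ _).2 x₃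
      obtain ⟨j, s, hs⟩ := exists_rep_const hqs hfe hfs hX T.X₃ ψ
      have : ψ = ((s ≫ (hsplit j).s) ≫ colimit.ι T.X₂ j) ≫ (T.map colim).g := by
        rw [← hs, Category.assoc, Category.assoc]
        show _ = s ≫ (hsplit j).s ≫ colimit.ι T.X₂ j ≫ colimMap T.g
        rw [ι_colimMap]
        exact congrArg (s ≫ ·) ((Category.id_comp _).symm.trans
          ((congrArg (· ≫ colimit.ι T.X₃ j) (hsplit j).s_g.symm).trans (Category.assoc _ _ _)))
      rw [this, ← Ext.mk₀_comp_mk₀, Ext.comp_assoc _ _ _ (zero_add 0) (zero_add 1) (by omega), hA.comp_extClass,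
        Ext.comp_zero]
    · haveI : Subsingleton (Ext.{u + 1} (constZ X) (T.map colim).X₃ (p + 1)) :=
        ih p (Nat.lt_succ_self p) T.X₃ hC
      rw [Subsingleton.elim x₃ 0, Ext.zero_comp]

end Global

/-- etale cohomology of a quasi-compact quasi-separated space commutes with filtered colimits -/
theorem preservesColimitsOfShape_HEtF [QuasiSeparatedSpace ↥S] (X : Space S) (hqc : IsQuasiCompactSp X.obj)
    (hqs : IsQuasiSeparatedSp X.obj) (J : Type (u + 1)) [SmallCategory J] [IsFiltered J] (p : ℕ) :
    PreservesColimitsOfShape J (HEtF X.obj p) := by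
  haveI := Groth.Agent.AlgSpLib.compactSpace_of_isQuasiCompactSp hqc
  obtain ⟨T0, f, hT0, hfe, hfs⟩ := Groth.Agent.AlgSpLib.exists_affine_chart_of_compact X.property
  haveI := hT0
  haveI := enoughInjectives_abEt X.obj
  haveI : PreservesColimitsOfShape J
      ((Abelian.extFunctor.{u + 1} p).obj (op (constZ X.obj)) : AbEt X.obj ⥤ AddCommGrpCat.{u + 1}) :=
    ToposColim.preservesColimitsOfShape_extFunctor (constZ X.obj)
      (fun F φ => exists_rep_const hqs hfe hfs X.property F φ)
      (fun F i ψ h => exists_zero_const hqs hfe hfs X.property F i ψ h)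
      (fun F hF q => subsingleton_H_colim_injective hqs hfe hfs X.property q F hF) p
  exact preservesColimitsOfShape_of_natIso
    (NatIso.ofComponents (fun G => Iso.refl _) fun f => rfl :
      (Abelian.extFunctor.{u + 1} p).obj (op (constZ X.obj)) ≅ HEtF X.obj p)

end Groth.Agent.EtVan
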