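import Groth.Agent.EtVan.Free
import Groth.Agent.EtVan.Coind
import Groth.Agent.EtMV.Ext
import Groth.Agent.EtQC.EtPull
import Mathlib.Algebra.Homology.HomologicalComplexAbelian
import Mathlib.CategoryTheory.Sites.EpiMono
import Mathlib.CategoryTheory.Abelian.GrothendieckCategory.EnoughInjectives

/-!
Restriction of abelian sheaves along post-composition with an etale morphism: it is exact and preserves
injectives, and identifies cohomology over an object with cohomology at a terminal object.
-/

set_option autoImplicit false
set_option linter.style.haveILetI false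
set_option backward.isDefEq.respectTransparency false

universe u

noncomputable section

open CategoryTheory CategoryTheory.Limits CategoryTheory.Abelian AlgebraicGeometry Opposite AlgSp

namespace Groth.Agent.EtVan

open Groth.Agent.AlgSpLib

variable {S : Scheme.{u}} {X Y : Sp S} (f : X ⟶ Y) (he : IsEtaleMor f)

theorem enoughInjectives_abEt (X : Sp S) : EnoughInjectives (AbEt X) :=
  IsGrothendieckAbelian.enoughInjectives.{u + 1}

/-- restriction of abelian sheaves -/
abbrev restr : AbEt Y ⥤ AbEt X :=
  (EtOver.postcomp f he).sheafPushforwardContinuous AddCommGrpCat.{u + 1} (etTop X) (etTop Y)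

/-- the retraction from the coinduced presheaf on the source -/
def coindRetr (I : (EtOver Y)ᵒᵖ ⥤ AddCommGrpCat.{u + 1}) :
    coind (fun V : EtOver X => injAt I ((EtOver.postcomp f he).obj V)) ⟶
      (EtOver.postcomp f he).op ⋙ coind (injAt I) where
  app W := AddCommGrpCat.ofHom (AddMonoidHom.mk'
    (fun ψ V g => Injective.factorThru (I.map (PostcompSite.liftIso f he g).op ≫ Injective.ι (I.obj (op V)))
      (Injective.ι (I.obj (op ((EtOver.postcomp f he).obj (PostcompSite.lift f he g)))))
      (ψ (PostcompSite.lift f he g) (PostcompSite.liftHom f he g)))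
    (fun a b => funext fun V => funext fun g =>
      map_add (Injective.factorThru (I.map (PostcompSite.liftIso f he g).op ≫ Injective.ι (I.obj (op V)))
        (Injective.ι (I.obj (op ((EtOver.postcomp f he).obj (PostcompSite.lift f he g)))))).hom _ _))
  naturality W W' h := by
    ext ψ
    funext V g
    change Injective.factorThru (I.map (PostcompSite.liftIso f he g).op ≫ Injective.ι (I.obj (op V)))
      (Injective.ι (I.obj (op ((EtOver.postcomp f he).obj (PostcompSite.lift f he g)))))
      (ψ (PostcompSite.lift f he g) (PostcompSite.liftHom f he g ≫ h.unop)) =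
      Injective.factorThru (I.map (PostcompSite.liftIso f he (g ≫ (EtOver.postcomp f he).map h.unop)).op ≫
          Injective.ι (I.obj (op V)))
      (Injective.ι (I.obj (op ((EtOver.postcomp f he).obj
        (PostcompSite.lift f he (g ≫ (EtOver.postcomp f he).map h.unop))))))
      (ψ (PostcompSite.lift f he (g ≫ (EtOver.postcomp f he).map h.unop))
        (PostcompSite.liftHom f he (g ≫ (EtOver.postcomp f he).map h.unop)))
    have key : ∀ (q q' : (yon S).obj V.obj.left ⟶ X) (hq : RepWith @Etale q) (hq' : RepWith @Etale q'), q = q' →
        ∀ (a : V ⟶ (EtOver.postcomp f he).obj (EtOver.mk q hq)) (a' : V ⟶ (EtOver.postcomp f he).obj (EtOver.mk q' hq'))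
          (m : EtOver.mk q hq ⟶ W.unop) (m' : EtOver.mk q' hq' ⟶ W.unop),
        a.hom.left = a'.hom.left → m.hom.left = m'.hom.left →
        Injective.factorThru (I.map a.op ≫ Injective.ι (I.obj (op V)))
          (Injective.ι (I.obj (op ((EtOver.postcomp f he).obj (EtOver.mk q hq))))) (ψ (EtOver.mk q hq) m) =
        Injective.factorThru (I.map a'.op ≫ Injective.ι (I.obj (op V)))
          (Injective.ι (I.obj (op ((EtOver.postcomp f he).obj (EtOver.mk q' hq'))))) (ψ (EtOver.mk q' hq') m') := by
      intro q q' hq hq' e a a' m m' ha hm
      subst e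
      obtain rfl := EtOver.hom_ext _ _ ha
      obtain rfl := EtOver.hom_ext _ _ hm
      rfl
    refine key _ _ _ _ ?_ _ _ _ _ rfl rfl
    show (yon S).map g.hom.left ≫ W'.unop.obj.hom =
      (yon S).map (g.hom.left ≫ h.unop.hom.left) ≫ W.unop.obj.hom
    rw [← EtOver.w h.unop, Functor.map_comp, Category.assoc]

theorem injective_restr_presheaf (I : (EtOver Y)ᵒᵖ ⥤ AddCommGrpCat.{u + 1}) [Injective I] :
    Injective ((EtOver.postcomp f he).op ⋙ I) := by
  haveI : Injective (coind fun V : EtOver X => injAt I ((EtOver.postcomp f he).obj V)) := injective_coind _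
  refine Retract.injective
    (Y := coind fun V : EtOver X => injAt I ((EtOver.postcomp f he).obj V))
    { i :=
        { app := fun W => AddCommGrpCat.ofHom (AddMonoidHom.mk'
            (fun s V g => Injective.ι (I.obj (op ((EtOver.postcomp f he).obj V)))
              (I.map ((EtOver.postcomp f he).map g).op s))
            (fun a b => funext fun V => funext fun g =>
              (congr_arg (Injective.ι (I.obj (op ((EtOver.postcomp f he).obj V))))
                (map_add (I.map ((EtOver.postcomp f he).map g).op).hom a b)).trans
              (map_add (Injective.ι (I.obj (op ((EtOver.postcomp f he).obj V)))).hom _ _)))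
          naturality := fun W W' k => by
            ext s
            funext V g
            change Injective.ι (I.obj (op ((EtOver.postcomp f he).obj V))) (I.map ((EtOver.postcomp f he).map g).op
              (I.map ((EtOver.postcomp f he).map k.unop).op s)) =
              Injective.ι (I.obj (op ((EtOver.postcomp f he).obj V))) (I.map ((EtOver.postcomp f he).map (g ≫ k.unop)).op s)
            rw [← ConcreteCategory.comp_apply (f := I.map ((EtOver.postcomp f he).map k.unop).op), ← I.map_comp,
              ← op_comp, ← Functor.map_comp] }
      r := coindRetr f he I ≫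
        Functor.whiskerLeft (EtOver.postcomp f he).op (Injective.factorThru (𝟙 I) (toCoindInj I))
      retract := ?_ }
  ext W s
  refine Eq.trans ?_ (ConcreteCategory.congr_hom (NatTrans.congr_app
    (Injective.comp_factorThru (𝟙 I) (toCoindInj I)) (op ((EtOver.postcomp f he).obj W.unop))) s)
  refine congr_arg ((Injective.factorThru (𝟙 I) (toCoindInj I)).app (op ((EtOver.postcomp f he).obj W.unop))) ?_
  funext V g
  change Injective.factorThru (I.map (PostcompSite.liftIso f he g).op ≫ Injective.ι (I.obj (op V)))
      (Injective.ι (I.obj (op ((EtOver.postcomp f he).obj (PostcompSite.lift f he g)))))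
      (Injective.ι (I.obj (op ((EtOver.postcomp f he).obj (PostcompSite.lift f he g)))) (I.map ((EtOver.postcomp f he).map (PostcompSite.liftHom f he g)).op s)) =
    Injective.ι (I.obj (op V)) (I.map g.op s)
  refine (ConcreteCategory.congr_hom (Injective.comp_factorThru
    (I.map (PostcompSite.liftIso f he g).op ≫ Injective.ι (I.obj (op V)))
    (Injective.ι (I.obj (op ((EtOver.postcomp f he).obj (PostcompSite.lift f he g)))))) _).trans ?_
  rw [ConcreteCategory.comp_apply]
  refine congr_arg (Injective.ι (I.obj (op V))) ?_
  rw [← ConcreteCategory.comp_apply, ← I.map_comp, ← op_comp, PostcompSite.liftIso_map]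
  rfl

theorem preservesInjective_restr : (restr f he).PreservesInjectiveObjects where
  injective_obj {I} hI := by
    haveI : Injective I.obj :=
      Injective.injective_of_adjoint (sheafificationAdjunction (etTop Y) AddCommGrpCat.{u + 1}) I
    haveI : Injective ((restr f he).obj I).obj := injective_restr_presheaf f he I.obj
    exact
      { factors := fun {A B} g k hk => by
          haveI : Mono k.hom := inferInstanceAs (Mono ((sheafToPresheaf _ _).map k))
          exact ⟨⟨Injective.factorThru g.hom k.hom⟩, Sheaf.hom_ext (Injective.comp_factorThru g.hom k.hom)⟩ }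

theorem preservesEpi_restr : (restr f he).PreservesEpimorphisms where
  preserves {F G} k hk := by
    have hl : Sheaf.IsLocallySurjective k := (Sheaf.isLocallySurjective_iff_epi' _ _).mpr hk
    refine (Sheaf.isLocallySurjective_iff_epi' _ _).mp ⟨fun {W} s => ?_⟩
    have h := Presheaf.imageSieve_mem (etTop Y) k.hom (U := op ((EtOver.postcomp f he).obj W)) s
    haveI := PostcompSite.isCocontinuous f he
    refine (etTop X).superset_covering ?_ ((EtOver.postcomp f he).cover_lift (etTop X) (etTop Y) h)
    intro Z g hg
    exact hg

theorem preservesFiniteLimits_restr' : PreservesFiniteLimits (restr f he) := by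
  haveI : PreservesFiniteLimits (restr f he ⋙ sheafToPresheaf (etTop X) AddCommGrpCat.{u + 1}) :=
    comp_preservesFiniteLimits (sheafToPresheaf (etTop Y) AddCommGrpCat.{u + 1})
      ((Functor.whiskeringLeft _ _ AddCommGrpCat.{u + 1}).obj (EtOver.postcomp f he).op)
  exact preservesFiniteLimits_of_reflects_of_preserves _ (sheafToPresheaf (etTop X) AddCommGrpCat.{u + 1})

theorem additive_restr : (restr f he).Additive :=
  haveI := preservesFiniteLimits_restr' f he
  Functor.additive_of_preserves_binary_products (restr f he)

theorem preservesFiniteColimits_restr : PreservesFiniteColimits (restr f he) := by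
  haveI := preservesFiniteLimits_restr' f he
  haveI := additive_restr f he
  haveI := preservesEpi_restr f he
  have := Functor.preservesHomology_of_preservesEpis_and_kernels (restr f he)
  exact Functor.preservesFiniteColimits_of_preservesHomology (restr f he)

/-- vanishing over an object follows from vanishing at a terminal object of its own site -/
theorem subsingleton_ext_of_restr (E₀ : EtOver X) {E : EtOver Y} (e : E ≅ (EtOver.postcomp f he).obj E₀)
    (G : AbEt Y) (n : ℕ) (h : Subsingleton (Ext.{u + 1} ((P X).obj E₀) ((restr f he).obj G) n)) :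
    Subsingleton (Ext.{u + 1} ((P Y).obj E) G n) := by
  haveI := preservesFiniteLimits_restr' f he
  haveI := additive_restr f he
  haveI := preservesFiniteColimits_restr f he
  haveI := preservesInjective_restr f he
  haveI := enoughInjectives_abEt Y
  let c : (P X).obj E₀ ⟶ (restr f he).obj ((P Y).obj E) :=
    σ.symm (((P Y).obj E).obj.map e.inv.op (σ (𝟙 ((P Y).obj E))))
  have hc : ∀ (H : AbEt Y) (φ : (P Y).obj E ⟶ H),
      σ (c ≫ (restr f he).map φ) = H.obj.map e.inv.op (σ φ) := fun H φ => by
    rw [σ_comp, Equiv.apply_symm_apply]
    have h1 : σ φ = φ.hom.app (op E) (σ (𝟙 ((P Y).obj E))) := by rw [← σ_comp, Category.id_comp]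
    rw [h1]
    exact NatTrans.naturality_apply φ.hom e.inv.op _
  have hb : ∀ H, Function.Bijective (fun φ : (P Y).obj E ⟶ H => c ≫ (restr f he).map φ) := fun H => by
    let m : sect H E ≃ sect ((restr f he).obj H) E₀ := (H.obj.mapIso e.symm.op).addCommGroupIsoToAddEquiv.toEquiv
    have : (fun φ : (P Y).obj E ⟶ H => c ≫ (restr f he).map φ) = σ.symm ∘ m ∘ σ := funext fun φ =>
      σ.injective ((hc H φ).trans (σ.apply_symm_apply (m (σ φ))).symm)
    rw [this]
    exact σ.symm.bijective.comp (m.bijective.comp σ.bijective)
  exact (Equiv.ofBijective _ (EtMV.T_bijective (restr f he) c hb n G)).subsingleton_congr.mpr h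

end Groth.Agent.EtVan
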