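import Groth.Agent.AnLib.FlatLan
import Groth.Agent.EtVan.Restr
import Groth.Prelude.Def_AlgSpOX2
import Mathlib.CategoryTheory.Filtered.Basic

/-!
Inverse images of abelian sheaves along representable morphisms are exact, so direct images preserve injectives.
-/

set_option autoImplicit false
set_option linter.style.haveILetI false
set_option backward.isDefEq.respectTransparency false

universe u

noncomputable section

open CategoryTheory CategoryTheory.Limits AlgebraicGeometry Opposite AlgSp

namespace Groth.Agent.EtVan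

section Colim

variable {J : Type (u + 1)} [Category.{u} J]

theorem isZero_colim_obj [IsEmpty J] (F : J ⥤ AddCommGrpCat.{u + 1}) :
    IsZero ((colim : (J ⥤ AddCommGrpCat.{u + 1}) ⥤ AddCommGrpCat.{u + 1}).obj F) := by
  haveI : ∀ Z : AddCommGrpCat.{u + 1}, Subsingleton (colimit F ⟶ Z) := fun Z =>
    ⟨fun a b => colimit.hom_ext fun j => isEmptyElim j⟩
  exact (IsZero.iff_id_eq_zero _).mpr ((‹∀ Z : AddCommGrpCat.{u + 1}, Subsingleton (colimit F ⟶ Z)› _).elim _ _)

theorem colim_preservesFiniteLimits_of_isEmpty [IsEmpty J] :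
    PreservesFiniteLimits (colim : (J ⥤ AddCommGrpCat.{u + 1}) ⥤ AddCommGrpCat.{u + 1}) :=
  ⟨fun K _ _ => ⟨fun {D} => ⟨fun {c} _ => ⟨
    { lift := fun _ => 0
      fac := fun _ j => (isZero_colim_obj (D.obj j)).eq_of_tgt _ _
      uniq := fun _ _ _ => (isZero_colim_obj c.pt).eq_of_tgt _ _ }⟩⟩⟩⟩

theorem colim_preservesFiniteLimits_of_filteredOrEmpty [IsFilteredOrEmpty J] :
    PreservesFiniteLimits (colim : (J ⥤ AddCommGrpCat.{u + 1}) ⥤ AddCommGrpCat.{u + 1}) := by
  rcases isEmpty_or_nonempty J with h | h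
  · exact colim_preservesFiniteLimits_of_isEmpty
  · haveI : IsFiltered J := { }
    exact AnLib.colim_preservesFiniteLimits J

end Colim

variable {S : Scheme.{u}} {X Y : Sp S} {f : X ⟶ Y} (hf : Representable f)

/-- a map into a base change -/
def toBc {W : EtOver X} {E : EtOver Y} (t : W.obj.left ⟶ E.obj.left)
    (ht : (yon S).map t ≫ E.obj.hom = W.obj.hom ≫ f) : W ⟶ (EtOver.bc hf).obj E :=
  EtOver.homMk (E' := (EtOver.bc hf).obj E) (hf.lift W.obj.hom t ht.symm) (hf.lift_fst _ _ _)

/-- the underlying map of a map into a base change -/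
abbrev underMap {W : EtOver X} {E : EtOver Y} (a : W ⟶ (EtOver.bc hf).obj E) : W.obj.left ⟶ E.obj.left :=
  a.hom.left ≫ hf.snd E.obj.hom

theorem underMap_w {W : EtOver X} {E : EtOver Y} (a : W ⟶ (EtOver.bc hf).obj E) :
    (yon S).map (underMap hf a) ≫ E.obj.hom = W.obj.hom ≫ f := by
  rw [Functor.map_comp, Category.assoc, ← hf.w, ← Category.assoc]
  exact congrArg (· ≫ f) (EtOver.w a)

theorem toBc_comp {W : EtOver X} {E E' : EtOver Y} (t : W.obj.left ⟶ E.obj.left)
    (ht : (yon S).map t ≫ E.obj.hom = W.obj.hom ≫ f) (g : E ⟶ E') (a : W ⟶ (EtOver.bc hf).obj E')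
    (h : t ≫ g.hom.left = underMap hf a) : toBc hf t ht ≫ (EtOver.bc hf).map g = a := by
  refine EtOver.hom_ext _ _ (hf.hom_ext ?_ ?_)
  · show (yon S).map (hf.lift W.obj.hom t ht.symm ≫ (EtOver.bcMap hf g).hom.left) ≫ hf.fst E'.obj.hom =
      (yon S).map a.hom.left ≫ hf.fst E'.obj.hom
    rw [Functor.map_comp, Category.assoc, EtOver.map_bcMap_fst, hf.lift_fst]
    exact (EtOver.w a).symm
  · show (hf.lift W.obj.hom t ht.symm ≫ (EtOver.bcMap hf g).hom.left) ≫ hf.snd E'.obj.hom = underMap hf a
    rw [Category.assoc, EtOver.bcMap_snd, hf.lift_snd_assoc, h]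

theorem isCofilteredOrEmpty_structuredArrow (W : EtOver X) :
    IsCofilteredOrEmpty (StructuredArrow W (EtOver.bc hf)) where
  cone_objs A B := by
    let P := EtOver.prodObj A.right B.right
    let t : W.obj.left ⟶ P.obj.left := B.right.property.1.lift' (underMap hf B.hom) (underMap hf A.hom)
      (by rw [underMap_w, underMap_w])
    have h1 : t ≫ (EtOver.prodFst A.right B.right).hom.left = underMap hf A.hom :=
      Functor.relativelyRepresentable.lift'_snd _ _ _ _
    have h2 : t ≫ (EtOver.prodSnd A.right B.right).hom.left = underMap hf B.hom :=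
      Functor.relativelyRepresentable.lift'_fst _ _ _ _
    have ht : (yon S).map t ≫ P.obj.hom = W.obj.hom ≫ f := by
      rw [← EtOver.w (EtOver.prodFst A.right B.right), ← Category.assoc, ← Functor.map_comp, h1, underMap_w]
    exact ⟨StructuredArrow.mk (toBc hf t ht),
      StructuredArrow.homMk (EtOver.prodFst A.right B.right) (toBc_comp hf t ht _ A.hom h1),
      StructuredArrow.homMk (EtOver.prodSnd A.right B.right) (toBc_comp hf t ht _ B.hom h2), trivial⟩
  cone_maps A B g₁ g₂ := by
    let u := underMap hf A.hom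
    let u' := underMap hf B.hom
    have hu : ∀ (g : A ⟶ B), u ≫ g.right.hom.left = u' := fun g => by
      show (A.hom.hom.left ≫ hf.snd A.right.obj.hom) ≫ g.right.hom.left = B.hom.hom.left ≫ hf.snd B.right.obj.hom
      rw [← StructuredArrow.w g]
      show _ = (A.hom.hom.left ≫ (EtOver.bcMap hf g.right).hom.left) ≫ hf.snd B.right.obj.hom
      rw [Category.assoc, Category.assoc, EtOver.bcMap_snd]
    let P := EtOver.prodObj B.right B.right
    let p : A.right ⟶ P := (EtOver.prodIsLimit B.right B.right).lift (BinaryFan.mk g₁.right g₂.right)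
    let d : B.right ⟶ P := (EtOver.prodIsLimit B.right B.right).lift (BinaryFan.mk (𝟙 _) (𝟙 _))
    have p1 : p ≫ EtOver.prodFst B.right B.right = g₁.right :=
      (EtOver.prodIsLimit B.right B.right).fac (BinaryFan.mk g₁.right g₂.right) ⟨.left⟩
    have p2 : p ≫ EtOver.prodSnd B.right B.right = g₂.right :=
      (EtOver.prodIsLimit B.right B.right).fac (BinaryFan.mk g₁.right g₂.right) ⟨.right⟩
    have d1 : d ≫ EtOver.prodFst B.right B.right = 𝟙 _ :=
      (EtOver.prodIsLimit B.right B.right).fac (BinaryFan.mk (𝟙 _) (𝟙 _)) ⟨.left⟩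
    have d2 : d ≫ EtOver.prodSnd B.right B.right = 𝟙 _ :=
      (EtOver.prodIsLimit B.right B.right).fac (BinaryFan.mk (𝟙 _) (𝟙 _)) ⟨.right⟩
    have hw : u ≫ p.hom.left = u' ≫ d.hom.left := by
      apply Functor.relativelyRepresentable.hom_ext' B.right.property.1
      · show (u ≫ p.hom.left) ≫ (EtOver.prodSnd B.right B.right).hom.left =
          (u' ≫ d.hom.left) ≫ (EtOver.prodSnd B.right B.right).hom.left
        refine (Category.assoc _ _ _).trans (Eq.trans ?_ (Category.assoc _ _ _).symm)
        rw [show p.hom.left ≫ (EtOver.prodSnd B.right B.right).hom.left = g₂.right.hom.left from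
            congrArg (fun k : A.right ⟶ B.right => k.hom.left) p2,
          show d.hom.left ≫ (EtOver.prodSnd B.right B.right).hom.left = 𝟙 _ from
            congrArg (fun k : B.right ⟶ B.right => k.hom.left) d2, Category.comp_id, hu]
      · show (u ≫ p.hom.left) ≫ (EtOver.prodFst B.right B.right).hom.left =
          (u' ≫ d.hom.left) ≫ (EtOver.prodFst B.right B.right).hom.left
        refine (Category.assoc _ _ _).trans (Eq.trans ?_ (Category.assoc _ _ _).symm)
        rw [show p.hom.left ≫ (EtOver.prodFst B.right B.right).hom.left = g₁.right.hom.left from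
            congrArg (fun k : A.right ⟶ B.right => k.hom.left) p1,
          show d.hom.left ≫ (EtOver.prodFst B.right B.right).hom.left = 𝟙 _ from
            congrArg (fun k : B.right ⟶ B.right => k.hom.left) d1, Category.comp_id, hu]
    let Q := EtOver.pullbackObj p d
    let q := EtOver.pullbackFst p d
    let t : W.obj.left ⟶ Q.obj.left := pullback.lift u u' hw
    have ht1 : t ≫ q.hom.left = u := pullback.lift_fst _ _ _
    have ht : (yon S).map t ≫ Q.obj.hom = W.obj.hom ≫ f := by
      rw [← EtOver.w q, ← Category.assoc, ← Functor.map_comp, ht1, underMap_w]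
    have hq : q ≫ g₁.right = q ≫ g₂.right := by
      have hpd : q ≫ p = EtOver.pullbackSnd p d ≫ d := EtOver.hom_ext _ _ pullback.condition
      rw [← p1, ← p2, reassoc_of% hpd, reassoc_of% hpd, d1, d2]
    refine ⟨StructuredArrow.mk (toBc hf t ht), StructuredArrow.homMk q (toBc_comp hf t ht q A.hom ht1), ?_⟩
    exact StructuredArrow.hom_ext _ _ hq

theorem lan_bc_preservesFiniteLimits :
    PreservesFiniteLimits ((EtOver.bc hf).op.lan :
      ((EtOver Y)ᵒᵖ ⥤ AddCommGrpCat.{u + 1}) ⥤ (EtOver X)ᵒᵖ ⥤ AddCommGrpCat.{u + 1}) := by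
  refine ⟨fun J _ _ => ?_⟩
  apply preservesLimitsOfShape_of_evaluation
  intro K
  haveI := isCofilteredOrEmpty_structuredArrow hf (unop K)
  let e := structuredArrowOpEquivalence (EtOver.bc hf) (unop K)
  haveI : IsFilteredOrEmpty (CostructuredArrow (EtOver.bc hf).op K) :=
    IsFilteredOrEmpty.of_equivalence e
  have := colim_preservesFiniteLimits_of_filteredOrEmpty (J := CostructuredArrow (EtOver.bc hf).op K)
  exact preservesLimitsOfShape_of_natIso (AnLib.lanEvalIso (EtOver.bc hf).op K).symm

theorem preservesInjective_pushEt : (pushEt hf AddCommGrpCat.{u + 1}).PreservesInjectiveObjects := by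
  haveI := lan_bc_preservesFiniteLimits hf
  haveI : PreservesFiniteLimits ((EtOver.bc hf).sheafPullback AddCommGrpCat.{u + 1} (etTop Y) (etTop X)) :=
    Functor.sheafPullbackConstruction.preservesFiniteLimits (EtOver.bc hf) AddCommGrpCat.{u + 1} (etTop Y) (etTop X)
  exact Functor.preservesInjectiveObjects_of_adjunction_of_preservesMonomorphisms
    ((EtOver.bc hf).sheafAdjunctionContinuous AddCommGrpCat.{u + 1} (etTop Y) (etTop X))

end Groth.Agent.EtVan
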