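import Groth.Agent.EtVan.SectColim
import Groth.Agent.EtVan.Main
import Groth.Agent.EtVan.PushInj

/-!
Filtered colimits of injective abelian sheaves are acyclic on quasi-compact separated objects.
-/

set_option autoImplicit false
set_option linter.style.haveILetI false
set_option backward.isDefEq.respectTransparency false

universe u

noncomputable section

open CategoryTheory CategoryTheory.Limits CategoryTheory.Abelian AlgebraicGeometry Opposite AlgSp

namespace Groth.Agent.EtVan

variable {S : Scheme.{u}} {X Y : Sp S}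

/-- a finite affine covering of a quasi-compact object killing a class -/
theorem exists_kill_cover_of_compact {n : ℕ} {G : AbEt X} {E : EtOver X} [CompactSpace ↥E.obj.left.left]
    (ξ : Ext.{u + 1} ((P X).obj E) G (n + 1)) :
    ∃ (k : ℕ) (V : Fin k → EtOver X) (h : ∀ a, V a ⟶ E), (∀ a, IsAffine (V a).obj.left.left) ∧
      (∀ x : E.obj.left.left, ∃ a, x ∈ Set.range (h a).hom.left.left) ∧ ∀ a, rcls (h a) ξ = 0 := by
  choose V h hV hx hk using fun x => exists_kill n G E ξ x
  have ho : ∀ x, IsOpen (Set.range (h x).hom.left.left) := fun x => by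
    have : Etale (h x).hom.left.left := EtOver.etale_left (h x)
    exact (h x).hom.left.left.isOpenMap.isOpen_range
  obtain ⟨t, ht⟩ := isCompact_univ.elim_finite_subcover _ ho (fun x _ => Set.mem_iUnion.mpr ⟨x, hx x⟩)
  obtain ⟨k, ⟨e⟩⟩ := Finite.exists_equiv_fin t
  refine ⟨k, fun a => V (e.symm a).1, fun a => h _, fun a => hV _, fun x => ?_, fun a => hk _⟩
  obtain ⟨y, hy, hxy⟩ := Set.mem_iUnion₂.mp (ht (Set.mem_univ x))
  refine ⟨e ⟨y, hy⟩, ?_⟩
  have he := e.symm_apply_apply ⟨y, hy⟩
  exact (congrArg (fun k : t => Set.range (h k.1).hom.left.left) he).symm ▸ hxy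

theorem preservesInjective_hFun (V : EtOver X) : (hFun V).PreservesInjectiveObjects := by
  haveI := preservesInjective_restr V.obj.hom (isEtaleMor_hom V)
  haveI := preservesInjective_pushEt (representable_hom V)
  infer_instance

theorem eta_jointly_mono {E0 : EtOver X} (hT : IsTerminal E0) {k : ℕ} (V : Fin k → EtOver X)
    (hc : ∀ x : E0.obj.left.left, ∃ a, x ∈ Set.range (hT.from (V a)).hom.left.left) {G' G : AbEt X} (g : G' ⟶ G)
    (hg : ∀ a, g ≫ etaH (V a) G = 0) : g = 0 := by
  refine Sheaf.hom_ext (NatTrans.ext (funext fun W => ?_))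
  ext m
  let ι : Type u := ULift.{u} (Fin k)
  refine eq_of_cover_ab G (ι := ι)
    (fun a => Groth.Agent.EtQC.pbFst (hT.from W.unop) (hT.from (V a.down))) (fun x => ?_) fun a => ?_
  · obtain ⟨a, y, hy⟩ := hc ((hT.from W.unop).hom.left.left x)
    obtain ⟨z, hz, -⟩ := Groth.Agent.EtQC.exists_pb_point (hT.from W.unop) (hT.from (V a)) x y hy.symm
    exact ⟨⟨a⟩, z, hz⟩
  · let u := Groth.Agent.EtQC.pbFst (hT.from W.unop) (hT.from (V a.down))
    let v := Groth.Agent.EtQC.pbSnd (hT.from W.unop) (hT.from (V a.down))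
    have h1 : G.obj.map (fstProd (V a.down) W.unop).op (g.hom.app W m) = 0 :=
      congrArg (fun q : G' ⟶ (hFun (V a.down)).obj G => q.hom.app W m) (hg a.down)
    have h2 := congrArg (G.obj.map (timesLift (V a.down) u v).op) h1
    rw [← ConcreteCategory.comp_apply, ← G.obj.map_comp, ← op_comp, timesLift_fst, map_zero] at h2
    exact h2.trans (map_zero (G.obj.map u.op).hom).symm

variable {J : Type (u + 1)} [SmallCategory J] [IsFiltered J]

theorem preservesColimits_restr (f : X ⟶ Y) (he : IsEtaleMor f) :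
    PreservesColimitsOfShape J (restr f he) :=
  preservesColimitsOfShape_of_sect (EtOver.postcomp f he) fun W hW => by
    haveI : IsAffine ((EtOver.postcomp f he).obj W).obj.left.left := hW
    exact ⟨inferInstance, inferInstance⟩

theorem preservesColimits_pushEt {f : X ⟶ Y} (hf : Representable f)
    (hbc : ∀ W : EtOver Y, IsAffine W.obj.left.left →
      CompactSpace ↥((EtOver.bc hf).obj W).obj.left.left ∧
        QuasiSeparatedSpace ↥((EtOver.bc hf).obj W).obj.left.left) :
    PreservesColimitsOfShape J (pushEt hf AddCommGrpCat.{u + 1}) :=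
  preservesColimitsOfShape_of_sect (EtOver.bc hf) hbc

theorem preservesColimits_hFun {E0 : EtOver X} (hT : IsTerminal E0) [E0.obj.left.left.IsSeparated] (V : EtOver X)
    [IsAffine V.obj.left.left] : PreservesColimitsOfShape J (hFun V) := by
  haveI := preservesColimits_restr (J := J) V.obj.hom (isEtaleMor_hom V)
  haveI := preservesColimits_pushEt (J := J) (representable_hom V) fun W hW => by
    haveI := hW
    haveI : IsAffine ((EtOver.bc (representable_hom V)).obj W).obj.left.left := isAffine_times V hT W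
    exact ⟨inferInstance, inferInstance⟩
  infer_instance

/-- the unit as a natural transformation -/
def etaNat (V : EtOver X) : 𝟭 (AbEt X) ⟶ hFun V where
  app := etaH V
  naturality _ _ k := (etaH_naturality V k).symm

theorem hasFiniteBiproducts_diag (X : Sp S) (J : Type (u + 1)) [SmallCategory J] :
    HasFiniteBiproducts (J ⥤ AbEt X) :=
  HasFiniteBiproducts.of_hasFiniteProducts

attribute [local instance] hasFiniteBiproducts_diag

theorem injective_biproduct_obj {k : ℕ} (F : Fin k → (J ⥤ AbEt X)) (j : J) (hF : ∀ a, Injective ((F a).obj j)) :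
    Injective ((⨁ F).obj j) := by
  refine ⟨fun {A B} g f hf => ?_⟩
  haveI := hF
  refine ⟨∑ a, Injective.factorThru (g ≫ (biproduct.π F a).app j) f ≫ (biproduct.ι F a).app j, ?_⟩
  rw [Preadditive.comp_sum]
  simp only [← Category.assoc, Injective.comp_factorThru]
  simp only [Category.assoc, ← NatTrans.comp_app, ← Preadditive.comp_sum]
  rw [← NatTrans.app_sum, biproduct.total, NatTrans.id_app, Category.comp_id]

/-- the terminal step -/
theorem subsingleton_ext_colim_terminal (p : ℕ) (E0 : EtOver X) (hT : IsTerminal E0)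
    [CompactSpace ↥E0.obj.left.left] [E0.obj.left.left.IsSeparated]
    (ih : ∀ (K : J ⥤ AbEt X), (∀ j, Injective (K.obj j)) → ∀ (W : EtOver X), CompactSpace ↥W.obj.left.left →
      W.obj.left.left.IsSeparated → ∀ i : ℕ, i < p → Subsingleton (Ext.{u + 1} ((P X).obj W) (colimit K) (i + 1)))
    (K : J ⥤ AbEt X) (hK : ∀ j, Injective (K.obj j)) :
    Subsingleton (Ext.{u + 1} ((P X).obj E0) (colimit K) (p + 1)) := by
  refine subsingleton_of_forall_eq 0 fun ξ => ?_
  obtain ⟨k, V, h, hV, hc, hk⟩ := exists_kill_cover_of_compact ξ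
  have hh : ∀ a, h a = hT.from (V a) := fun a => hT.hom_ext _ _
  have hc' : ∀ x : E0.obj.left.left, ∃ a, x ∈ Set.range (hT.from (V a)).hom.left.left := fun x => by
    obtain ⟨a, ha⟩ := hc x
    exact ⟨a, hh a ▸ ha⟩
  haveI := fun a => preservesInjective_hFun (V a)
  let F : Fin k → (J ⥤ AbEt X) := fun a => K ⋙ hFun (V a)
  let ηc : ∀ a, K ⟶ F a := fun a => Functor.whiskerLeft K (etaNat (V a))
  let η : K ⟶ ⨁ F := biproduct.lift ηc
  haveI hmono : ∀ j, Mono (η.app j) := fun j => by
    refine Preadditive.mono_of_cancel_zero _ fun {G} g hg => eta_jointly_mono hT V hc' g fun a => ?_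
    have e : η.app j ≫ (biproduct.π F a).app j = etaH (V a) (K.obj j) := by
      rw [← NatTrans.comp_app, biproduct.lift_π]
      rfl
    rw [← e, ← Category.assoc, hg, zero_comp]
  haveI : Mono η := NatTrans.mono_of_mono_app η
  let T : ShortComplex (J ⥤ AbEt X) := ShortComplex.mk η (cokernel.π η) (cokernel.condition η)
  have hTT : T.ShortExact := { exact := ShortComplex.exact_cokernel η }
  have hTi : ∀ j, (T.map ((evaluation J (AbEt X)).obj j)).ShortExact := fun j => hTT.map_of_exact _
  haveI hX₂ : ∀ j, Injective ((T.map ((evaluation J (AbEt X)).obj j)).X₂) := fun j =>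
    injective_biproduct_obj F j fun a => (hFun (V a)).injective_obj_of_injective (hK j)
  have hsplit : ∀ j, (T.map ((evaluation J (AbEt X)).obj j)).Splitting := fun j => by
    haveI : Injective ((T.map ((evaluation J (AbEt X)).obj j)).X₁) := hK j
    exact (hTi j).splittingOfInjective
  have hC : ∀ j, Injective (T.X₃.obj j) := fun j =>
    (Retract.injective (Y := (T.map ((evaluation J (AbEt X)).obj j)).X₂)
      { i := (hsplit j).s, r := (T.map ((evaluation J (AbEt X)).obj j)).g, retract := (hsplit j).s_g } :)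
  haveI : PreservesFiniteLimits (colim : (J ⥤ AbEt X) ⥤ AbEt X) := HasExactColimitsOfShape.preservesFiniteLimits
  haveI : (colim : (J ⥤ AbEt X) ⥤ AbEt X).Additive := ⟨fun {X Y f g} => colimit.hom_ext fun k => by simp⟩
  have hA : (T.map colim).ShortExact := hTT.map_of_exact _
  have hη : ∀ a, ξ.comp (Ext.mk₀ ((colim : (J ⥤ AbEt X) ⥤ AbEt X).map (ηc a))) (add_zero (p + 1)) = 0 := fun a => by
    haveI := hV a
    haveI := preservesColimits_hFun (J := J) hT (V a)
    have e : (colim : (J ⥤ AbEt X) ⥤ AbEt X).map (ηc a) =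
        etaH (V a) (colimit K) ≫ (preservesColimitIso (hFun (V a)) K).hom := by
      refine colimit.hom_ext fun j => ?_
      rw [colim_map, ι_colimMap, ← Category.assoc, ← etaH_naturality, Category.assoc, ι_preservesColimitIso_hom]
      rfl
    rw [e, ← Ext.mk₀_comp_mk₀, ← Ext.comp_assoc _ _ _ (add_zero (p + 1)) (add_zero 0) (by omega),
      comp_etaH_eq_zero hT p _ (fun W hW i hi => by
        haveI := hW
        exact ih K hK W inferInstance inferInstance i hi) ξ (hh a ▸ hk a), Ext.zero_comp]
  let φ : (K ⟶ ⨁ F) →+ Ext.{u + 1} ((P X).obj E0) (colimit (⨁ F)) (p + 1) :=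
    AddMonoidHom.mk' (fun q => ξ.comp (Ext.mk₀ ((colim : (J ⥤ AbEt X) ⥤ AbEt X).map q)) (add_zero (p + 1)))
      fun a b => by rw [Functor.map_add, Ext.mk₀_add, Ext.comp_add]
  have h0 : φ η = 0 := by
    rw [show η = ∑ a, ηc a ≫ biproduct.ι F a from biproduct.lift_eq, map_sum]
    refine Finset.sum_eq_zero fun a _ => ?_
    show ξ.comp (Ext.mk₀ ((colim : (J ⥤ AbEt X) ⥤ AbEt X).map (ηc a ≫ biproduct.ι F a))) (add_zero (p + 1)) = 0
    rw [Functor.map_comp, ← Ext.mk₀_comp_mk₀, ← Ext.comp_assoc _ _ _ (add_zero (p + 1)) (add_zero 0) (by omega),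
      hη a, Ext.zero_comp]
  obtain ⟨x₃, hx₃⟩ := Ext.covariant_sequence_exact₁ ((P X).obj E0) hA ξ h0 rfl
  rw [← hx₃]
  obtain _ | p := p
  · obtain ⟨ψ, rfl⟩ := (Ext.mk₀_bijective _ _).2 x₃
    haveI : QuasiSeparatedSpace ↥E0.obj.left.left := inferInstance
    obtain ⟨j, s, hs⟩ := exists_rep (colimit.isColimit T.X₃) (σ ψ)
    obtain ⟨t, ht⟩ : ∃ t, (T.g.app j).hom.app (op E0) t = s :=
      ⟨(hsplit j).s.hom.app (op E0) s,
        ConcreteCategory.congr_hom (congrArg (fun q => q.hom.app (op E0)) (hsplit j).s_g) s⟩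
    have : ψ = σ.symm ((colimit.ι T.X₂ j).hom.app (op E0) t) ≫ (T.map colim).g := by
      apply σ.injective
      rw [σ_comp, Equiv.apply_symm_apply]
      refine hs.symm.trans ?_
      rw [← ht]
      exact (ConcreteCategory.congr_hom (congrArg (fun q => q.hom.app (op E0)) (ι_colimMap T.g j)) t).symm
    rw [this, ← Ext.mk₀_comp_mk₀, Ext.comp_assoc _ _ _ (zero_add 0) (zero_add 1) (by omega), hA.comp_extClass,
      Ext.comp_zero]
  · haveI : Subsingleton (Ext.{u + 1} ((P X).obj E0) (T.map colim).X₃ (p + 1)) :=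
      ih T.X₃ hC E0 inferInstance inferInstance p (Nat.lt_succ_self p)
    rw [Subsingleton.elim x₃ 0, Ext.zero_comp]

theorem subsingleton_ext_colim (p : ℕ) :
    ∀ (X : Sp S) (K : J ⥤ AbEt X), (∀ j, Injective (K.obj j)) → ∀ (E : EtOver X), CompactSpace ↥E.obj.left.left →
      E.obj.left.left.IsSeparated → Subsingleton (Ext.{u + 1} ((P X).obj E) (colimit K) (p + 1)) := by
  induction p using Nat.strong_induction_on with
  | _ p ih =>
    intro X K hK E hE hS
    haveI := preservesInjective_restr E.obj.hom (isEtaleMor_hom E)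
    haveI := preservesColimits_restr (J := J) E.obj.hom (isEtaleMor_hom E)
    haveI : CompactSpace ↥(topObj E.obj.left).obj.left.left := hE
    haveI : (topObj E.obj.left).obj.left.left.IsSeparated := hS
    have h := subsingleton_ext_colim_terminal p _ (isTerminalTopObj E.obj.left)
      (fun K' hK' W hW hW' i hi => ih i hi _ K' hK' W hW hW') (K ⋙ restr E.obj.hom (isEtaleMor_hom E))
      fun j => (restr E.obj.hom (isEtaleMor_hom E)).injective_obj_of_injective (hK j)
    refine subsingleton_ext_of_restr E.obj.hom (isEtaleMor_hom E) (topObj E.obj.left) (objIso E) _ (p + 1) ?_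
    let e := preservesColimitIso (restr E.obj.hom (isEtaleMor_hom E)) K
    refine subsingleton_of_forall_eq 0 fun x => ?_
    have hx : (x.comp (Ext.mk₀ e.hom) (add_zero (p + 1))).comp (Ext.mk₀ e.inv) (add_zero (p + 1)) = x := by
      rw [Ext.comp_assoc_of_second_deg_zero, Ext.mk₀_comp_mk₀, e.hom_inv_id, Ext.comp_mk₀_id]
    rw [← hx, h.elim (x.comp (Ext.mk₀ e.hom) (add_zero (p + 1))) 0, Ext.zero_comp]

end Groth.Agent.EtVan
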