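import Groth.Agent.EtVan.MVBound
import Groth.Agent.EtVan.Integral
import Groth.Agent.SpQS.ConfAffine

/-!
Vanishing above the number of sheets of an affine chart of a separated space.
-/

set_option autoImplicit false
set_option linter.style.haveILetI false
set_option backward.isDefEq.respectTransparency false

universe u

noncomputable section

open CategoryTheory CategoryTheory.Limits CategoryTheory.Abelian AlgebraicGeometry Opposite AlgSp
open Groth.Agent.AlgSpLib Groth.Agent.EtQC

namespace Groth.Agent.EtVan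

variable {S : Scheme.{u}}

/-- abelian sheaves on a space without points are zero -/
theorem isZero_of_isEmpty {X : Sp S} (h : IsEmpty (Points X)) (G : AbEt X) : IsZero G := by
  rw [IsZero.iff_id_eq_zero]
  refine Sheaf.hom_ext (NatTrans.ext (funext fun T => ?_))
  ext a
  haveI := subsingleton_sect_of_isEmpty G T.unop ⟨fun x => h.elim (Points.ofPt T.unop.obj.hom x)⟩
  exact Subsingleton.elim (α := sect G T.unop) _ _

theorem bnd_of_isEmpty {X : Sp S} (h : IsEmpty (Points X)) : Bnd X 0 := fun M _ q _ =>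
  subsingleton_of_forall_eq 0 fun x => by
    show (x : Ext.{u + 1} (constZ X) ((toAbEt X).obj M) q) = 0
    rw [← Ext.comp_mk₀_id x, (isZero_of_isEmpty h _).eq_of_src (𝟙 _) 0, Ext.mk₀_zero, Ext.comp_zero]

theorem bnd_mono {X : Sp S} {n n' : ℕ} (h : Bnd X n) (hn : n ≤ n') : Bnd X n' :=
  fun M hM q hq => h M hM q (hn.trans hq)

/-- cohomology on an object affine over the space is bounded by that of the space -/
theorem subsingleton_ext_affineObj {X : Sp S} (hX : IsAlgSpace X) (E : EtOver X)
    (hbc : ∀ E' : EtOver X, IsAffine E'.obj.left.left →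
      IsAffine ((EtOver.bc (representable_hom E)).obj E').obj.left.left)
    {n : ℕ} (h : Bnd X n) (M : ModEt X) [M.IsQuasicoherent] (q : ℕ) (hq : n ≤ q) :
    Subsingleton (Ext.{u + 1} ((P X).obj E) ((toAbEt X).obj M) q) := by
  let he := isEtaleMor_hom E
  let N := (SheafOfModules.pushforward.{u + 1} (postRingHom he)).obj M
  haveI : N.IsQuasicoherent := isQuasicoherent_restr he M
  haveI := isQuasicoherent_push_of_isAffine_bc (representable_hom E) hbc N
  obtain ⟨e⟩ := nonempty_H_addEquiv (representable_hom E) hX ((toAbEt _).obj N)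
    (fun i => isZero_RpushEt (representable_hom E) hbc i _ (affAcyc_toAb N)) q
  have hN : Subsingleton (HEt _ ((toAbEt _).obj N) q) :=
    haveI : Subsingleton (HEt X ((pushEt (representable_hom E) AddCommGrpCat.{u + 1}).obj ((toAbEt _).obj N)) q) :=
      h ((pushModEt (representable_hom E)).obj N) inferInstance q hq
    e.toEquiv.subsingleton
  exact subsingleton_ext_of_restr E.obj.hom he (topObj E.obj.left) (objIso E) _ q
    (subsingleton_ext_of_HEt (isTerminalTopObj E.obj.left) _ q hN)

theorem isPullback_of_comp_mono {C : Type*} [Category C] {P A B Y Z : C} {fst : P ⟶ A} {snd : P ⟶ B} {a : A ⟶ Y}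
    {b : B ⟶ Y} (m : Y ⟶ Z) [Mono m] (sq : IsPullback fst snd a b) : IsPullback fst snd (a ≫ m) (b ≫ m) :=
  ⟨⟨by rw [sq.w_assoc]⟩, ⟨PullbackCone.IsLimit.mk _
    (fun t => sq.lift t.fst t.snd ((cancel_mono m).1 (by rw [Category.assoc, t.condition, Category.assoc])))
    (fun _ => sq.lift_fst _ _ _) (fun _ => sq.lift_snd _ _ _)
    (fun _ _ e₁ e₂ => sq.hom_ext (e₁.trans (sq.lift_fst _ _ _).symm) (e₂.trans (sq.lift_snd _ _ _).symm))⟩⟩

/-- over a separated space the open part of an affine chart is affine over the open -/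
theorem isAffine_bc_bc [S.IsSeparated] {X : Sp S} (hX : IsSeparatedSp X) {U W : Sp S} {j : U ⟶ W}
    (hj : Representable j) (m : W ⟶ X) [Mono m] (V : EtOver W) [IsAffine V.obj.left.left] (E : EtOver U)
    [IsAffine E.obj.left.left] :
    IsAffine ((EtOver.bc (representable_hom ((EtOver.bc hj).obj V))).obj E).obj.left.left := by
  let Z := (EtOver.bc hj).obj V
  have sq₁ : IsPullback ((representable_hom Z).fst E.obj.hom) ((yon S).map ((representable_hom Z).snd E.obj.hom))
      Z.obj.hom E.obj.hom := (representable_hom Z).isPullback E.obj.hom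
  have sq₂ : IsPullback Z.obj.hom ((yon S).map (hj.snd V.obj.hom)) j V.obj.hom := hj.isPullback V.obj.hom
  have sq := isPullback_of_comp_mono m (sq₁.paste_horiz sq₂.flip)
  obtain ⟨a, ha⟩ := exists_map_eq ((representable_hom Z).fst E.obj.hom)
  rw [← ha, ← Functor.map_comp] at sq
  exact (affine_pullback_of_isSeparatedSp hX sq).1

/-- one more stratum costs one degree -/
theorem bnd_step [S.IsSeparated] {X : Sp S} (hX : IsSeparatedSp X) {U W : Space S} (m : W.obj ⟶ X) [Mono m]
    (j : U ⟶ W) {V : EtOver W.obj} [hV : IsAffine V.obj.left.left] (hsq : IsElemDistSq j.hom V.obj.hom)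
    {n : ℕ} (hU : Bnd U.obj n) : Bnd W.obj (max (n + 1) 2) := by
  intro M hM q hq
  haveI := hM
  obtain ⟨i, rfl⟩ : ∃ i, q = i + 2 := ⟨q - 2, by omega⟩
  have he := isEtaleMor_of_open hsq.1
  haveI := isQuasicoherent_restr he M
  refine subsingleton_H_of_mv (mvData_of_elemDistSq j hsq) _ i (subsingleton_restr_of_bnd j.hom he hU M (i + 2) (by omega))
    (subsingleton_ext_qcoh (i + 1) W.obj M hM V hV) ?_
  exact subsingleton_ext_of_restr j.hom he ((EtOver.bc hsq.1.1).obj V) (Iso.refl _) _ (i + 1)
    (subsingleton_ext_affineObj U.property _ (fun E hE => haveI := hE; isAffine_bc_bc hX hsq.1.1 m V E) hU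
      ((SheafOfModules.pushforward.{u + 1} (postRingHom he)).obj M) (i + 1) (by omega))

/-- the last stratum -/
theorem bnd_bottom [S.IsSeparated] {X : Sp S} (hX : IsSeparatedSp X) {U W : Space S} (m : W.obj ⟶ X) [Mono m]
    (j : U ⟶ W) {V : EtOver W.obj} [hV : IsAffine V.obj.left.left] (hsq : IsElemDistSq j.hom V.obj.hom)
    (hUe : IsEmpty (Points U.obj)) : Bnd W.obj 1 := by
  intro M hM q hq
  obtain ⟨i, rfl⟩ | rfl : (∃ i, q = i + 2) ∨ q = 1 := by
    by_cases h : q = 1
    · exact Or.inr h
    · exact Or.inl ⟨q - 2, by omega⟩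
  · exact bnd_step hX m j hsq (bnd_of_isEmpty hUe) M hM (i + 2) (by omega)
  haveI := hM
  refine subsingleton_of_forall_eq 0 fun ξ => eq_zero_deg_one (mvData_of_elemDistSq j hsq) _ ξ ?_ ?_ ?_
  · exact (subsingleton_restr_of_bnd j.hom (isEtaleMor_of_open hsq.1) (bnd_of_isEmpty hUe) M 1 (Nat.zero_le _)).elim _ _
  · exact (subsingleton_ext_qcoh 0 W.obj M hM V hV).elim _ _
  · intro y
    haveI := subsingleton_sect_of_isEmpty ((toAbEt W.obj).obj M)
      ((EtOver.postcomp j.hom (isEtaleMor_of_open hsq.1)).obj ((EtOver.bc hsq.1.1).obj V))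
      ⟨fun x => hUe.elim (Points.ofPt ((EtOver.bc hsq.1.1).obj V).obj.hom x)⟩
    exact ⟨0, Subsingleton.elim
      (α := sect ((toAbEt W.obj).obj M) ((EtOver.postcomp j.hom (isEtaleMor_of_open hsq.1)).obj ((EtOver.bc hsq.1.1).obj V))) _ _⟩

theorem bnd_of_confSet [S.IsSeparated] (X : Space S) (hX : IsSeparatedSp X.obj) {W₀ : Over S} [IsAffine W₀.left]
    {π : (yon S).obj W₀ ⟶ X.obj} (hπ : RepWith @Etale π) (cs : ∀ p, SpQS.Conf π p)
    (hcs : ∀ p, IsAffine (cs p).C.left) (d : ℕ) (hd : (cs d).pts = ∅) :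
    ∀ k m, m + k = d → ∀ (W : Space S) (jW : W ⟶ X), RepWith @IsOpenImmersion jW.hom →
      Set.range (Points.map jW.hom) = (cs m).pts → Bnd W.obj k := by
  intro k
  induction k with
  | zero =>
    intro m hm W jW _ hr
    obtain rfl : m = d := hm
    exact bnd_of_isEmpty (Set.range_eq_empty_iff.1 (hr.trans hd))
  | succ k ih =>
    intro m hm W jW hjW hr
    haveI := ElemSq.mono_of_open hjW
    have ho := (cs (m + 1)).isOpen_pts hπ
    let U : Space S := ⟨subSheaf (cs (m + 1)).pts, isAlgSpace_subSheaf X.property ho⟩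
    let jU : U ⟶ X := ObjectProperty.homMk (subInc _)
    have hjU : RepWith @IsOpenImmersion jU.hom := repWith_subInc ho
    obtain ⟨V, g, hV, hg, hgr, hiso⟩ := SpQS.exists_stratum_chart_affine X.property hπ (cs m) (cs (m + 1)) (hcs m)
    have hrU : Set.range (Points.map jU.hom) = (cs (m + 1)).pts := range_subInc _
    obtain ⟨j, f, -, hf, hsq⟩ := ElemSq.exists_elemDistSq hjU hjW hg
      (by rw [hr, hrU, hgr, Set.union_eq_right.2 ((cs m).pts_mono (cs (m + 1)))]) (by rw [hrU]; exact hiso)
    have hfe : RepWith @Etale f.hom := by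
      have h := hsq.2.1 (𝟙 _) repWith_id'
      rwa [Category.id_comp] at h
    let V' : EtOver W.obj := EtOver.mk f.hom hfe
    haveI : IsAffine V'.obj.left.left := hV
    obtain _ | k := k
    · exact bnd_bottom hX jW.hom j (V := V') hsq (Set.range_eq_empty_iff.1
        (hrU.trans ((show m + 1 = d by omega) ▸ hd)))
    · exact bnd_mono (bnd_step hX jW.hom j (V := V') hsq (ih (m + 1) (by omega) U jU hjU hrU)) (by omega)

/-- quasi-coherent cohomology of a separated space vanishes from the number of sheets on -/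
theorem bnd_of_fibre_card [S.IsSeparated] (X : Space S) (hX : IsSeparatedSp X.obj) {U : Over S} [IsAffine U.left]
    (f : (yon S).obj U ⟶ X.obj) (hf : RepWith @Etale f) (hfs : RepWith @Surjective f) (d : ℕ)
    (hd : ∀ x : FieldPt X.obj, x.IsGeometric → ENat.card ((FieldPt.liftsTo x).obj (EtOver.mk f hf)) ≤ d) :
    Bnd X.obj d := by
  choose cs hcs using SpQS.exists_conf_affine X.property hX hf
  refine bnd_of_confSet X hX hf cs hcs d ?_ d 0 (Nat.zero_add d) X (𝟙 X) (repWith_of_isIso _) ?_
  · refine Set.eq_empty_iff_forall_notMem.2 ?_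
    rintro _ ⟨z, rfl⟩
    obtain ⟨Ω, _, hΩ, g, -⟩ := SpQS.exists_geomPoint z
    let str : Spec (CommRingCat.of Ω) ⟶ S := g ≫ (cs d).C.hom
    let l : Over.mk str ⟶ (cs d).C := Over.homMk g rfl
    let a : (yon S).obj (Over.mk str) ⟶ X.obj := (yon S).map l ≫ (yon S).map ((cs d).pr 0) ≫ f
    let x : FieldPt X.obj := ⟨Ω, str, (J S).uliftYonedaEquiv a⟩
    have hx : x.toHom = a := Equiv.symm_apply_apply _ _
    let F : Fin (d + 1) → (FieldPt.liftsTo x).obj (EtOver.mk f hf) := fun i => ⟨l ≫ (cs d).pr i, by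
      show (yon S).map (l ≫ (cs d).pr i) ≫ f = x.toHom
      rw [hx, Functor.map_comp, Category.assoc, (cs d).comm i]⟩
    have hF : Function.Injective F := fun i i' e => by
      by_contra hii
      refine (cs d).ne i i' hii Ω g ?_
      exact congrArg (fun u : Over.mk str ⟶ U => u.left) (congrArg Subtype.val e)
    have h := (ENat.card_le_card_of_injective hF).trans (hd x hΩ)
    rw [ENat.card_eq_coe_fintype_card, Fintype.card_fin, Nat.cast_le] at h
    omega
  · rw [(cs 0).pts_zero hfs]
    exact (isHomeomorph_map_of_isIso (𝟙 X.obj)).surjective.range_eq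

end Groth.Agent.EtVan
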