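import Groth.Prelude.Def_AlgSpOX
import Mathlib.Algebra.Homology.DerivedCategory.Ext.ExactSequences
import Mathlib.Algebra.Homology.DerivedCategory.Ext.EnoughInjectives
import Mathlib.Algebra.Category.Grp.Adjunctions
import Mathlib.CategoryTheory.Adjunction.Whiskering

/-!
Free abelian sheaves on objects of the small etale site of a sheaf on schemes, sections as maps out of them,
and cohomology at a terminal object.
-/

set_option autoImplicit false
set_option linter.style.haveILetI false
set_option backward.isDefEq.respectTransparency false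

universe u

noncomputable section

open CategoryTheory CategoryTheory.Limits CategoryTheory.Abelian AlgebraicGeometry Opposite AlgSp

namespace Groth.Agent.EtVan

variable {S : Scheme.{u}} {X : Sp S}

/-- the free abelian presheaf on an object -/
def freePre (X : Sp S) : EtOver X ⥤ (EtOver X)ᵒᵖ ⥤ AddCommGrpCat.{u + 1} :=
  uliftYoneda.{u + 1} ⋙ (Functor.whiskeringRight _ _ _).obj AddCommGrpCat.free

/-- the free abelian sheaf on an object -/
def P (X : Sp S) : EtOver X ⥤ AbEt X :=
  freePre X ⋙ presheafToSheaf (etTop X) AddCommGrpCat.{u + 1}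

/-- sections of an abelian sheaf -/
abbrev sect (G : AbEt X) (o : EtOver X) : Type (u + 1) := G.obj.obj (op o)

/-- maps out of the free sheaf are sections -/
def σ {o : EtOver X} {G : AbEt X} : ((P X).obj o ⟶ G) ≃ sect G o :=
  ((sheafificationAdjunction (etTop X) AddCommGrpCat.{u + 1}).homEquiv _ G).trans
    (((AddCommGrpCat.adj.whiskerRight (EtOver X)ᵒᵖ).homEquiv _ G.obj).trans uliftYonedaEquiv.{u + 1})

theorem σ_comp {o : EtOver X} {G G' : AbEt X} (φ : (P X).obj o ⟶ G) (ψ : G ⟶ G') :
    σ (φ ≫ ψ) = ψ.hom.app (op o) (σ φ) := by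
  simp only [σ, Equiv.trans_apply]
  erw [Adjunction.homEquiv_naturality_right]
  erw [Adjunction.homEquiv_naturality_right, uliftYonedaEquiv_comp]

theorem σ_map {o o' : EtOver X} (f : o' ⟶ o) {G : AbEt X} (φ : (P X).obj o ⟶ G) :
    σ ((P X).map f ≫ φ) = G.obj.map f.op (σ φ) := by
  simp only [σ, Equiv.trans_apply, P, freePre, Functor.comp_map]
  erw [Adjunction.homEquiv_naturality_left]
  erw [Adjunction.homEquiv_naturality_left]
  exact (uliftYonedaEquiv_naturality _ f.op).symm

theorem σ_add {o : EtOver X} {G : AbEt X} (φ ψ : (P X).obj o ⟶ G) : σ (φ + ψ) = σ φ + σ ψ := by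
  rw [show φ + ψ = biprod.lift φ ψ ≫ (biprod.fst + biprod.snd) by simp, σ_comp]
  simp [← σ_comp]

theorem σ_zero {o : EtOver X} {G : AbEt X} : σ (0 : (P X).obj o ⟶ G) = 0 := by
  have h := σ_add (0 : (P X).obj o ⟶ G) 0
  rw [add_zero] at h
  exact left_eq_add.mp h

theorem σ_symm_comp {o : EtOver X} {G G' : AbEt X} (s : sect G o) (ψ : G ⟶ G') :
    σ.symm s ≫ ψ = σ.symm (ψ.hom.app (op o) s) := by
  apply σ.injective
  rw [σ_comp, Equiv.apply_symm_apply, Equiv.apply_symm_apply]

/-- at a terminal object the free sheaf is the constant sheaf of integers -/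
theorem nonempty_const_iso {E0 : EtOver X} (hT : IsTerminal E0) :
    Nonempty ((constantSheaf (etTop X) AddCommGrpCat.{u + 1}).obj (AddCommGrpCat.of (ULift.{u + 1} ℤ)) ≅ (P X).obj E0) := by
  let Z := (constantSheaf (etTop X) AddCommGrpCat.{u + 1}).obj (AddCommGrpCat.of (ULift.{u + 1} ℤ))
  let κ : ∀ G : AbEt X, (Z ⟶ G) ≃ sect G E0 := fun G =>
    (((constantSheafAdj (etTop X) AddCommGrpCat.{u + 1} hT).homEquiv _ G).trans
      (AddCommGrpCat.uliftZMultiplesAddEquiv _).toEquiv)
  have κnat : ∀ {G G' : AbEt X} (φ : Z ⟶ G) (ψ : G ⟶ G'), κ G' (φ ≫ ψ) = ψ.hom.app (op E0) (κ G φ) := by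
    intro G G' φ ψ
    show AddCommGrpCat.uliftZMultiplesAddEquiv _ ((constantSheafAdj (etTop X) _ hT).homEquiv _ G' (φ ≫ ψ)) = _
    rw [Adjunction.homEquiv_naturality_right]
    rfl
  refine ⟨{ hom := (κ _).symm (σ (𝟙 _)), inv := σ.symm (κ _ (𝟙 _)), hom_inv_id := ?_, inv_hom_id := ?_ }⟩
  · apply (κ _).injective
    rw [κnat, Equiv.apply_symm_apply, ← σ_comp, Category.id_comp, Equiv.apply_symm_apply]
  · apply σ.injective
    rw [σ_comp, Equiv.apply_symm_apply, ← κnat, Category.id_comp, Equiv.apply_symm_apply]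

/-- cohomology is computed by the free sheaf at a terminal object -/
theorem subsingleton_HEt {E0 : EtOver X} (hT : IsTerminal E0) (G : AbEt X) (n : ℕ)
    (h : Subsingleton (Ext.{u + 1} ((P X).obj E0) G n)) : Subsingleton (HEt X G n) := by
  obtain ⟨e⟩ := nonempty_const_iso hT
  refine subsingleton_of_forall_eq 0 fun x => ?_
  have : x = (Ext.mk₀ e.hom).comp ((Ext.mk₀ e.inv).comp x (zero_add n)) (zero_add n) := by
    rw [Ext.mk₀_comp_mk₀_assoc, e.hom_inv_id, Ext.mk₀_id_comp]
  rw [this, h.elim ((Ext.mk₀ e.inv).comp x (zero_add n)) 0, Ext.comp_zero]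

end Groth.Agent.EtVan
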