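import Groth.Agent.EtVan.Restr
import Groth.Agent.SiteCoh.Basic
import Groth.Agent.EtQC.Ext

/-!
Classes of positive degree are killed on a finite affine covering; sections on affine objects of the members
of a short exact sequence.
-/

set_option autoImplicit false
set_option linter.style.haveILetI false
set_option backward.isDefEq.respectTransparency false

universe u

noncomputable section

open CategoryTheory CategoryTheory.Limits CategoryTheory.Abelian AlgebraicGeometry Opposite AlgSp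
open Groth.Agent.EtQC (exists_affine_of_mem exists_finite_cover)

namespace Groth.Agent.EtVan

variable {S : Scheme.{u}} {X : Sp S}

/-- restriction of classes -/
abbrev rcls {E V : EtOver X} {G : AbEt X} {n : ℕ} (h : V ⟶ E) (ξ : Ext.{u + 1} ((P X).obj E) G n) :
    Ext.{u + 1} ((P X).obj V) G n :=
  (Ext.mk₀ ((P X).map h)).comp ξ (zero_add n)

theorem rcls_mk₀_lift {T : ShortComplex (AbEt X)} (hT : T.ShortExact) {E V : EtOver X} (h : V ⟶ E)
    (φ : (P X).obj E ⟶ T.X₃) (t : sect T.X₂ V) (ht : T.g.hom.app (op V) t = T.X₃.obj.map h.op (σ φ)) :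
    rcls h ((Ext.mk₀ φ).comp hT.extClass (zero_add 1)) = 0 := by
  have hφ : (P X).map h ≫ φ = σ.symm t ≫ T.g := by
    apply σ.injective
    rw [σ_map, σ_comp, Equiv.apply_symm_apply, ht]
  rw [rcls, Ext.mk₀_comp_mk₀_assoc, hφ, ← Ext.mk₀_comp_mk₀,
    Ext.comp_assoc _ _ _ (zero_add 0) (zero_add 1) (by omega), hT.comp_extClass, Ext.comp_zero]

/-- classes of positive degree are killed locally -/
theorem exists_kill (n : ℕ) : ∀ (G : AbEt X) (E : EtOver X) (ξ : Ext.{u + 1} ((P X).obj E) G (n + 1))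
    (x : E.obj.left.left), ∃ (V : EtOver X) (h : V ⟶ E), IsAffine V.obj.left.left ∧
      x ∈ Set.range h.hom.left.left ∧ rcls h ξ = 0 := by
  haveI := enoughInjectives_abEt X
  induction n with
  | zero =>
    intro G E ξ x
    have hT := SiteCoh.embedSeq_shortExact G
    obtain ⟨x₃, rfl⟩ := Ext.covariant_sequence_exact₁ ((P X).obj E) hT ξ (Ext.eq_zero_of_injective _) rfl
    obtain ⟨φ, rfl⟩ := (Ext.mk₀_bijective _ _).2 x₃
    haveI := hT.epi_g
    haveI : Sheaf.IsLocallySurjective (SiteCoh.embedSeq G).g :=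
      (Sheaf.isLocallySurjective_iff_epi' _ _).mpr inferInstance
    obtain ⟨V, h, hV, hx, t, ht⟩ :=
      exists_affine_of_mem (Presheaf.imageSieve_mem (etTop X) (SiteCoh.embedSeq G).g.hom (U := op E) (σ φ)) x
    exact ⟨V, h, hV, hx, rcls_mk₀_lift hT h φ t ht⟩
  | succ n ih =>
    intro G E ξ x
    have hT := SiteCoh.embedSeq_shortExact G
    obtain ⟨x₃, rfl⟩ := Ext.covariant_sequence_exact₁ ((P X).obj E) hT ξ (Ext.eq_zero_of_injective _) rfl
    obtain ⟨V, h, hV, hx, hz⟩ := ih _ E x₃ x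
    refine ⟨V, h, hV, hx, ?_⟩
    rw [rcls, ← Ext.comp_assoc _ _ _ (zero_add (n + 1)) (rfl : (n + 1) + 1 = n + 1 + 1) (by omega)]
    have hz' : (Ext.mk₀ ((P X).map h)).comp x₃ (zero_add (n + 1)) = 0 := hz
    rw [hz']
    rw [Ext.zero_comp]

/-- a finite affine covering killing a class -/
theorem exists_kill_cover {n : ℕ} {G : AbEt X} {E : EtOver X} [IsAffine E.obj.left.left]
    (ξ : Ext.{u + 1} ((P X).obj E) G (n + 1)) :
    ∃ (k : ℕ) (V : Fin k → EtOver X) (h : ∀ a, V a ⟶ E), (∀ a, IsAffine (V a).obj.left.left) ∧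
      (∀ x : E.obj.left.left, ∃ a, x ∈ Set.range (h a).hom.left.left) ∧ ∀ a, rcls (h a) ξ = 0 :=
  exists_finite_cover (W := E) (fun V h => rcls h ξ = 0) fun x => exists_kill n G E ξ x

theorem surjective_sections {T : ShortComplex (AbEt X)} (hT : T.ShortExact) (E : EtOver X)
    (h : Subsingleton (Ext.{u + 1} ((P X).obj E) T.X₁ 1)) : Function.Surjective (T.g.hom.app (op E)) := by
  intro s
  obtain ⟨ψ, hψ⟩ := SiteCoh.exists_lift_of_subsingleton_ext_one hT ((P X).obj E) (σ.symm s)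
  exact ⟨σ ψ, by rw [← σ_comp, hψ, Equiv.apply_symm_apply]⟩

theorem epi_of_surjective_affine {G H : AbEt X} (g : G ⟶ H)
    (hg : ∀ E : EtOver X, IsAffine E.obj.left.left → Function.Surjective (g.hom.app (op E))) : Epi g := by
  refine (Sheaf.isLocallySurjective_iff_epi' _ _).mp ⟨fun {W} s => ?_⟩
  refine Groth.Agent.AlgSpLib.StalkPoint.mem_etTop_of_jointly_surjective _ fun x => ?_
  obtain ⟨V, hV, h, z, hz⟩ := Groth.Agent.EtQC.exists_affine_nhd W x
  obtain ⟨t, ht⟩ := hg V hV (H.obj.map h.op s)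
  exact ⟨V, h, ⟨t, ht⟩, z, hz⟩

end Groth.Agent.EtVan
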