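import Groth.Agent.EtVan.Kill
import Groth.Agent.EtVan.Integral
import Groth.Agent.EtQC.PushQcqs
import Groth.Agent.EtQC.ColimSect
import Mathlib.Algebra.Category.Grp.FilteredColimits

/-!
Sections of filtered colimits of abelian sheaves on quasi-compact quasi-separated objects; restriction functors
carrying affine objects to such objects preserve filtered colimits.
-/

set_option autoImplicit false
set_option linter.style.haveILetI false
set_option backward.isDefEq.respectTransparency false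

universe u

noncomputable section

open CategoryTheory CategoryTheory.Limits AlgebraicGeometry Opposite AlgSp
open Groth.Agent.EtQC (pb pbFst pbSnd pbLift pbLift_fst pbLift_snd pb_condition compactSpace_pb
  exists_coequalize_fin exists_affine_of_mem exists_finite_cover_of_compact)

namespace Groth.Agent.EtVan

variable {S : Scheme.{u}} {X Y : Sp S}

theorem eq_of_cover_ab (G : AbEt X) {W : EtOver X} {ι : Type u} {V : ι → EtOver X} (h : ∀ i, V i ⟶ W)
    (hc : ∀ x : W.obj.left.left, ∃ i, x ∈ Set.range (h i).hom.left.left) {s t : sect G W}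
    (hst : ∀ i, G.obj.map (h i).op s = G.obj.map (h i).op t) : s = t := by
  refine (isSheafFor_ab G (ofArrows_mem V h hc)).isSeparatedFor.ext ?_
  rintro Z k ⟨Z', a, b, ⟨i⟩, rfl⟩
  show G.obj.map (a ≫ h i).op s = G.obj.map (a ≫ h i).op t
  rw [op_comp, G.obj.map_comp, ConcreteCategory.comp_apply, ConcreteCategory.comp_apply, hst]

theorem exists_glue_ab (G : AbEt X) {W : EtOver X} {ι : Type u} {V : ι → EtOver X} (h : ∀ i, V i ⟶ W)
    (hc : ∀ x : W.obj.left.left, ∃ i, x ∈ Set.range (h i).hom.left.left) (s : ∀ i, sect G (V i))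
    (hs : ∀ i j, G.obj.map (pbFst (h i) (h j)).op (s i) = G.obj.map (pbSnd (h i) (h j)).op (s j)) :
    ∃ t, ∀ i, G.obj.map (h i).op t = s i := by
  have hS := (Presieve.isSheafFor_iff_generate _).mpr (isSheafFor_ab G (ofArrows_mem V h hc))
  obtain ⟨t, ht, -⟩ := (Presieve.isSheafFor_arrows_iff _ h).mp hS s fun i j Z a b w => by
    have e := congrArg (fun y => G.obj.map (pbLift (h i) (h j) a b w).op y) (hs i j)
    simp only [← ConcreteCategory.comp_apply, ← G.obj.map_comp, ← op_comp, pbLift_fst, pbLift_snd] at e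
    exact e
  exact ⟨t, ht⟩

section Colim

variable {J : Type (u + 1)} [SmallCategory J] [IsFiltered J] {K : J ⥤ AbEt X} {c : Cocone K} (hc : IsColimit c)

include hc in
omit [IsFiltered J] in
theorem exists_cmp :
    ∃ (c' : Cocone (K ⋙ sheafToPresheaf (etTop X) AddCommGrpCat.{u + 1})) (_ : IsColimit c')
      (θ : c'.pt ⟶ c.pt.obj), (∀ j, c'.ι.app j ≫ θ = (c.ι.app j).hom) ∧
        Presheaf.IsLocallyInjective (etTop X) θ ∧ Presheaf.IsLocallySurjective (etTop X) θ := by
  let c' := colimit.cocone (K ⋙ sheafToPresheaf (etTop X) AddCommGrpCat.{u + 1})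
  let e := (Sheaf.isColimitSheafifyCocone c' (colimit.isColimit _)).coconePointUniqueUpToIso hc
  haveI : IsIso e.hom.hom := inferInstanceAs (IsIso ((sheafToPresheaf _ _).map e.hom))
  refine ⟨c', colimit.isColimit _, toSheafify (etTop X) c'.pt ≫ e.hom.hom, fun j => ?_, ?_, ?_⟩
  · rw [← Category.assoc, ← Sheaf.sheafifyCocone_ι_app_val]
    exact congrArg (fun m => m.hom)
      (IsColimit.comp_coconePointUniqueUpToIso_hom (Sheaf.isColimitSheafifyCocone c' (colimit.isColimit _)) hc j)
  · infer_instance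
  · infer_instance

omit [IsFiltered J] in
theorem app_map_map (K : J ⥤ AbEt X) {i j k : J} (f : i ⟶ j) (g : j ⟶ k) {E : EtOver X} (t : sect (K.obj i) E) :
    (K.map (f ≫ g)).hom.app (op E) t = (K.map g).hom.app (op E) ((K.map f).hom.app (op E) t) := by
  rw [K.map_comp]
  rfl

omit [IsFiltered J] in
theorem app_ι_map (c : Cocone K) {i j : J} (f : i ⟶ j) {E : EtOver X} (t : sect (K.obj i) E) :
    (c.ι.app j).hom.app (op E) ((K.map f).hom.app (op E) t) = (c.ι.app i).hom.app (op E) t := by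
  rw [← c.w f]
  rfl

include hc in
theorem exists_loc_zero {E : EtOver X} {j : J} (s : sect (K.obj j) E) (h : (c.ι.app j).hom.app (op E) s = 0)
    (x : E.obj.left.left) :
    ∃ (V : EtOver X) (g : V ⟶ E), IsAffine V.obj.left.left ∧ x ∈ Set.range g.hom.left.left ∧
      ∃ (k : J) (a : j ⟶ k), (K.map a).hom.app (op V) ((K.obj j).obj.map g.op s) = 0 := by
  obtain ⟨c', hc', θ, hθ, hi, -⟩ := exists_cmp hc
  have h0 : θ.app (op E) ((c'.ι.app j).app (op E) s) = θ.app (op E) 0 := by
    rw [map_zero]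
    exact (ConcreteCategory.congr_hom (congrArg (fun m => m.app (op E)) (hθ j)) s).trans h
  obtain ⟨V, g, hV, hx, hg⟩ := exists_affine_of_mem (Presheaf.equalizerSieve_mem (etTop X) θ _ _ h0) x
  refine ⟨V, g, hV, hx, ?_⟩
  change c'.pt.map g.op ((c'.ι.app j).app (op E) s) = c'.pt.map g.op 0 at hg
  rw [map_zero] at hg
  replace hg : (c'.ι.app j).app (op V) ((K.obj j).obj.map g.op s) = 0 :=
    (NatTrans.naturality_apply (c'.ι.app j) g.op s).trans hg
  have hW := isColimitOfPreserves ((evaluation (EtOver X)ᵒᵖ AddCommGrpCat.{u + 1}).obj (op V)) hc'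
  obtain ⟨k, a, b, hab⟩ := (Concrete.isColimit_rep_eq_iff_exists _ hW ((K.obj j).obj.map g.op s) 0).mp
    (hg.trans (map_zero ((c'.ι.app j).app (op V)).hom).symm)
  exact ⟨k, a, hab.trans (map_zero ((K.map b).hom.app (op V)).hom)⟩

include hc in
theorem exists_loc_rep {E : EtOver X} (t : sect c.pt E) (x : E.obj.left.left) :
    ∃ (V : EtOver X) (g : V ⟶ E), IsAffine V.obj.left.left ∧ x ∈ Set.range g.hom.left.left ∧
      ∃ (j : J) (s : sect (K.obj j) V), (c.ι.app j).hom.app (op V) s = c.pt.obj.map g.op t := by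
  obtain ⟨c', hc', θ, hθ, -, hs⟩ := exists_cmp hc
  obtain ⟨V, g, hV, hx, a, ha⟩ := exists_affine_of_mem (hs.imageSieve_mem t) x
  refine ⟨V, g, hV, hx, ?_⟩
  have hW := isColimitOfPreserves ((evaluation (EtOver X)ᵒᵖ AddCommGrpCat.{u + 1}).obj (op V)) hc'
  obtain ⟨j, s, rfl⟩ := Concrete.isColimit_exists_rep _ hW a
  exact ⟨j, s, (ConcreteCategory.congr_hom (congrArg (fun m => m.app (op V)) (hθ j)) s).symm.trans ha⟩

include hc in
theorem exists_zero {E : EtOver X} [CompactSpace ↥E.obj.left.left] {j : J} (s : sect (K.obj j) E)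
    (h : (c.ι.app j).hom.app (op E) s = 0) : ∃ (k : J) (f : j ⟶ k), (K.map f).hom.app (op E) s = 0 := by
  choose V g hV hx k a hz using exists_loc_zero hc s h
  have ho : ∀ x, IsOpen (Set.range (g x).hom.left.left) := fun x => by
    have : Etale (g x).hom.left.left := EtOver.etale_left (g x)
    exact (g x).hom.left.left.isOpenMap.isOpen_range
  obtain ⟨t, ht⟩ := isCompact_univ.elim_finite_subcover _ ho (fun x _ => Set.mem_iUnion.mpr ⟨x, hx x⟩)
  obtain ⟨n, ⟨e⟩⟩ := Finite.exists_equiv_fin t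
  obtain ⟨m, b, hb⟩ := exists_coequalize_fin (fun i => k (e.symm i).1) (fun i => a (e.symm i).1)
  refine ⟨m, b, eq_of_cover_ab (K.obj m) (fun y : t => g y.1) (fun x => ?_) fun y => ?_⟩
  · obtain ⟨y, hy, hxy⟩ := Set.mem_iUnion₂.mp (ht (Set.mem_univ x))
    exact ⟨⟨y, hy⟩, hxy⟩
  · obtain ⟨i, rfl⟩ := e.symm.surjective y
    obtain ⟨c₀, hc₀⟩ := hb i
    rw [map_zero, ← NatTrans.naturality_apply, ← hc₀, app_map_map, hz, map_zero]

include hc in
theorem exists_rep {E : EtOver X} [CompactSpace ↥E.obj.left.left] [QuasiSeparatedSpace ↥E.obj.left.left]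
    (t : sect c.pt E) : ∃ (j : J) (s : sect (K.obj j) E), (c.ι.app j).hom.app (op E) s = t := by
  classical
  choose V g hV hx j a ha using exists_loc_rep hc t
  have ho : ∀ x, IsOpen (Set.range (g x).hom.left.left) := fun x => by
    have : Etale (g x).hom.left.left := EtOver.etale_left (g x)
    exact (g x).hom.left.left.isOpenMap.isOpen_range
  obtain ⟨F, hF⟩ := isCompact_univ.elim_finite_subcover _ ho (fun x _ => Set.mem_iUnion.mpr ⟨x, hx x⟩)
  obtain ⟨k, hk⟩ := IsFiltered.sup_objs_exists (F.image j)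
  have f : ∀ x : F, j x.1 ⟶ k := fun x => (hk (Finset.mem_image_of_mem j x.2)).some
  let b : ∀ x : F, sect (K.obj k) (V x.1) := fun x => (K.map (f x)).hom.app (op (V x.1)) (a x.1)
  have hb : ∀ x, (c.ι.app k).hom.app (op (V x.1)) (b x) = c.pt.obj.map (g x.1).op t :=
    fun x => (app_ι_map c (f x) (a x.1)).trans (ha x.1)
  have hov : ∀ p : F × F, ∃ (l : J) (e : k ⟶ l), (K.map e).hom.app (op (pb (g p.1.1) (g p.2.1)))
      ((K.obj k).obj.map (pbFst (g p.1.1) (g p.2.1)).op (b p.1) -
        (K.obj k).obj.map (pbSnd (g p.1.1) (g p.2.1)).op (b p.2)) = 0 := fun p => by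
    haveI := hV p.1.1
    haveI := hV p.2.1
    haveI := compactSpace_pb (g p.1.1) (g p.2.1)
    refine exists_zero hc _ ?_
    rw [map_sub, NatTrans.naturality_apply, NatTrans.naturality_apply, hb, hb, sub_eq_zero]
    show c.pt.obj.map (pbFst (g p.1.1) (g p.2.1)).op (c.pt.obj.map (g p.1.1).op t) =
      c.pt.obj.map (pbSnd (g p.1.1) (g p.2.1)).op (c.pt.obj.map (g p.2.1).op t)
    rw [← ConcreteCategory.comp_apply, ← ConcreteCategory.comp_apply, ← Functor.map_comp, ← Functor.map_comp,
      ← op_comp, ← op_comp, pb_condition]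
  choose l el hel using hov
  obtain ⟨n, ⟨e⟩⟩ := Finite.exists_equiv_fin (F × F)
  obtain ⟨m, d, hd⟩ := exists_coequalize_fin (fun i => l (e.symm i)) (fun i => el (e.symm i))
  have hz : ∀ p : F × F, (K.map d).hom.app (op (pb (g p.1.1) (g p.2.1)))
      ((K.obj k).obj.map (pbFst (g p.1.1) (g p.2.1)).op (b p.1) -
        (K.obj k).obj.map (pbSnd (g p.1.1) (g p.2.1)).op (b p.2)) = 0 := fun p => by
    obtain ⟨i, rfl⟩ := e.symm.surjective p
    obtain ⟨c₀, hc₀⟩ := hd i
    rw [← hc₀, app_map_map, hel, map_zero]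
  have hcov : ∀ v : E.obj.left.left, ∃ x : F, v ∈ Set.range (g x.1).hom.left.left := fun v => by
    obtain ⟨x, hxF, hv⟩ := Set.mem_iUnion₂.mp (hF (Set.mem_univ v))
    exact ⟨⟨x, hxF⟩, hv⟩
  obtain ⟨r, hr⟩ := exists_glue_ab (K.obj m) (fun x : F => g x.1) hcov
    (fun x => (K.map d).hom.app (op (V x.1)) (b x)) (fun x x' => by
      have h0 := hz (x, x')
      rw [map_sub, sub_eq_zero, NatTrans.naturality_apply, NatTrans.naturality_apply] at h0
      exact h0)
  refine ⟨m, r, eq_of_cover_ab c.pt (fun x : F => g x.1) hcov fun x => ?_⟩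
  refine (NatTrans.naturality_apply (c.ι.app m).hom (g x.1).op r).symm.trans ?_
  rw [hr, app_ι_map, hb]

end Colim

/-- a restriction functor carrying affine objects to quasi-compact quasi-separated objects preserves filtered colimits -/
theorem preservesColimitsOfShape_of_sect {J : Type (u + 1)} [SmallCategory J] [IsFiltered J]
    (u₀ : EtOver Y ⥤ EtOver X) [u₀.IsContinuous (etTop Y) (etTop X)]
    (hu : ∀ W : EtOver Y, IsAffine W.obj.left.left →
      CompactSpace ↥(u₀.obj W).obj.left.left ∧ QuasiSeparatedSpace ↥(u₀.obj W).obj.left.left) :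
    PreservesColimitsOfShape J (u₀.sheafPushforwardContinuous AddCommGrpCat.{u + 1} (etTop Y) (etTop X)) := by
  let F := u₀.sheafPushforwardContinuous AddCommGrpCat.{u + 1} (etTop Y) (etTop X)
  refine ⟨fun {K} => ?_⟩
  let c₂ := colimit.cocone (K ⋙ F)
  let θ : c₂.pt ⟶ F.obj (colimit K) := colimit.desc (K ⋙ F) (F.mapCocone (colimit.cocone K))
  have hθ : ∀ (j : J) (W : EtOver Y) (s : sect ((K ⋙ F).obj j) W),
      θ.hom.app (op W) ((colimit.ι (K ⋙ F) j).hom.app (op W) s) = (colimit.ι K j).hom.app (op (u₀.obj W)) s :=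
    fun j W s => ConcreteCategory.congr_hom
      (congrArg (fun q => q.hom.app (op W)) (colimit.ι_desc (F.mapCocone (colimit.cocone K)) j)) s
  haveI : Mono θ := by
    refine Preadditive.mono_of_cancel_zero _ fun {G} q hq => ?_
    refine Sheaf.hom_ext (NatTrans.ext (funext fun W => ?_))
    ext a
    obtain ⟨n, V, h, hV, hc⟩ : ∃ (ι : Type u) (V : ι → EtOver Y) (h : ∀ i, V i ⟶ W.unop),
        (∀ i, IsAffine (V i).obj.left.left) ∧ ∀ x : W.unop.obj.left.left, ∃ i, x ∈ Set.range (h i).hom.left.left := by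
      have hch := fun x : W.unop.obj.left.left => Groth.Agent.EtQC.exists_affine_nhd W.unop x
      choose V hV h hx using hch
      exact ⟨_, V, h, hV, fun x => ⟨x, hx x⟩⟩
    refine eq_of_cover_ab c₂.pt h hc fun i => ?_
    haveI := hV i
    obtain ⟨_, _⟩ := hu (V i) (hV i)
    rw [← NatTrans.naturality_apply]
    refine Eq.trans ?_ (map_zero (c₂.pt.obj.map (h i).op).hom).symm
    have h0 : θ.hom.app (op (V i)) (q.hom.app (op (V i)) (G.obj.map (h i).op a)) = 0 :=
      ConcreteCategory.congr_hom (congrArg (fun k => k.hom.app (op (V i))) hq) _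
    obtain ⟨j, s, hs⟩ := exists_rep (colimit.isColimit (K ⋙ F)) (q.hom.app (op (V i)) (G.obj.map (h i).op a))
    rw [← hs] at h0
    obtain ⟨k, f, hk⟩ := exists_zero (colimit.isColimit K) (E := u₀.obj (V i)) s ((hθ j (V i) s).symm.trans h0)
    refine hs.symm.trans ((app_ι_map (colimit.cocone (K ⋙ F)) f s).symm.trans ?_)
    exact (congrArg ((colimit.ι (K ⋙ F) k).hom.app (op (V i))) hk).trans (map_zero _)
  haveI : Epi θ := epi_of_surjective_affine θ fun W hW t => by
    obtain ⟨_, _⟩ := hu W hW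
    obtain ⟨j, s, hs⟩ := exists_rep (colimit.isColimit K) (E := u₀.obj W) t
    exact ⟨(colimit.ι (K ⋙ F) j).hom.app (op W) s, (hθ j W s).trans hs⟩
  haveI : IsIso θ := isIso_of_mono_of_epi θ
  haveI : IsIso ((colimit.isColimit (K ⋙ F)).desc (F.mapCocone (colimit.cocone K))) := ‹IsIso θ›
  exact preservesColimit_of_preserves_colimit_cocone (colimit.isColimit K)
    (IsColimit.ofPointIso (colimit.isColimit (K ⋙ F)) (t := F.mapCocone (colimit.cocone K)))

end Groth.Agent.EtVan
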