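import Groth.Agent.EtVan.Val
import Groth.Agent.EtVan.SectColim
import Groth.Agent.EtQC.NearEq

/-!
A Mayer-Vietoris vanishing criterion: a class of degree at least two dying on the open part and on the etale
part of an elementary distinguished square vanishes if the overlap has no cohomology one degree below.
-/

set_option autoImplicit false
set_option linter.style.haveILetI false
set_option backward.isDefEq.respectTransparency false

universe u

noncomputable section

open CategoryTheory CategoryTheory.Limits CategoryTheory.Abelian AlgebraicGeometry Opposite AlgSp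
open Groth.Agent.AlgSpLib

namespace Groth.Agent.EtVan

variable {S : Scheme.{u}} {U W : Sp S} {j : U ⟶ W} (he : IsEtaleMor j)

/-- a square with open part `j`, etale part `V` and overlap `Z` -/
structure MVData {V Z : EtOver W} (q : Z ⟶ V) (A : Set (Points W)) : Prop where
  monoJ : Mono j
  monoQ : Mono q
  liftU : ∀ (T : EtOver W) (x : T.obj.left.left), Points.ofPt T.obj.hom x ∈ A →
    ∃ (T₁ : EtOver U) (k : (EtOver.postcomp j he).obj T₁ ⟶ T), x ∈ Set.range k.hom.left.left
  liftV : ∀ (T : EtOver W) (x : T.obj.left.left), Points.ofPt T.obj.hom x ∉ A →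
    ∃ (T' : EtOver W) (k : T' ⟶ T), x ∈ Set.range k.hom.left.left ∧ Nonempty (T' ⟶ V)
  nearEq : Groth.Agent.EtQC.NearEq V A
  factorZ : ∀ (T₁ : EtOver U) (b : (EtOver.postcomp j he).obj T₁ ⟶ V), ∃ d, d ≫ q = b
  liftZ : ∃ T₁ : EtOver U, Nonempty (Z ⟶ (EtOver.postcomp j he).obj T₁)

variable {he}

theorem monoP_map {X : Sp S} {o o' : EtOver X} (f : o' ⟶ o) [Mono f] : Mono ((P X).map f) := by
  have : Mono ((freePre X).map f) := by
    rw [NatTrans.mono_iff_mono_app]
    intro T
    have : Mono (((uliftYoneda.{u + 1}).map f).app T) := by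
      rw [mono_iff_injective]
      rintro ⟨a⟩ ⟨b⟩ h
      exact ULift.ext _ _ ((cancel_mono f).1 (ULift.up_injective h))
    exact inferInstanceAs (Mono (AddCommGrpCat.free.map _))
  exact inferInstanceAs (Mono ((presheafToSheaf _ _).map ((freePre X).map f)))

/-- sections of an injective sheaf extend along monomorphisms of objects -/
theorem exists_extend {X : Sp S} (I : AbEt X) [Injective I] {o o' : EtOver X} (f : o' ⟶ o) [Mono f] (i : sect I o') :
    ∃ i' : sect I o, I.obj.map f.op i' = i := by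
  haveI := monoP_map f
  refine ⟨σ (Injective.factorThru (σ.symm i) ((P X).map f)), ?_⟩
  rw [← σ_map, Injective.comp_factorThru, Equiv.apply_symm_apply]

theorem map_val_congr (hj : Mono j) {G : AbEt W} (t : constZ U ⟶ (restr j he).obj G) {T : EtOver W}
    {T₁ T₂ : EtOver U} (g₁ : T ⟶ (EtOver.postcomp j he).obj T₁) (g₂ : T ⟶ (EtOver.postcomp j he).obj T₂) :
    G.obj.map g₁.op (val t T₁ : sect G ((EtOver.postcomp j he).obj T₁)) =
      G.obj.map g₂.op (val t T₂ : sect G ((EtOver.postcomp j he).obj T₂)) := by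
  let L := PostcompSite.lift j he g₁
  let m₂ : L ⟶ T₂ := EtOver.homMk (E := L) (E' := T₂) g₂.hom.left (by
    haveI := hj
    refine (cancel_mono j).1 ?_
    show ((yon S).map g₂.hom.left ≫ T₂.obj.hom) ≫ j = ((yon S).map g₁.hom.left ≫ T₁.obj.hom) ≫ j
    rw [Category.assoc, Category.assoc]
    exact (EtOver.w g₂).trans (EtOver.w g₁).symm)
  have h2 : PostcompSite.liftIso j he g₁ ≫ (EtOver.postcomp j he).map m₂ = g₂ :=
    EtOver.hom_ext _ _ (Category.id_comp _)
  conv_lhs => rw [← PostcompSite.liftIso_map j he g₁]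
  conv_rhs => rw [← h2]
  rw [op_comp, op_comp, G.obj.map_comp, G.obj.map_comp, ConcreteCategory.comp_apply, ConcreteCategory.comp_apply]
  exact congrArg (G.obj.map (PostcompSite.liftIso j he g₁).op)
    ((map_val t (PostcompSite.liftHom j he g₁)).trans (map_val t m₂).symm)

variable {V Z : EtOver W} {q : Z ⟶ V} {A : Set (Points W)} (D : MVData he q A)

include D in
theorem eq_zero_of_parts {G : AbEt W} (φ : constZ W ⟶ G) (hU : resMap j he φ = 0) (hV : val φ V = 0) : φ = 0 := by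
  refine val_ext fun T => ?_
  have hzero : ∀ {X : Sp S} {H : AbEt X} (T : EtOver X), val (0 : constZ X ⟶ H) T = 0 := fun {X H} T => by
    have h := val_comp (0 : constZ X ⟶ H) (0 : H ⟶ H) T
    rw [zero_comp] at h
    exact h
  rw [hzero T]
  have key : ∀ x : T.obj.left.left, ∃ (T' : EtOver W) (k : T' ⟶ T),
      x ∈ Set.range k.hom.left.left ∧ val φ T' = 0 := fun x => by
    by_cases hx : Points.ofPt T.obj.hom x ∈ A
    · obtain ⟨T₁, k, hk⟩ := D.liftU T x hx
      refine ⟨_, k, hk, ?_⟩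
      rw [← val_resMap, hU]
      exact hzero T₁
    · obtain ⟨T', k, hk, ⟨b⟩⟩ := D.liftV T x hx
      refine ⟨T', k, hk, ?_⟩
      rw [← map_val φ b, hV, map_zero]
  choose T' k hx hz using key
  refine eq_of_cover_ab G k (fun x => ⟨x, hx x⟩) fun x => ?_
  rw [map_zero, map_val, hz]

include D in
theorem exists_glue_parts {G : AbEt W} (tU : constZ U ⟶ (restr j he).obj G) (tV : sect G V)
    (h : ∀ (T₁ : EtOver U) (b : (EtOver.postcomp j he).obj T₁ ⟶ V), G.obj.map b.op tV = val tU T₁) :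
    ∃ φ : constZ W ⟶ G, resMap j he φ = tU ∧ val φ V = tV := by
  have hUV : ∀ {T : EtOver W} {T₁ : EtOver U} (g : T ⟶ (EtOver.postcomp j he).obj T₁) (b : T ⟶ V),
      G.obj.map g.op (val tU T₁ : sect G ((EtOver.postcomp j he).obj T₁)) = G.obj.map b.op tV := fun {T T₁} g b => by
    have hid : PostcompSite.liftIso j he g ≫ PostcompSite.liftInv j he g = 𝟙 T :=
      EtOver.hom_ext _ _ (Category.id_comp _)
    conv_rhs => rw [← Category.id_comp b, ← hid, Category.assoc]
    conv_lhs => rw [← PostcompSite.liftIso_map j he g]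
    rw [op_comp, op_comp, G.obj.map_comp, G.obj.map_comp, ConcreteCategory.comp_apply, ConcreteCategory.comp_apply]
    refine congrArg (G.obj.map (PostcompSite.liftIso j he g).op) ?_
    rw [h]
    exact map_val tU (PostcompSite.liftHom j he g)
  have hVV : ∀ {T : EtOver W} (b b' : T ⟶ V), G.obj.map b.op tV = G.obj.map b'.op tV := fun {T} b b' => by
    have key : ∀ x : T.obj.left.left, ∃ (T' : EtOver W) (k : T' ⟶ T), x ∈ Set.range k.hom.left.left ∧
        G.obj.map k.op (G.obj.map b.op tV) = G.obj.map k.op (G.obj.map b'.op tV) := fun x => by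
      by_cases hx : Points.ofPt T.obj.hom x ∈ A
      · obtain ⟨T₁, k, hk⟩ := D.liftU T x hx
        refine ⟨_, k, hk, ?_⟩
        rw [← ConcreteCategory.comp_apply, ← ConcreteCategory.comp_apply, ← G.obj.map_comp, ← G.obj.map_comp,
          ← op_comp, ← op_comp]
        exact (h T₁ _).trans (h T₁ _).symm
      · obtain ⟨T', k, -, hk, e⟩ := D.nearEq T b b' x hx
        refine ⟨T', k, hk, ?_⟩
        rw [← ConcreteCategory.comp_apply, ← ConcreteCategory.comp_apply, ← G.obj.map_comp, ← G.obj.map_comp,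
          ← op_comp, ← op_comp, e]
    choose T' k hx he' using key
    exact eq_of_cover_ab G k (fun x => ⟨x, hx x⟩) he'
  let Is : ∀ T : EtOver W, sect G T → Prop := fun T y =>
    (∃ (T₁ : EtOver U) (g : T ⟶ (EtOver.postcomp j he).obj T₁),
      y = G.obj.map g.op (val tU T₁ : sect G ((EtOver.postcomp j he).obj T₁))) ∨
      ∃ b : T ⟶ V, y = G.obj.map b.op tV
  have hres : ∀ {T T' : EtOver W} (k : T' ⟶ T) (y : sect G T), Is T y → Is T' (G.obj.map k.op y) := by
    intro T T' k y hy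
    rcases hy with ⟨T₁, g, rfl⟩ | ⟨b, rfl⟩
    · exact Or.inl ⟨T₁, k ≫ g, by rw [op_comp, G.obj.map_comp, ConcreteCategory.comp_apply]⟩
    · exact Or.inr ⟨k ≫ b, by rw [op_comp, G.obj.map_comp, ConcreteCategory.comp_apply]⟩
  have huniq : ∀ {T : EtOver W} (y y' : sect G T), Is T y → Is T y' → y = y' := by
    intro T y y' hy hy'
    rcases hy with ⟨T₁, g, rfl⟩ | ⟨b, rfl⟩ <;> rcases hy' with ⟨T₂, g', rfl⟩ | ⟨b', rfl⟩
    · exact map_val_congr D.monoJ tU g g'
    · exact hUV g b'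
    · exact (hUV g' b).symm
    · exact hVV b b'
  have hex : ∀ (T : EtOver W) (x : T.obj.left.left), ∃ (T' : EtOver W) (k : T' ⟶ T) (y : sect G T'),
      x ∈ Set.range k.hom.left.left ∧ Is T' y := fun T x => by
    by_cases hx : Points.ofPt T.obj.hom x ∈ A
    · obtain ⟨T₁, k, hk⟩ := D.liftU T x hx
      exact ⟨_, k, _, hk, Or.inl ⟨T₁, 𝟙 _, rfl⟩⟩
    · obtain ⟨T', k, hk, ⟨b⟩⟩ := D.liftV T x hx
      exact ⟨T', k, _, hk, Or.inr ⟨b, rfl⟩⟩
  choose T' k y hx hy using hex
  have hs : ∀ T, ∃ s : sect G T, ∀ x, G.obj.map (k T x).op s = y T x := fun T =>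
    exists_glue_ab G (k T) (fun x => ⟨x, hx T x⟩) (y T) fun a b =>
      huniq _ _ (hres _ _ (hy T a)) (hres _ _ (hy T b))
  choose s hs using hs
  have hsy : ∀ {T T₀ : EtOver W} (g : T₀ ⟶ T) (y₀ : sect G T₀), Is T₀ y₀ → G.obj.map g.op (s T) = y₀ := by
    intro T T₀ g y₀ hy₀
    have hcov : ∀ z : T₀.obj.left.left, ∃ x, z ∈ Set.range (Groth.Agent.EtQC.pbFst g (k T x)).hom.left.left := fun z => by
      obtain ⟨w, hw⟩ := hx T (g.hom.left.left z)
      obtain ⟨p, hp, -⟩ := Groth.Agent.EtQC.exists_pb_point g (k T _) z w hw.symm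
      exact ⟨_, p, hp⟩
    refine eq_of_cover_ab G (fun x => Groth.Agent.EtQC.pbFst g (k T x)) hcov fun x => ?_
    refine huniq _ _ ?_ (hres _ _ hy₀)
    rw [← ConcreteCategory.comp_apply, ← G.obj.map_comp, ← op_comp, Groth.Agent.EtQC.pb_condition, op_comp,
      G.obj.map_comp, ConcreteCategory.comp_apply, hs]
    exact hres _ _ (hy T x)
  have hnat : ∀ {T T₀ : EtOver W} (g : T₀ ⟶ T), G.obj.map g.op (s T) = s T₀ := by
    intro T T₀ g
    refine eq_of_cover_ab G (k T₀) (fun x => ⟨x, hx T₀ x⟩) fun x => ?_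
    rw [hs, ← ConcreteCategory.comp_apply, ← G.obj.map_comp, ← op_comp]
    exact hsy _ _ (hy T₀ x)
  obtain ⟨φ, hφ⟩ := exists_val_eq (G := G) s (fun g => hnat g)
  refine ⟨φ, val_ext fun T₁ => ?_, ?_⟩
  · rw [val_resMap, hφ]
    have := hsy (𝟙 _) (G.obj.map (𝟙 ((EtOver.postcomp j he).obj T₁)).op
      (val tU T₁ : sect G ((EtOver.postcomp j he).obj T₁))) (Or.inl ⟨T₁, 𝟙 _, rfl⟩)
    simpa using this
  · rw [hφ]
    have := hsy (𝟙 V) (G.obj.map (𝟙 V).op tV) (Or.inr ⟨𝟙 V, rfl⟩)
    simpa using this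

include D in
/-- degree one -/
theorem eq_zero_deg_one (G : AbEt W) (s : Ext.{u + 1} (constZ W) G 1) (hU : resCls j he s = 0)
    (hV : (Ext.mk₀ (atObj V)).comp s (zero_add 1) = 0) (hsurj : Function.Surjective (G.obj.map q.op)) : s = 0 := by
  haveI := enoughInjectives_abEt W
  haveI := additive_restr j he
  let T := SiteCoh.embedSeq G
  have hT : T.ShortExact := SiteCoh.embedSeq_shortExact G
  obtain ⟨x₃, rfl⟩ := Ext.covariant_sequence_exact₁ (constZ W) hT s (Ext.eq_zero_of_injective _) rfl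
  obtain ⟨φ, rfl⟩ := (Ext.mk₀_bijective _ _).2 x₃
  rw [resCls_comp_extClass, resCls_mk₀] at hU
  obtain ⟨a, ha⟩ := Ext.covariant_sequence_exact₃ (constZ U) (shortExact_restr j he hT) _ (zero_add 1) hU
  obtain ⟨tU, rfl⟩ := (Ext.mk₀_bijective _ _).2 a
  have htU : tU ≫ (restr j he).map T.g = resMap j he φ :=
    (Ext.mk₀_bijective _ _).1 (by rw [← ha, Ext.mk₀_comp_mk₀]; rfl)
  rw [Ext.mk₀_comp_mk₀_assoc] at hV
  obtain ⟨b, hb⟩ := Ext.covariant_sequence_exact₃ ((P W).obj V) hT _ (zero_add 1) hV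
  obtain ⟨ψ, rfl⟩ := (Ext.mk₀_bijective _ _).2 b
  have hψ : ψ ≫ T.g = atObj V ≫ φ := (Ext.mk₀_bijective _ _).1 (by rw [← hb, Ext.mk₀_comp_mk₀])
  have hgV : T.g.hom.app (op V) (σ ψ) = val φ V := by rw [← σ_comp, hψ, σ_atObj_comp]
  obtain ⟨T₁, ⟨e⟩⟩ := D.liftZ
  let d : sect T.X₂ Z := T.X₂.obj.map e.op (val tU T₁ : sect T.X₂ ((EtOver.postcomp j he).obj T₁)) -
    T.X₂.obj.map q.op (σ ψ)
  have hd : T.g.hom.app (op Z) d = 0 := by
    rw [map_sub, NatTrans.naturality_apply, NatTrans.naturality_apply, hgV, map_val, sub_eq_zero,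
      ← map_val φ e, ← val_resMap, ← htU, val_comp]
    rfl
  haveI := hT.mono_f
  obtain ⟨b₀, hb₀⟩ : ∃ b₀, T.f.hom.app (op Z) b₀ = d := by
    let l : (P W).obj Z ⟶ T.X₁ := hT.exact.lift (σ.symm d) (by
      apply σ.injective
      rw [σ_comp, Equiv.apply_symm_apply, hd, σ_zero])
    exact ⟨σ l, by rw [← σ_comp, hT.exact.lift_f, Equiv.apply_symm_apply]⟩
  obtain ⟨b₁, hb₁⟩ := hsurj b₀
  let tV : sect T.X₂ V := σ ψ + T.f.hom.app (op V) b₁
  have htV : T.X₂.obj.map q.op tV = T.X₂.obj.map e.op (val tU T₁ : sect T.X₂ ((EtOver.postcomp j he).obj T₁)) := by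
    rw [map_add, ← NatTrans.naturality_apply, hb₁, hb₀]
    exact add_sub_cancel _ _
  obtain ⟨t, ht₁, ht₂⟩ := exists_glue_parts D tU tV fun T₂ b => by
    obtain ⟨d', rfl⟩ := D.factorZ T₂ b
    rw [op_comp, T.X₂.obj.map_comp, ConcreteCategory.comp_apply, htV, ← ConcreteCategory.comp_apply,
      ← T.X₂.obj.map_comp, ← op_comp]
    refine (map_val_congr D.monoJ tU (d' ≫ e) (𝟙 _)).trans ?_
    simp
  have hφ : φ = t ≫ T.g := by
    rw [← sub_eq_zero]
    refine eq_zero_of_parts D _ ?_ ?_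
    · refine val_ext fun T₂ => ?_
      rw [val_resMap, ← σ_atObj_comp, Preadditive.comp_sub]
      have h2 : val φ ((EtOver.postcomp j he).obj T₂) = val (t ≫ T.g) ((EtOver.postcomp j he).obj T₂) := by
        rw [← val_resMap, ← htU, val_comp, val_comp, ← val_resMap, ht₁]
        rfl
      rw [← σ_atObj_comp, ← σ_atObj_comp] at h2
      rw [σ.injective h2, sub_self, σ_zero, ← σ_atObj_comp, comp_zero, σ_zero]
    · rw [← σ_atObj_comp, Preadditive.comp_sub]
      have h2 : val φ V = val (t ≫ T.g) V := by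
        rw [val_comp, ht₂, map_add, hgV, ← ConcreteCategory.comp_apply]
        have hz : T.f.hom.app (op V) ≫ T.g.hom.app (op V) = 0 := congrArg (fun k => k.hom.app (op V)) T.zero
        rw [hz]
        exact (add_zero _).symm
      rw [← σ_atObj_comp, ← σ_atObj_comp] at h2
      rw [σ.injective h2, sub_self, σ_zero]
  rw [hφ, ← Ext.mk₀_comp_mk₀, Ext.comp_assoc _ _ _ (zero_add 0) (zero_add 1) (by omega), hT.comp_extClass,
    Ext.comp_zero]

include D in
/-- degree at least two -/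
theorem eq_zero_of_mv (m : ℕ) : ∀ (G : AbEt W) (ξ : Ext.{u + 1} (constZ W) G (m + 2)),
    resCls j he ξ = 0 → (Ext.mk₀ (atObj V)).comp ξ (zero_add (m + 2)) = 0 →
      Subsingleton (Ext.{u + 1} ((P W).obj Z) G (m + 1)) → ξ = 0 := by
  haveI := enoughInjectives_abEt W
  haveI := additive_restr j he
  haveI := preservesInjective_restr j he
  induction m with
  | zero =>
    intro G ξ hU hV hZ
    let T := SiteCoh.embedSeq G
    have hT : T.ShortExact := SiteCoh.embedSeq_shortExact G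
    obtain ⟨x₃, rfl⟩ := Ext.covariant_sequence_exact₁ (constZ W) hT ξ (Ext.eq_zero_of_injective _) rfl
    haveI : Injective ((T.map (restr j he)).X₂) := (restr j he).injective_obj_of_injective inferInstance
    rw [resCls_comp_extClass] at hU
    obtain ⟨a, ha⟩ := Ext.covariant_sequence_exact₃ (constZ U) (shortExact_restr j he hT) _ rfl hU
    have hU' : resCls j he x₃ = 0 := by rw [← ha, Ext.eq_zero_of_injective a, Ext.zero_comp]
    rw [← Ext.comp_assoc _ _ _ (zero_add (0 + 1)) (rfl : (0 + 1) + 1 = 0 + 1 + 1) (by omega)] at hV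
    obtain ⟨b, hb⟩ := Ext.covariant_sequence_exact₃ ((P W).obj V) hT _ rfl hV
    have hV' : (Ext.mk₀ (atObj V)).comp x₃ (zero_add (0 + 1)) = 0 := by
      rw [← hb, Ext.eq_zero_of_injective b, Ext.zero_comp]
    have hs : Function.Surjective (T.X₃.obj.map q.op) := fun y => by
      haveI := hZ
      obtain ⟨ψ, hψ⟩ := SiteCoh.exists_lift_of_subsingleton_ext_one hT ((P W).obj Z) (σ.symm y)
      haveI := D.monoQ
      obtain ⟨i', hi'⟩ := exists_extend T.X₂ q (σ ψ)
      exact ⟨T.g.hom.app (op V) i', by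
        rw [← NatTrans.naturality_apply, hi', ← σ_comp, hψ, Equiv.apply_symm_apply]⟩
    rw [eq_zero_deg_one D T.X₃ x₃ hU' hV' hs, Ext.zero_comp]
  | succ m ih =>
    intro G ξ hU hV hZ
    let T := SiteCoh.embedSeq G
    have hT : T.ShortExact := SiteCoh.embedSeq_shortExact G
    obtain ⟨x₃, rfl⟩ := Ext.covariant_sequence_exact₁ (constZ W) hT ξ (Ext.eq_zero_of_injective _) rfl
    haveI : Injective ((T.map (restr j he)).X₂) := (restr j he).injective_obj_of_injective inferInstance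
    rw [resCls_comp_extClass] at hU
    obtain ⟨a, ha⟩ := Ext.covariant_sequence_exact₃ (constZ U) (shortExact_restr j he hT) _ rfl hU
    have hU' : resCls j he x₃ = 0 := by rw [← ha, Ext.eq_zero_of_injective a, Ext.zero_comp]
    rw [← Ext.comp_assoc _ _ _ (zero_add (m + 2)) (rfl : (m + 2) + 1 = m + 2 + 1) (by omega)] at hV
    obtain ⟨b, hb⟩ := Ext.covariant_sequence_exact₃ ((P W).obj V) hT _ rfl hV
    have hV' : (Ext.mk₀ (atObj V)).comp x₃ (zero_add (m + 2)) = 0 := by
      rw [← hb, Ext.eq_zero_of_injective b, Ext.zero_comp]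
    haveI : Subsingleton (Ext.{u + 1} ((P W).obj Z) T.X₁ (m + 1 + 1)) := hZ
    rw [ih T.X₃ x₃ hU' hV' (SiteCoh.subsingleton_ext_quotient hT ((P W).obj Z) (m + 1)), Ext.zero_comp]

end Groth.Agent.EtVan
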