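import Groth.Agent.EtVan.MVVanish
import Mathlib.Algebra.Homology.DerivedCategory.Ext.ExactSequences

/-!
The Mayer-Vietoris sequence of free sheaves for two open pieces of an object.
-/

set_option autoImplicit false
set_option linter.style.haveILetI false
set_option backward.isDefEq.respectTransparency false

universe u

noncomputable section

open CategoryTheory CategoryTheory.Limits CategoryTheory.Abelian AlgebraicGeometry Opposite AlgSp
open Groth.Agent.AlgSpLib Groth.Agent.EtQC

namespace Groth.Agent.EtVan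

variable {S : Scheme.{u}} {X : Sp S} {E : EtOver X}

/-- the inclusion of a smaller open piece -/
def openLE {O O' : E.obj.left.left.Opens} (h : O ≤ O') : openObj E O ⟶ openObj E O' :=
  EtOver.homMk (E := openObj E O) (E' := openObj E O')
    (Over.homMk (E.obj.left.left.homOfLE h) (Scheme.homOfLE_ι_assoc _ h _)) (by
      show (yon S).map _ ≫ (yon S).map _ ≫ E.obj.hom = (yon S).map _ ≫ E.obj.hom
      rw [← Category.assoc, ← Functor.map_comp]
      congr 2
      ext1
      exact Scheme.homOfLE_ι _ h)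

theorem openLE_hom {O O' : E.obj.left.left.Opens} (h : O ≤ O') : openLE h ≫ openHom E O' = openHom E O :=
  EtOver.hom_ext _ _ (Over.OverMorphism.ext (Scheme.homOfLE_ι _ h))

instance mono_openHom (O : E.obj.left.left.Opens) : Mono (openHom E O) :=
  ⟨fun a b h => EtOver.hom_ext _ _ (Over.OverMorphism.ext ((cancel_mono O.ι).1
    (congrArg (fun k => k.hom.left.left) h)))⟩

instance mono_openLE {O O' : E.obj.left.left.Opens} (h : O ≤ O') : Mono (openLE h) :=
  haveI : Mono (openLE h ≫ openHom E O') := by rw [openLE_hom]; infer_instance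
  mono_of_mono (openLE h) (openHom E O')

theorem openLE_comp {O O' O'' : E.obj.left.left.Opens} (h : O ≤ O') (h' : O' ≤ O'') :
    openLE h ≫ openLE h' = openLE (h.trans h') := by
  rw [← cancel_mono (openHom E O''), Category.assoc, openLE_hom, openLE_hom, openLE_hom]

theorem openLE_refl (O : E.obj.left.left.Opens) : openLE (le_refl O) = 𝟙 _ := by
  rw [← cancel_mono (openHom E O), openLE_hom, Category.id_comp]

theorem mem_range_openLE {O O' : E.obj.left.left.Opens} (h : O ≤ O') (x : (openObj E O').obj.left.left)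
    (hx : (openHom E O').hom.left.left x ∈ O) : x ∈ Set.range (openLE h).hom.left.left :=
  ⟨⟨_, hx⟩, O'.ι.isOpenEmbedding.injective
    (congrArg (fun k : openObj E O ⟶ E => k.hom.left.left ⟨_, hx⟩) (openLE_hom h))⟩

theorem exists_lift_open {O : E.obj.left.left.Opens} {T : EtOver X} (g : T ⟶ E)
    (h : ∀ t, g.hom.left.left t ∈ O) : ∃ g' : T ⟶ openObj E O, g' ≫ openHom E O = g := by
  have hr : Set.range g.hom.left.left ⊆ Set.range O.ι := by
    rintro _ ⟨t, rfl⟩
    rw [Scheme.Opens.range_ι]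
    exact h t
  refine ⟨EtOver.homMk (E := T) (E' := openObj E O)
    (Over.homMk (IsOpenImmersion.lift O.ι g.hom.left.left hr) ?_) ?_, ?_⟩
  · show IsOpenImmersion.lift O.ι g.hom.left.left hr ≫ O.ι ≫ E.obj.left.hom = _
    rw [IsOpenImmersion.lift_fac_assoc]
    exact Over.w g.hom.left
  · show (yon S).map _ ≫ (yon S).map _ ≫ E.obj.hom = T.obj.hom
    rw [← Category.assoc, ← Functor.map_comp, ← EtOver.w g]
    congr 2
    ext1
    exact IsOpenImmersion.lift_fac _ _ _
  · exact EtOver.hom_ext _ _ (Over.OverMorphism.ext (IsOpenImmersion.lift_fac _ _ _))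

variable {A B Z U : E.obj.left.left.Opens}

/-- the sequence of two open pieces -/
def mvSeq (hZA : Z ≤ A) (hZB : Z ≤ B) (hAU : A ≤ U) (hBU : B ≤ U) : ShortComplex (AbEt X) :=
  ShortComplex.mk (biprod.lift ((P X).map (openLE hZA)) (-(P X).map (openLE hZB)))
    (biprod.desc ((P X).map (openLE hAU)) ((P X).map (openLE hBU))) (by
      rw [biprod.lift_desc, Preadditive.neg_comp, ← Functor.map_comp, ← Functor.map_comp, openLE_comp, openLE_comp,
        add_neg_cancel])

theorem exists_desc_mvSeq (hZA : Z ≤ A) (hZB : Z ≤ B) (hAU : A ≤ U) (hBU : B ≤ U)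
    (hU : U ≤ A ⊔ B) (hZ : A ⊓ B ≤ Z) {G : AbEt X} (a : sect G (openObj E A)) (b : sect G (openObj E B))
    (hab : G.obj.map (openLE hZA).op a = G.obj.map (openLE hZB).op b) :
    ∃ t : sect G (openObj E U), G.obj.map (openLE hAU).op t = a ∧ G.obj.map (openLE hBU).op t = b := by
  let piece : ULift.{u} Bool → EtOver X := fun c => bif c.down then openObj E A else openObj E B
  let h : ∀ c, piece c ⟶ openObj E U := fun c => match c with
    | ⟨true⟩ => openLE hAU
    | ⟨false⟩ => openLE hBU
  let s : ∀ c, sect G (piece c) := fun c => match c with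
    | ⟨true⟩ => a
    | ⟨false⟩ => b
  have hc : ∀ x, ∃ c, x ∈ Set.range (h c).hom.left.left := fun x => by
    have hx : (openHom E U).hom.left.left x ∈ A ⊔ B := hU x.2
    rcases hx with hx | hx
    · exact ⟨⟨true⟩, mem_range_openLE hAU x hx⟩
    · exact ⟨⟨false⟩, mem_range_openLE hBU x hx⟩
  have mixed : ∀ {T : EtOver X} (p : T ⟶ openObj E A) (q : T ⟶ openObj E B), p ≫ openLE hAU = q ≫ openLE hBU →
      G.obj.map p.op a = G.obj.map q.op b := fun {T} p q e => by
    have e' : p ≫ openHom E A = q ≫ openHom E B := by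
      rw [← openLE_hom hAU, ← openLE_hom hBU, ← Category.assoc, e, Category.assoc]
    obtain ⟨r, hr⟩ := exists_lift_open (O := Z) (p ≫ openHom E A) fun t => hZ ⟨(p.hom.left.left t).2, by
      rw [e']
      exact (q.hom.left.left t).2⟩
    have hp : r ≫ openLE hZA = p := by rw [← cancel_mono (openHom E A), Category.assoc, openLE_hom, hr]
    have hq : r ≫ openLE hZB = q := by rw [← cancel_mono (openHom E B), Category.assoc, openLE_hom, hr, e']
    rw [← hp, ← hq, op_comp, op_comp, G.obj.map_comp, G.obj.map_comp, ConcreteCategory.comp_apply,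
      ConcreteCategory.comp_apply, hab]
  obtain ⟨t, ht⟩ := exists_glue_ab G h hc s fun c c' => by
    have e := pb_condition (h c) (h c')
    rcases c with ⟨_ | _⟩ <;> rcases c' with ⟨_ | _⟩
    · rw [(cancel_mono (openLE hBU)).1 e]
    · exact (mixed _ _ e.symm).symm
    · exact mixed _ _ e
    · rw [(cancel_mono (openLE hAU)).1 e]
  exact ⟨t, ht ⟨true⟩, ht ⟨false⟩⟩

theorem eq_of_mvSeq (hAU : A ≤ U) (hBU : B ≤ U) (hU : U ≤ A ⊔ B) {G : AbEt X} (t t' : sect G (openObj E U))
    (hA : G.obj.map (openLE hAU).op t = G.obj.map (openLE hAU).op t')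
    (hB : G.obj.map (openLE hBU).op t = G.obj.map (openLE hBU).op t') : t = t' := by
  let piece : ULift.{u} Bool → EtOver X := fun c => bif c.down then openObj E A else openObj E B
  let h : ∀ c, piece c ⟶ openObj E U := fun c => match c with
    | ⟨true⟩ => openLE hAU
    | ⟨false⟩ => openLE hBU
  refine eq_of_cover_ab G h (fun x => ?_) fun c => ?_
  · have hx : (openHom E U).hom.left.left x ∈ A ⊔ B := hU x.2
    rcases hx with hx | hx
    · exact ⟨⟨true⟩, mem_range_openLE hAU x hx⟩
    · exact ⟨⟨false⟩, mem_range_openLE hBU x hx⟩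
  · rcases c with ⟨_ | _⟩
    · exact hB
    · exact hA

theorem σ_neg {o : EtOver X} {G : AbEt X} (φ : (P X).obj o ⟶ G) : σ (-φ) = -σ φ :=
  eq_neg_of_add_eq_zero_left (by rw [← σ_add, neg_add_cancel, σ_zero])

theorem mvSeq_shortExact (hZA : Z ≤ A) (hZB : Z ≤ B) (hAU : A ≤ U) (hBU : B ≤ U)
    (hU : U ≤ A ⊔ B) (hZ : A ⊓ B ≤ Z) : (mvSeq hZA hZB hAU hBU).ShortExact := by
  have key : ∀ {G : AbEt X} (k : (mvSeq hZA hZB hAU hBU).X₂ ⟶ G), (mvSeq hZA hZB hAU hBU).f ≫ k = 0 →
      ∃ d, (mvSeq hZA hZB hAU hBU).g ≫ d = k := fun {G} k hk => by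
    have hk' : (P X).map (openLE hZA) ≫ biprod.inl ≫ k + (-((P X).map (openLE hZB) ≫ biprod.inr ≫ k)) = 0 := by
      have : biprod.lift ((P X).map (openLE hZA)) (-(P X).map (openLE hZB)) ≫ k = 0 := hk
      rw [biprod.lift_eq, Preadditive.add_comp, Category.assoc, Category.assoc, Preadditive.neg_comp] at this
      exact this
    have hab := congrArg σ hk'
    rw [σ_add, σ_neg, σ_zero, σ_map, σ_map, ← sub_eq_add_neg, sub_eq_zero] at hab
    obtain ⟨t, ha, hb⟩ := exists_desc_mvSeq hZA hZB hAU hBU hU hZ _ _ hab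
    refine ⟨σ.symm t, biprod.hom_ext' _ _ ?_ ?_⟩
    · rw [← Category.assoc]
      show (biprod.inl ≫ biprod.desc _ _) ≫ σ.symm t = _
      rw [biprod.inl_desc]
      exact σ.injective (by rw [σ_map, Equiv.apply_symm_apply, ha])
    · rw [← Category.assoc]
      show (biprod.inr ≫ biprod.desc _ _) ≫ σ.symm t = _
      rw [biprod.inr_desc]
      exact σ.injective (by rw [σ_map, Equiv.apply_symm_apply, hb])
  haveI hepi : Epi (mvSeq hZA hZB hAU hBU).g := ⟨fun {G} d d' e => by
    have e₁ := congrArg (fun z => σ (biprod.inl ≫ z)) e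
    have e₂ := congrArg (fun z => σ (biprod.inr ≫ z)) e
    simp only [mvSeq, biprod.inl_desc_assoc, biprod.inr_desc_assoc, σ_map] at e₁ e₂
    exact σ.injective (eq_of_mvSeq hAU hBU hU _ _ e₁ e₂)⟩
  haveI : Mono (mvSeq hZA hZB hAU hBU).f := by
    haveI : Mono ((P X).map (openLE hZA)) := monoP_map _
    haveI : Mono (biprod.lift ((P X).map (openLE hZA)) (-(P X).map (openLE hZB)) ≫ biprod.fst) := by
      rw [biprod.lift_fst]; infer_instance
    exact mono_of_mono (biprod.lift ((P X).map (openLE hZA)) (-(P X).map (openLE hZB))) biprod.fst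
  refine ShortComplex.ShortExact.mk' (ShortComplex.exact_of_g_is_cokernel _ ?_) inferInstance inferInstance
  exact CokernelCofork.IsColimit.ofπ _ _ (fun k hk => (key k hk).choose) (fun k hk => (key k hk).choose_spec)
    (fun k hk m hm => (cancel_epi _).1 (hm.trans (key k hk).choose_spec.symm))

/-- a map of squares -/
def mvSeqMap {A' B' Z' U' : E.obj.left.left.Opens} (hZA : Z ≤ A) (hZB : Z ≤ B) (hAU : A ≤ U) (hBU : B ≤ U)
    (hZA' : Z' ≤ A') (hZB' : Z' ≤ B') (hAU' : A' ≤ U') (hBU' : B' ≤ U') (hA : A' ≤ A) (hB : B' ≤ B) (hZ : Z' ≤ Z)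
    (hU : U' ≤ U) : mvSeq hZA' hZB' hAU' hBU' ⟶ mvSeq hZA hZB hAU hBU where
  τ₁ := (P X).map (openLE hZ)
  τ₂ := biprod.map ((P X).map (openLE hA)) ((P X).map (openLE hB))
  τ₃ := (P X).map (openLE hU)
  comm₁₂ := by
    apply biprod.hom_ext <;>
      simp [mvSeq, biprod.map, ← Functor.map_comp, openLE_comp, Preadditive.comp_neg]
  comm₂₃ := by
    apply biprod.hom_ext' <;> simp [mvSeq, ← Functor.map_comp, openLE_comp]

end Groth.Agent.EtVan
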