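import Groth.Agent.EtVan.Kill

/-!
For an object `V` over a terminal object, the endofunctor `G ↦ G (- × V)`: a class that dies on `V` and is of
the lowest non-acyclic degree dies under the unit of this functor.
-/

set_option autoImplicit false
set_option linter.style.haveILetI false
set_option backward.isDefEq.respectTransparency false

universe u

noncomputable section

open CategoryTheory CategoryTheory.Limits CategoryTheory.Abelian AlgebraicGeometry Opposite AlgSp
open Groth.Agent.EtQC (postBcAdj)

namespace Groth.Agent.EtVan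

variable {S : Scheme.{u}} {X : Sp S} (V : EtOver X)

theorem isEtaleMor_hom : IsEtaleMor V.obj.hom := fun _ _ hφ =>
  Groth.Agent.AlgSpLib.repWith_comp hφ V.property

theorem representable_hom : Representable V.obj.hom := V.property.1

/-- the product with `V` -/
abbrev times : EtOver X ⥤ EtOver X :=
  EtOver.bc (representable_hom V) ⋙ EtOver.postcomp V.obj.hom (isEtaleMor_hom V)

/-- the first projection -/
def fstProd (W : EtOver X) : (times V).obj W ⟶ W :=
  (postBcAdj (representable_hom V) (isEtaleMor_hom V)).counit.app W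

/-- the second projection -/
def sndProd (W : EtOver X) : (times V).obj W ⟶ V :=
  EtOver.homMk ((yon S).preimage ((representable_hom V).fst W.obj.hom)) (by
    rw [(yon S).map_preimage]
    rfl)

theorem isAffine_times {E0 : EtOver X} (hT : IsTerminal E0) [E0.obj.left.left.IsSeparated] [IsAffine V.obj.left.left]
    (W : EtOver X) [IsAffine W.obj.left.left] : IsAffine ((times V).obj W).obj.left.left := by
  let hf := representable_hom V
  let p := Groth.Agent.EtQC.pb (hT.from W) (hT.from V)
  let p1 := Groth.Agent.EtQC.pbFst (hT.from W) (hT.from V)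
  let p2 := Groth.Agent.EtQC.pbSnd (hT.from W) (hT.from V)
  haveI : IsSeparated (terminal.from E0.obj.left.left) := Scheme.IsSeparated.isSeparated_terminal_from
  haveI : IsAffineHom ((hT.from V).hom.left.left ≫ terminal.from E0.obj.left.left) := by
    rw [terminal.hom_ext (_ ≫ terminal.from E0.obj.left.left) (terminal.from V.obj.left.left)]
    infer_instance
  haveI : IsAffineHom (hT.from V).hom.left.left := IsAffineHom.of_comp _ (terminal.from E0.obj.left.left)
  haveI : IsAffine p.obj.left.left :=
    inferInstanceAs (IsAffine (pullback (hT.from W).hom.left.left (hT.from V).hom.left.left))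
  let a : (times V).obj W ⟶ p :=
    Groth.Agent.EtQC.pbLift (hT.from W) (hT.from V) (fstProd V W) (sndProd V W) (hT.hom_ext _ _)
  have hfst : ((times V).obj W).obj.left = hf.pullback W.obj.hom := rfl
  let m : p.obj.left ⟶ hf.pullback W.obj.hom :=
    hf.lift ((yon S).map p2.hom.left) p1.hom.left ((EtOver.w p2).trans (EtOver.w p1).symm)
  let b : p ⟶ (times V).obj W := EtOver.homMk (E' := (times V).obj W) m (by
    show (yon S).map m ≫ hf.fst W.obj.hom ≫ V.obj.hom = p.obj.hom
    rw [← Category.assoc, hf.lift_fst]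
    exact EtOver.w p2)
  have hab : a ≫ b = 𝟙 _ := EtOver.hom_ext _ _ (hf.hom_ext (by
      show (yon S).map (a.hom.left ≫ m) ≫ hf.fst W.obj.hom = (yon S).map (𝟙 _) ≫ hf.fst W.obj.hom
      rw [Functor.map_comp, Category.assoc, hf.lift_fst, CategoryTheory.Functor.map_id, Category.id_comp,
        ← Functor.map_comp]
      rw [show a.hom.left ≫ p2.hom.left = (sndProd V W).hom.left from
        congrArg (fun k : (times V).obj W ⟶ _ => k.hom.left) (Groth.Agent.EtQC.pbLift_snd (hT.from W) (hT.from V) _ _ _)]
      exact (yon S).map_preimage _) (by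
      show (a.hom.left ≫ m) ≫ hf.snd W.obj.hom = 𝟙 _ ≫ hf.snd W.obj.hom
      rw [Category.assoc, hf.lift_snd, Category.id_comp,
        show a.hom.left ≫ p1.hom.left = (fstProd V W).hom.left from
          congrArg (fun k : (times V).obj W ⟶ _ => k.hom.left) (Groth.Agent.EtQC.pbLift_fst (hT.from W) (hT.from V) _ _ _)]
      exact Groth.Agent.EtQC.postBcAdj_counit _ _ W))
  have hba : b ≫ a = 𝟙 _ := by
    have hw := hf.lift_fst ((yon S).map p2.hom.left) p1.hom.left ((EtOver.w p2).trans (EtOver.w p1).symm)
    have h1 : b ≫ fstProd V W = p1 := EtOver.hom_ext _ _ (by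
      show m ≫ (fstProd V W).hom.left = p1.hom.left
      rw [show (fstProd V W).hom.left = hf.snd W.obj.hom from Groth.Agent.EtQC.postBcAdj_counit _ _ W]
      exact hf.lift_snd _ _ _)
    have h2 : b ≫ sndProd V W = p2 := EtOver.hom_ext _ _ ((yon S).map_injective (by
      show (yon S).map (m ≫ (yon S).preimage (hf.fst W.obj.hom)) = _
      rw [Functor.map_comp, (yon S).map_preimage]
      exact hw))
    refine EtOver.hom_ext _ _ ?_
    apply Over.OverMorphism.ext
    apply pullback.hom_ext
    · show (b.hom.left.left ≫ a.hom.left.left) ≫ p1.hom.left.left = 𝟙 _ ≫ p1.hom.left.left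
      rw [Category.id_comp, Category.assoc,
        show a.hom.left.left ≫ p1.hom.left.left = (fstProd V W).hom.left.left from
          congrArg (fun k : (times V).obj W ⟶ _ => k.hom.left.left) (Groth.Agent.EtQC.pbLift_fst (hT.from W) (hT.from V) _ _ _)]
      exact congrArg (fun k => k.hom.left.left) h1
    · show (b.hom.left.left ≫ a.hom.left.left) ≫ p2.hom.left.left = 𝟙 _ ≫ p2.hom.left.left
      rw [Category.id_comp, Category.assoc,
        show a.hom.left.left ≫ p2.hom.left.left = (sndProd V W).hom.left.left from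
          congrArg (fun k : (times V).obj W ⟶ _ => k.hom.left.left) (Groth.Agent.EtQC.pbLift_snd (hT.from W) (hT.from V) _ _ _)]
      exact congrArg (fun k => k.hom.left.left) h2
  let e : (times V).obj W ≅ p := ⟨a, b, hab, hba⟩
  haveI : IsAffine ((EtOver.forget X ⋙ Over.forget S).obj p) := ‹IsAffine p.obj.left.left›
  exact IsAffine.of_isIso ((EtOver.forget X ⋙ Over.forget S).mapIso e).hom

/-- `G ↦ G (- × V)` -/
abbrev hFun : AbEt X ⥤ AbEt X :=
  restr V.obj.hom (isEtaleMor_hom V) ⋙ pushEt (representable_hom V) AddCommGrpCat.{u + 1}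

/-- the unit -/
def etaH (G : AbEt X) : G ⟶ (hFun V).obj G :=
  ObjectProperty.homMk
    { app := fun W => G.obj.map (fstProd V W.unop).op
      naturality := fun W W' g => by
        show G.obj.map g ≫ G.obj.map (fstProd V W'.unop).op =
          G.obj.map (fstProd V W.unop).op ≫ G.obj.map ((times V).map g.unop).op
        rw [← G.obj.map_comp, ← G.obj.map_comp]
        exact congrArg G.obj.map (Quiver.Hom.unop_inj
          ((postBcAdj (representable_hom V) (isEtaleMor_hom V)).counit.naturality g.unop).symm) }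

theorem etaH_naturality {G G' : AbEt X} (k : G ⟶ G') : etaH V G ≫ (hFun V).map k = k ≫ etaH V G' := by
  refine Sheaf.hom_ext (NatTrans.ext (funext fun W => ?_))
  exact k.hom.naturality (fstProd V W.unop).op

theorem preservesFiniteLimits_hFun : PreservesFiniteLimits (hFun V) := by
  haveI : PreservesFiniteLimits (hFun V ⋙ sheafToPresheaf (etTop X) AddCommGrpCat.{u + 1}) :=
    comp_preservesFiniteLimits (sheafToPresheaf (etTop X) AddCommGrpCat.{u + 1})
      ((Functor.whiskeringLeft _ _ AddCommGrpCat.{u + 1}).obj (times V).op)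
  exact preservesFiniteLimits_of_reflects_of_preserves _ (sheafToPresheaf (etTop X) AddCommGrpCat.{u + 1})

theorem additive_hFun : (hFun V).Additive :=
  haveI := preservesFiniteLimits_hFun V
  Functor.additive_of_preserves_binary_products (hFun V)

/-- acyclic on affine objects in degrees `1, …, p` -/
def Acyc (p : ℕ) (G : AbEt X) : Prop :=
  ∀ (W : EtOver X), IsAffine W.obj.left.left → ∀ i : ℕ, i < p → Subsingleton (Ext.{u + 1} ((P X).obj W) G (i + 1))

variable {V}

theorem comp_etaH_eq_zero {E0 : EtOver X} (hT : IsTerminal E0) [E0.obj.left.left.IsSeparated]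
    [IsAffine V.obj.left.left] (p : ℕ) :
    ∀ (G : AbEt X), Acyc p G → ∀ (ξ : Ext.{u + 1} ((P X).obj E0) G (p + 1)), rcls (hT.from V) ξ = 0 →
      ξ.comp (Ext.mk₀ (etaH V G)) (add_zero (p + 1)) = 0 := by
  haveI := enoughInjectives_abEt X
  haveI := preservesFiniteLimits_hFun V
  haveI := additive_hFun V
  induction p with
  | zero =>
    intro G _ ξ hξ
    let T := SiteCoh.embedSeq G
    have hTT : T.ShortExact := SiteCoh.embedSeq_shortExact G
    obtain ⟨x₃, rfl⟩ := Ext.covariant_sequence_exact₁ ((P X).obj E0) hTT ξ (Ext.eq_zero_of_injective _) rfl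
    obtain ⟨φ, rfl⟩ := (Ext.mk₀_bijective _ _).2 x₃
    rw [rcls, Ext.mk₀_comp_mk₀_assoc] at hξ
    obtain ⟨z, hz⟩ := Ext.covariant_sequence_exact₃ ((P X).obj V) hTT (Ext.mk₀ ((P X).map (hT.from V) ≫ φ))
      (zero_add 1) hξ
    obtain ⟨ψ, rfl⟩ := (Ext.mk₀_bijective _ _).2 z
    have hψ : ψ ≫ T.g = (P X).map (hT.from V) ≫ φ := (Ext.mk₀_bijective _ _).1 (by rw [← hz, Ext.mk₀_comp_mk₀])
    haveI := hTT.mono_f
    haveI : Mono ((hFun V).map T.f) := inferInstance
    let T' : ShortComplex (AbEt X) :=
      ShortComplex.mk ((hFun V).map T.f) (cokernel.π ((hFun V).map T.f)) (cokernel.condition _)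
    have hT' : T'.ShortExact :=
      { exact := ShortComplex.exact_of_g_is_cokernel _ (cokernelIsCokernel T'.f)
        mono_f := inferInstanceAs (Mono ((hFun V).map T.f))
        epi_g := inferInstanceAs (Epi (cokernel.π _)) }
    let τ₃ : T.X₃ ⟶ T'.X₃ := cokernel.desc (Injective.ι G)
      (etaH V T.X₂ ≫ cokernel.π ((hFun V).map T.f)) (by
        show T.f ≫ _ = 0
        rw [← Category.assoc, ← etaH_naturality, Category.assoc, cokernel.condition, comp_zero])
    let F : T ⟶ T' :=
      { τ₁ := etaH V T.X₁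
        τ₂ := etaH V T.X₂
        τ₃ := τ₃
        comm₁₂ := etaH_naturality V T.f
        comm₂₃ := (cokernel.π_desc _ _ _).symm }
    let κ : T'.X₃ ⟶ (hFun V).obj T.X₃ := cokernel.desc _ ((hFun V).map T.g)
      (by rw [← Functor.map_comp, T.zero, Functor.map_zero])
    have hκ : Mono κ := by
      have hex : (T.map (hFun V)).Exact :=
        ShortComplex.exact_of_f_is_kernel _ (KernelFork.mapIsLimit _ hTT.fIsKernel (hFun V))
      exact hex.mono_cokernelDesc
    have h3 : τ₃ ≫ κ = etaH V T.X₃ := by
      rw [← cancel_epi (cokernel.π (Injective.ι G)), cokernel.π_desc_assoc, Category.assoc, cokernel.π_desc]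
      exact etaH_naturality V T.g
    let t : (P X).obj E0 ⟶ (hFun V).obj T.X₂ :=
      σ.symm (T.X₂.obj.map (sndProd V E0).op (σ ψ) : sect ((hFun V).obj T.X₂) E0)
    have ht : t ≫ (hFun V).map T.g = φ ≫ etaH V T.X₃ := by
      apply σ.injective
      rw [σ_comp, σ_comp, Equiv.apply_symm_apply]
      show T.g.hom.app (op ((times V).obj E0)) (T.X₂.obj.map (sndProd V E0).op (σ ψ)) =
        T.X₃.obj.map (fstProd V E0).op (σ φ)
      rw [NatTrans.naturality_apply, ← σ_comp, hψ, σ_map, ← ConcreteCategory.comp_apply, ← T.X₃.obj.map_comp,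
        ← op_comp, hT.hom_ext (sndProd V E0 ≫ hT.from V) (fstProd V E0)]
    have h4 : φ ≫ τ₃ = t ≫ T'.g := by
      haveI := hκ
      rw [← cancel_mono κ, Category.assoc, h3, Category.assoc, cokernel.π_desc, ht]
    rw [Ext.comp_assoc _ _ _ (zero_add 1) (add_zero 1) (by omega)]
    erw [ShortComplex.ShortExact.extClass_naturality hTT hT' F]
    rw [Ext.mk₀_comp_mk₀_assoc]
    show (Ext.mk₀ (φ ≫ τ₃)).comp hT'.extClass _ = 0
    rw [h4, ← Ext.mk₀_comp_mk₀, Ext.comp_assoc _ _ _ (zero_add 0) (zero_add 1) (by omega), hT'.comp_extClass,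
      Ext.comp_zero]
  | succ p ih =>
    intro G hG ξ hξ
    let T := SiteCoh.embedSeq G
    have hTT : T.ShortExact := SiteCoh.embedSeq_shortExact G
    obtain ⟨x₃, rfl⟩ := Ext.covariant_sequence_exact₁ ((P X).obj E0) hTT ξ (Ext.eq_zero_of_injective _) rfl
    have hx : rcls (hT.from V) x₃ = 0 := by
      rw [rcls, ← Ext.comp_assoc _ _ _ (zero_add (p + 1)) (rfl : (p + 1) + 1 = p + 1 + 1) (by omega)] at hξ
      obtain ⟨z, hz⟩ := Ext.covariant_sequence_exact₃ ((P X).obj V) hTT
        ((Ext.mk₀ ((P X).map (hT.from V))).comp x₃ (zero_add (p + 1))) rfl hξ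
      rw [rcls, ← hz, Ext.eq_zero_of_injective z, Ext.zero_comp]
    have hA : Acyc p T.X₃ := fun W hW i hi => by
      haveI : Subsingleton (Ext.{u + 1} ((P X).obj W) T.X₁ (i + 1 + 1)) := hG W hW (i + 1) (by omega)
      exact SiteCoh.subsingleton_ext_quotient hTT ((P X).obj W) (i + 1)
    have hz := ih T.X₃ hA x₃ hx
    have hH : (T.map (hFun V)).ShortExact := by
      haveI := hTT.mono_f
      refine { exact := ShortComplex.exact_of_f_is_kernel _ (KernelFork.mapIsLimit _ hTT.fIsKernel (hFun V))
               mono_f := inferInstanceAs (Mono ((hFun V).map T.f))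
               epi_g := ?_ }
      refine epi_of_surjective_affine _ fun W hW => ?_
      haveI := hW
      haveI := isAffine_times V hT W
      exact surjective_sections hTT ((times V).obj W) (hG _ inferInstance 0 (Nat.succ_pos p))
    let F : T ⟶ T.map (hFun V) :=
      { τ₁ := etaH V T.X₁
        τ₂ := etaH V T.X₂
        τ₃ := etaH V T.X₃
        comm₁₂ := etaH_naturality V T.f
        comm₂₃ := etaH_naturality V T.g }
    rw [Ext.comp_assoc _ _ _ (rfl : (p + 1) + 1 = p + 1 + 1) (add_zero 1) (by omega)]
    erw [ShortComplex.ShortExact.extClass_naturality hTT hH F]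
    rw [← Ext.comp_assoc _ _ _ (add_zero (p + 1)) (zero_add 1) (by omega)]
    show (x₃.comp (Ext.mk₀ (etaH V T.X₃)) (add_zero (p + 1))).comp hH.extClass _ = 0
    rw [hz, Ext.zero_comp]

end Groth.Agent.EtVan
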