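import Groth.Agent.EtVan.Leray

/-!
Maps out of the constant sheaf as compatible families of sections, and restriction of global classes.
-/

set_option autoImplicit false
set_option linter.style.haveILetI false
set_option backward.isDefEq.respectTransparency false

universe u

noncomputable section

open CategoryTheory CategoryTheory.Limits CategoryTheory.Abelian AlgebraicGeometry Opposite AlgSp

namespace Groth.Agent.EtVan

variable {S : Scheme.{u}} {X Y : Sp S}

/-- the value of a map out of the constant sheaf at an object -/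
def val {G : AbEt X} (φ : constZ X ⟶ G) (T : EtOver X) : sect G T :=
  (((sheafificationAdjunction (etTop X) AddCommGrpCat.{u + 1}).homEquiv ((Functor.const (EtOver X)ᵒᵖ).obj ZZ.{u}) G)
    φ).app (op T) ⟨1⟩

theorem map_val {G : AbEt X} (φ : constZ X ⟶ G) {T T' : EtOver X} (g : T' ⟶ T) :
    G.obj.map g.op (val φ T) = val φ T' :=
  (NatTrans.naturality_apply (((sheafificationAdjunction (etTop X) AddCommGrpCat.{u + 1}).homEquiv
    ((Functor.const (EtOver X)ᵒᵖ).obj ZZ.{u}) G) φ) g.op (⟨1⟩ : ULift.{u + 1} ℤ)).symm

theorem val_ext {G : AbEt X} {φ φ' : constZ X ⟶ G} (h : ∀ T, val φ T = val φ' T) : φ = φ' :=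
  ((sheafificationAdjunction (etTop X) AddCommGrpCat.{u + 1}).homEquiv ((Functor.const (EtOver X)ᵒᵖ).obj ZZ.{u}) G).injective
    (NatTrans.ext (funext fun W => zz_hom_ext _ _ (h W.unop)))

theorem val_comp {G G' : AbEt X} (φ : constZ X ⟶ G) (k : G ⟶ G') (T : EtOver X) :
    val (φ ≫ k) T = k.hom.app (op T) (val φ T) :=
  congrArg (fun q => q.app (op T) ⟨1⟩)
    ((sheafificationAdjunction (etTop X) AddCommGrpCat.{u + 1}).homEquiv_naturality_right
      (X := (Functor.const (EtOver X)ᵒᵖ).obj ZZ.{u}) φ k)

/-- a compatible family of sections gives a map out of the constant sheaf -/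
theorem exists_val_eq {G : AbEt X} (x : ∀ T, sect G T)
    (hx : ∀ {T T' : EtOver X} (g : T' ⟶ T), G.obj.map g.op (x T) = x T') :
    ∃ φ : constZ X ⟶ G, ∀ T, val φ T = x T := by
  let q : (Functor.const (EtOver X)ᵒᵖ).obj ZZ.{u} ⟶ G.obj :=
    { app := fun W => AddCommGrpCat.ofHom ((zmultiplesHom (sect G W.unop) (x W.unop)).comp
        AddEquiv.ulift.toAddMonoidHom)
      naturality := fun W V g => zz_hom_ext _ _ (by
        show (1 : ℤ) • x V.unop = G.obj.map g ((1 : ℤ) • x W.unop)
        rw [one_zsmul, one_zsmul]
        exact (hx g.unop).symm) }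
  refine ⟨((sheafificationAdjunction (etTop X) AddCommGrpCat.{u + 1}).homEquiv _ G).symm q, fun T => ?_⟩
  unfold val
  rw [Equiv.apply_symm_apply]
  exact one_zsmul (x T)

/-- the generator of the constant sheaf at an object -/
def atObj (E : EtOver X) : (P X).obj E ⟶ constZ X := σ.symm (val (𝟙 (constZ X)) E)

theorem σ_atObj_comp {G : AbEt X} (E : EtOver X) (φ : constZ X ⟶ G) : σ (atObj E ≫ φ) = val φ E := by
  rw [σ_comp, atObj, Equiv.apply_symm_apply, ← val_comp, Category.id_comp]

variable (f : X ⟶ Y) (he : IsEtaleMor f)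

/-- restriction of the generator of the constant sheaf -/
theorem exists_restrGen : ∃ c : constZ X ⟶ (restr f he).obj (constZ Y),
    ∀ T, val c T = (val (𝟙 (constZ Y)) ((EtOver.postcomp f he).obj T) : sect ((restr f he).obj (constZ Y)) T) :=
  exists_val_eq (G := (restr f he).obj (constZ Y)) (fun T => (val (𝟙 (constZ Y)) ((EtOver.postcomp f he).obj T) : sect ((restr f he).obj (constZ Y)) T))
    fun g => map_val (𝟙 (constZ Y)) ((EtOver.postcomp f he).map g)

/-- restriction of the generator of the constant sheaf -/
def restrGen : constZ X ⟶ (restr f he).obj (constZ Y) := (exists_restrGen f he).choose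

/-- restriction of a map out of the constant sheaf -/
def resMap {G : AbEt Y} (φ : constZ Y ⟶ G) : constZ X ⟶ (restr f he).obj G := restrGen f he ≫ (restr f he).map φ

theorem val_resMap {G : AbEt Y} (φ : constZ Y ⟶ G) (T : EtOver X) :
    val (resMap f he φ) T = val φ ((EtOver.postcomp f he).obj T) := by
  unfold resMap
  rw [val_comp, restrGen, (exists_restrGen f he).choose_spec]
  show φ.hom.app (op ((EtOver.postcomp f he).obj T)) _ = _
  rw [← val_comp, Category.id_comp]

/-- restriction of global classes -/
def resCls {G : AbEt Y} {n : ℕ} (x : Ext.{u + 1} (constZ Y) G n) :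
    Ext.{u + 1} (constZ X) ((restr f he).obj G) n :=
  haveI := preservesFiniteLimits_restr' f he
  haveI := additive_restr f he
  haveI := preservesFiniteColimits_restr f he
  EtMV.T (restr f he) (restrGen f he) G n x

theorem resCls_mk₀ {G : AbEt Y} (φ : constZ Y ⟶ G) : resCls f he (Ext.mk₀ φ) = Ext.mk₀ (resMap f he φ) := by
  haveI := preservesFiniteLimits_restr' f he
  haveI := additive_restr f he
  haveI := preservesFiniteColimits_restr f he
  exact EtMV.T_mk₀ (restr f he) (restrGen f he) φ

theorem shortExact_restr {T : ShortComplex (AbEt Y)} (hT : T.ShortExact) :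
    haveI := additive_restr f he
    (T.map (restr f he)).ShortExact := by
  haveI := preservesFiniteLimits_restr' f he
  haveI := additive_restr f he
  haveI := preservesFiniteColimits_restr f he
  exact hT.map_of_exact _

theorem resCls_comp_extClass {T : ShortComplex (AbEt Y)} (hT : T.ShortExact) {n : ℕ}
    (x : Ext.{u + 1} (constZ Y) T.X₃ n) :
    haveI := additive_restr f he
    resCls f he (x.comp hT.extClass rfl) = (resCls f he x).comp (shortExact_restr f he hT).extClass rfl := by
  haveI := preservesFiniteLimits_restr' f he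
  haveI := additive_restr f he
  haveI := preservesFiniteColimits_restr f he
  show EtMV.T (restr f he) (restrGen f he) _ _ (x.comp hT.extClass rfl) = _
  rw [EtMV.T_comp, Ext.mapExactFunctor_extClass]
  rfl

end Groth.Agent.EtVan
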